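import Groth.Agent.Dix.Cast4

/-!
# Two generators of an invertible module with vanishing Mayer-Vietoris obstruction generate its sections

The statement of `Cast4.wp4` over an open subset.
-/

set_option autoImplicit false
set_option backward.isDefEq.respectTransparency false
universe u

open CategoryTheory CategoryTheory.Limits AlgebraicGeometry Opposite TopologicalSpace

namespace Groth.Agent.Dix.C5gen

open Groth.Agent.Fdesc.LocGen Groth.Agent.Dix.Cast4

variable {X : Scheme.{u}}

/-- Gluing of two functions. -/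
lemma glueW {W U V : X.Opens} (h : U ⊔ V = W) (hU : U ≤ W) (hV : V ≤ W) (a : Γ(X, U)) (b : Γ(X, V))
    (hab : ores (inf_le_left : U ⊓ V ≤ U) a = ores (inf_le_right : U ⊓ V ≤ V) b) :
    ∃ c : Γ(X, W), ores hU c = a ∧ ores hV c = b := by
  let T : Bool → X.Opens := fun i => match i with
    | true => U
    | false => V
  let s : ∀ i, Γ(X, T i) := fun i => match i with
    | true => a
    | false => b
  have hcov : W ≤ ⨆ i, T i := by
    rw [← h]
    exact sup_le (le_iSup T true) (le_iSup T false)
  obtain ⟨t, ht⟩ := ores_glue T (fun i => match i with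
    | true => hU
    | false => hV) hcov s (by
    rintro (_ | _) (_ | _)
    · rfl
    · have h1 := congr(ores (le_inf inf_le_right inf_le_left : V ⊓ U ≤ U ⊓ V) $hab)
      rw [ores_ores, ores_ores] at h1
      exact h1.symm
    · exact hab
    · rfl)
  exact ⟨t, ht true, ht false⟩

lemma extW (M : X.Modules) {W U V : X.Opens} (h : U ⊔ V = W) (hU : U ≤ W) (hV : V ≤ W) {a b : Γ(M, W)}
    (h1 : res M hU a = res M hU b) (h2 : res M hV a = res M hV b) : a = b := by
  let T : Bool → X.Opens := fun i => match i with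
    | true => U
    | false => V
  have hcov : W ≤ ⨆ i, T i := by
    rw [← h]
    exact sup_le (le_iSup T true) (le_iSup T false)
  refine res_ext M T (fun i => match i with
    | true => hU
    | false => hV) hcov ?_
  rintro (_ | _)
  · exact h2
  · exact h1

/-- The Koszul argument over an open `W = U ∪ V`. -/
theorem exists_eq_smul_add_smul (I L : X.Modules) (hL : ClSub.IsInverseOf L I) {W U V : X.Opens}
    (hgen : U ⊔ V = W) (hU : U ≤ W) (hV : V ≤ W)
    (hMV : ∀ x : Γ(L, U ⊓ V), ∃ (y : Γ(L, U)) (z : Γ(L, V)), x = res L inf_le_left y - res L inf_le_right z)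
    (u v g : Γ(I, W)) (hu : IsGen (res I hU u)) (hv : IsGen (res I hV v)) :
    ∃ a b : Γ(X, W), g = a • u + b • v := by
  obtain ⟨e⟩ := hL
  have hLinv : PicF.IsInvertible L := (IdealModCartier.isInvertible_of_isInverseOf ⟨e⟩).1
  obtain ⟨γ, hγ⟩ := hu.exists_eq (res I hU g)
  obtain ⟨γ', hγ'⟩ := hv.exists_eq (res I hV g)
  have hvO : IsGen (res I ((inf_le_right : U ⊓ V ≤ V).trans hV) v) := by
    have := hv.res (inf_le_right : U ⊓ V ≤ V)
    rwa [res_res] at this
  have huO : IsGen (res I ((inf_le_left : U ⊓ V ≤ U).trans hU) u) := by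
    have := hu.res (inf_le_left : U ⊓ V ≤ U)
    rwa [res_res] at this
  obtain ⟨x, hx⟩ := exists_pr_eq e hLinv hvO (ores inf_le_left γ)
  -- Mayer-Vietoris
  obtain ⟨y, z, hyz⟩ := hMV x
  let aU : Γ(X, U) := γ - pr e y (res I hU v)
  let aV : Γ(X, V) := - pr e z (res I hV v)
  let bU : Γ(X, U) := pr e y (res I hU u)
  let bV : Γ(X, V) := γ' + pr e z (res I hV u)
  have ha : ores (inf_le_left : U ⊓ V ≤ U) aU = ores (inf_le_right : U ⊓ V ≤ V) aV := by
    simp only [aU, aV, map_sub, map_neg, pr_res, res_res]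
    have h1 := hx
    rw [hyz, pr_sub] at h1
    linear_combination -h1
  have hb : ores (inf_le_left : U ⊓ V ≤ U) bU = ores (inf_le_right : U ⊓ V ≤ V) bV := by
    simp only [bU, bV, map_add, pr_res, res_res]
    have h1 : pr e x (res I ((inf_le_left : U ⊓ V ≤ U).trans hU) u) = ores (inf_le_right : U ⊓ V ≤ V) γ' := by
      apply hvO.ext
      rw [← pr_swap e x hvO, hx]
      have h2 := congr(res I (inf_le_left : U ⊓ V ≤ U) $hγ)
      have h3 := congr(res I (inf_le_right : U ⊓ V ≤ V) $hγ')
      rw [res_smul, res_res, res_res] at h2 h3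
      rw [← h2, ← h3]
    rw [hyz, pr_sub] at h1
    linear_combination h1
  obtain ⟨a, ha1, ha2⟩ := glueW hgen hU hV aU aV ha
  obtain ⟨b, hb1, hb2⟩ := glueW hgen hU hV bU bV hb
  refine ⟨a, b, extW I hgen hU hV ?_ ?_⟩
  · rw [map_add, res_smul, res_smul, ha1, hb1, sub_smul, hγ, pr_swap e y hu]
    abel
  · rw [map_add, res_smul, res_smul, ha2, hb2, add_smul, hγ', neg_smul, ← pr_swap e z hv]
    abel

end Groth.Agent.Dix.C5gen
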