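import Groth.Agent.CohqB.SerCoh
import Groth.Agent.CohqB.TwistMono
import Groth.Agent.PerfC.QCohInj
import Groth.Agent.Dix.IdealModSec

/-!
# Mayer-Vietoris decomposition of sections over the non-vanishing locus of a section

`X` Noetherian, `L` quasi-coherent, `N` invertible with a section `s` such that `H¹(X, L ⊗ N^n) = 0` for `n ≥ 1`:
every section of `L` over `U ⊓ V`, `U ⊔ V = X_s`, is a difference of sections over `U` and `V`.
-/

set_option autoImplicit false
set_option backward.isDefEq.respectTransparency false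
universe u

open CategoryTheory CategoryTheory.Limits AlgebraicGeometry Opposite TopologicalSpace
open Groth.Agent.Fdesc.LocGen

namespace Groth.Agent.Dix.C5mv

open Groth.Agent.Ega2 Groth.Agent.Ega2.TensGen Groth.Agent.Ega2.TensPow
open Groth.Agent.CohqB.SerTw Groth.Agent.CohqB.SerLoc Groth.Agent.CohqB.SerCoh

variable {X : Scheme.{u}}

/-- Every quasi-coherent module on a Noetherian scheme embeds in a quasi-coherent one with surjective
restriction maps. -/
theorem exists_flasque [IsNoetherian X] (M : X.Modules) (hM : Coh.IsQCoh M) :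
    ∃ (A : X.Modules) (φ : M ⟶ A), Mono φ ∧ Coh.IsQCoh A ∧
      ∀ {U V : X.Opens} (h : U ≤ V), Function.Surjective (res A h) := by
  obtain ⟨ι, hι, R, j, hj, hR, I, hI, φ, hφ, hq⟩ := PerfC.QCohInj.exists_embedding M hM
  have := Fintype.ofFinite ι
  refine ⟨_, φ, hφ, hq, fun {U V} hUV s => ?_⟩
  let F := fun i => (Scheme.Modules.pushforward (j i)).obj ((tilde.functor (R i)).obj (I i))
  change Γ(∏ᶜ F, U) at s
  have hs : ∀ i, ∃ t : Γ(F i, V), res (F i) hUV t = (Pi.π F i).app U s :=
    fun i => PerfC.QCohInj.push_map_surjective (j i) (I i) hUV _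
  choose t ht using hs
  have : HasFiniteBiproducts X.Modules := Abelian.hasFiniteBiproducts
  let inj : ∀ i, F i ⟶ ∏ᶜ F := fun i => biproduct.ι F i ≫ (biproduct.isoProduct F).hom
  have hid : ∑ i, Pi.π F i ≫ inj i = 𝟙 (∏ᶜ F) := by
    have h1 : ∀ i, (biproduct.isoProduct F).inv ≫ biproduct.π F i = Pi.π F i := fun i => by
      simp [biproduct.isoProduct_inv]
    have h2 : ∑ i, biproduct.π F i ≫ biproduct.ι F i = 𝟙 (⨁ F) := biproduct.total
    calc ∑ i, Pi.π F i ≫ inj i = (biproduct.isoProduct F).inv ≫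
          (∑ i, biproduct.π F i ≫ biproduct.ι F i) ≫ (biproduct.isoProduct F).hom := by
          simp only [Preadditive.comp_sum, Preadditive.sum_comp, inj, ← h1, Category.assoc]
      _ = 𝟙 (∏ᶜ F) := by rw [h2, Category.id_comp, Iso.inv_hom_id]
  refine ⟨∑ i, (inj i).app V (t i), ?_⟩
  rw [map_sum]
  have hnat : ∀ i, res (∏ᶜ F) hUV ((inj i).app V (t i)) = (Pi.π F i ≫ inj i).app U s := by
    intro i
    rw [← app_res, ht]
    rfl
  refine (Finset.sum_congr rfl fun i _ => hnat i).trans ?_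
  have h5 : ∀ (S : Finset ι) (ψ : ι → ((∏ᶜ F) ⟶ (∏ᶜ F))),
      (∑ i ∈ S, ψ i).app U s = ∑ i ∈ S, (ψ i).app U s := by
    classical
    intro S ψ
    induction S using Finset.induction_on with
    | empty => simp
    | insert a S ha ih =>
      rw [Finset.sum_insert ha, Finset.sum_insert ha, Scheme.Modules.Hom.add_app, ← ih]; rfl
  rw [← h5 Finset.univ, hid]
  rfl

/-- Powers of `s` act bijectively over `D s`. -/
theorem mulIt_bijective {N : X.Modules} (s : Γ(N, ⊤)) (F : X.Modules) {W : X.Opens} (hW : W ≤ D s) (n : ℕ) :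
    Function.Bijective (((mulIt s n).app F).app W) := by
  induction n with
  | zero => exact Function.bijective_id
  | succ n ih =>
    have h1 : ⇑(((mulIt s (n + 1)).app F).app W) =
        ⇑((mulSec s (it N F n)).app W) ∘ ⇑(((mulIt s n).app F).app W) := by
      funext x
      exact mulIt_succ_app s x n
    rw [h1]
    exact (mulSec_app_bijective s (it N F n) (isGen_res_D s) hW).comp ih

/-- Sections of a quotient over `X_s` lift if `H¹(X, L ⊗ N^n) = 0` for all `n ≥ 1`. -/
theorem surjective_D [CompactSpace X] [QuasiSeparatedSpace X] {N : X.Modules}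
    (hN : PicF.IsInvertible N) (s : Γ(N, ⊤)) {S : ShortComplex X.Modules} (hS : S.ShortExact)
    (hQ : Coh.IsQCoh S.X₃)
    (h : ∀ n : ℕ, 1 ≤ n → Subsingleton (Coh.HH X (it N S.X₁ n) 1)) :
    Function.Surjective (S.g.app (D s)) := by
  intro q
  obtain ⟨n, hn⟩ := ext hN s hQ q
  obtain ⟨b, hb⟩ := ext_of_le s le_top q (Nat.le_succ n) hn
  obtain ⟨a, ha⟩ := CohqB.TwistMono.surjective_of_H1 (shortExact_it hN hS (n + 1)) (h (n + 1) (by omega)) b
  obtain ⟨a', ha'⟩ := (mulIt_bijective s S.X₂ (le_refl (D s)) (n + 1)).2 (res (it N S.X₂ (n + 1)) le_top a)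
  refine ⟨a', (mulIt_bijective s S.X₃ (le_refl (D s)) (n + 1)).1 ?_⟩
  have hnat : S.g ≫ (mulIt s (n + 1)).app S.X₃ = (mulIt s (n + 1)).app S.X₂ ≫ (itF N (n + 1)).map S.g :=
    (mulIt s (n + 1)).naturality S.g
  have e1 := congrArg (fun φ => Scheme.Modules.Hom.app φ (D s) a') hnat
  refine Eq.trans e1 ?_
  change ((itF N (n + 1)).map S.g).app (D s) (((mulIt s (n + 1)).app S.X₂).app (D s) a') = _
  rw [ha', app_res, ← hb]
  exact congrArg _ ha

/-- Left exactness on sections. -/
theorem exists_of_app_eq_zero {S : ShortComplex X.Modules} (hS : S.ShortExact) {U : X.Opens}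
    (a : Γ(S.X₂, U)) (ha : S.g.app U a = 0) : ∃ l : Γ(S.X₁, U), S.f.app U l = a := by
  obtain ⟨t, ht⟩ := IdealModSec.exists_kernel_lift S.g U a ha
  have hf := hS.mono_f
  let e : kernel S.g ⟶ S.X₁ := hS.exact.lift (kernel.ι S.g) (kernel.condition _)
  have he : e ≫ S.f = kernel.ι S.g := hS.exact.lift_f _ _
  refine ⟨e.app U t, ?_⟩
  have e1 := congrArg (fun φ => Scheme.Modules.Hom.app φ U t) he
  exact Eq.trans e1 ht

/-- Mayer-Vietoris decomposition. -/
theorem decomp [IsNoetherian X] {N : X.Modules} (hN : PicF.IsInvertible N) (s : Γ(N, ⊤)) {L : X.Modules}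
    (hL : Coh.IsQCoh L) (h : ∀ n : ℕ, 1 ≤ n → Subsingleton (Coh.HH X (it N L n) 1))
    {U V : X.Opens} (hUV : U ⊔ V = D s) (x : Γ(L, U ⊓ V)) :
    ∃ (y : Γ(L, U)) (z : Γ(L, V)), x = res L inf_le_left y - res L inf_le_right z := by
  obtain ⟨A, φ, hφ, hA, hsurj⟩ := exists_flasque L hL
  let S : ShortComplex X.Modules := ShortComplex.mk φ (cokernel.π φ) (cokernel.condition φ)
  have hS : S.ShortExact := { exact := ShortComplex.exact_cokernel φ }
  have hQ : Coh.IsQCoh S.X₃ := CohqB.QC6.isQCoh_cokernel φ hL hA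
  have hU : U ≤ D s := hUV ▸ le_sup_left
  have hV : V ≤ D s := hUV ▸ le_sup_right
  obtain ⟨a, ha⟩ := hsurj (inf_le_left : U ⊓ V ≤ U) (φ.app (U ⊓ V) x)
  have hπ : ∀ (W : X.Opens) (l : Γ(L, W)), S.g.app W (φ.app W l) = 0 := fun W l => by
    have e1 := congrArg (fun ψ => Scheme.Modules.Hom.app ψ W l) S.zero
    exact e1
  -- glue `π a` and `0`
  obtain ⟨q, hq⟩ := res_glue S.X₃ (V := D s) (fun b : Bool => cond b U V)
    (fun b => by cases b; exacts [hV, hU])
    (by rw [← hUV]; exact sup_le (le_iSup (fun b : Bool => cond b U V) true)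
          (le_iSup (fun b : Bool => cond b U V) false))
    (fun b => match b with
      | true => S.g.app U a
      | false => 0) (by
    have h1 : res S.X₃ (inf_le_left : U ⊓ V ≤ U) (S.g.app U a) = 0 := by
      rw [← app_res]
      exact (congrArg _ ha).trans (hπ _ x)
    have h2 : ∀ {W : X.Opens} (hW : W ≤ U) (hW' : W ≤ V), res S.X₃ hW (S.g.app U a) = 0 := by
      intro W hW hW'
      have := congrArg (res S.X₃ (le_inf hW hW')) h1
      rwa [res_res, map_zero] at this
    intro b c
    cases b <;> cases c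
    · exact (map_zero _).trans (map_zero _).symm
    · exact (map_zero _).trans (h2 inf_le_right inf_le_left).symm
    · exact (h2 inf_le_left inf_le_right).trans (map_zero _).symm
    · rfl)
  obtain ⟨a', ha'⟩ := surjective_D hN s hS hQ h q
  have hqU : res S.X₃ hU q = S.g.app U a := hq true
  have hqV : res S.X₃ hV q = 0 := hq false
  obtain ⟨y, hy⟩ := exists_of_app_eq_zero hS (a - res S.X₂ hU a') (by
    rw [map_sub, app_res, ha', hqU, sub_self])
  obtain ⟨z, hz⟩ := exists_of_app_eq_zero hS (-(res S.X₂ hV a')) (by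
    rw [map_neg, app_res, ha', hqV, neg_zero])
  refine ⟨y, z, IdealModSec.app_injective_of_mono φ (U ⊓ V) ?_⟩
  have hy' : φ.app U y = a - res A hU a' := hy
  have hz' : φ.app V z = -(res A hV a') := hz
  rw [map_sub, app_res, app_res, hy', hz', map_sub, map_neg, res_res, res_res, ha]
  abel

end Groth.Agent.Dix.C5mv
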