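import Groth.Agent.Dix.TwoChartBasis
import Groth.Agent.Picfga.CurveP1
import Mathlib.Algebra.GCDMonoid.IntegrallyClosed
import Mathlib.RingTheory.Bezout
import Mathlib.RingTheory.Valuation.ValuationRing

/-!
# The complement of a closed point of a proper curve is affine

`X` integral, proper over a field, of dimension `≤ 1`, all local rings valuation rings,
`H^1(X, O_X)` finite-dimensional.
-/

set_option autoImplicit false
set_option backward.isDefEq.respectTransparency.types false

universe u

open CategoryTheory CategoryTheory.Limits AlgebraicGeometry TopologicalSpace Opposite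

namespace Groth.Agent.Dix.CurveAffine

open Groth.Agent.Picfga Groth.Agent.Picfga.RegLocus Groth.Agent.Picfga.CurvePts Groth.Agent.Dix.TwoChartBasis

variable {k : Type u} [Field k] {X : Scheme.{u}} [IsIntegral X] (f : X ⟶ Spec (CommRingCat.of k))

/-- `k → O_{X,x}` -/
noncomputable def kToStalk (x : X) : k →+* X.presheaf.stalk x :=
  (RegLocus.coeffHom f ⊤ ≫ X.presheaf.germ ⊤ x trivial).hom

theorem algebraMap_kToStalk (x : X) (c : k) :
    algebraMap (X.presheaf.stalk x) X.functionField (kToStalk f x c) = kToK f c := by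
  change algebraMap (X.presheaf.stalk x) X.functionField (X.presheaf.germ ⊤ x trivial (RegLocus.coeffHom f ⊤ c)) = _
  have : Nonempty (⊤ : X.Opens) := ⟨⟨x, trivial⟩⟩
  exact Scheme.algebraMap_germ_eq_germToFunctionField X (U := (⊤ : X.Opens)) (x := x) trivial
    (RegLocus.coeffHom f ⊤ c)

/-- A rational function which satisfies a nonconstant polynomial relation over `k`, with value regular at `x`,
is regular at `x`. -/
theorem mem_reg_of_eval {x : X} [ValuationRing (X.presheaf.stalk x)] {s : X.functionField} {p : Polynomial k}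
    (hp : 0 < p.natDegree)
    (h : p.eval₂ (kToK f) s ∈ Set.range (algebraMap (X.presheaf.stalk x) X.functionField)) : x ∈ reg s := by
  obtain ⟨y, hy⟩ := h
  have hint : IsIntegral (X.presheaf.stalk x) s := by
    have h1 : kToK f = (algebraMap (X.presheaf.stalk x) X.functionField).comp (kToStalk f x) :=
      RingHom.ext fun c ↦ (algebraMap_kToStalk f x c).symm
    let q : Polynomial (X.presheaf.stalk x) := p.map (kToStalk f x) - Polynomial.C y
    have hdeg : (p.map (kToStalk f x)).natDegree = p.natDegree := Polynomial.natDegree_map (kToStalk f x)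
    have hq : q.leadingCoeff = kToStalk f x p.leadingCoeff := by
      have : (Polynomial.C y).degree < (p.map (kToStalk f x)).degree := by
        refine lt_of_le_of_lt Polynomial.degree_C_le ?_
        rw [← Polynomial.natDegree_pos_iff_degree_pos, hdeg]
        exact hp
      rw [Polynomial.leadingCoeff_sub_of_degree_lt this, Polynomial.leadingCoeff_map]
    have hu : IsUnit q.leadingCoeff := by
      rw [hq]
      refine IsUnit.map _ (IsUnit.mk0 _ ?_)
      rw [Ne, Polynomial.leadingCoeff_eq_zero]
      rintro rfl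
      simp at hp
    refine ⟨q * Polynomial.C ((hu.unit⁻¹ : (X.presheaf.stalk x)ˣ) : X.presheaf.stalk x), ?_, ?_⟩
    · rw [Polynomial.Monic, Polynomial.leadingCoeff_mul' , Polynomial.leadingCoeff_C]
      · exact IsUnit.mul_val_inv hu
      · rw [Polynomial.leadingCoeff_C, IsUnit.mul_val_inv hu]
        exact one_ne_zero
    · rw [Polynomial.eval₂_mul]
      have : Polynomial.eval₂ (algebraMap (X.presheaf.stalk x) X.functionField) s q = 0 := by
        rw [Polynomial.eval₂_sub, Polynomial.eval₂_C, Polynomial.eval₂_map, ← h1, hy, sub_self]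
      rw [this, zero_mul]
  have : IsIntegrallyClosed (X.presheaf.stalk x) := inferInstance
  exact IsIntegrallyClosed.isIntegral_iff.mp hint

/-- a rational function with a pole is transcendental -/
theorem injective_eval_of_notMem_reg {x : X} [ValuationRing (X.presheaf.stalk x)] {s : X.functionField}
    (hs : x ∉ reg s) : Function.Injective (Polynomial.eval₂RingHom (kToK f) s) := by
  rw [injective_iff_map_eq_zero]
  intro p hp
  by_contra h0
  by_cases hd : 0 < p.natDegree
  · apply hs
    refine mem_reg_of_eval f hd ⟨0, ?_⟩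
    rw [map_zero]
    exact hp.symm
  · obtain ⟨c, rfl⟩ := Polynomial.natDegree_eq_zero.mp (Nat.eq_zero_of_not_pos hd)
    apply h0
    rw [Polynomial.coe_eval₂RingHom, Polynomial.eval₂_C, map_eq_zero] at hp
    rw [hp, map_zero]

omit f in
theorem exists_notMem_reg {x : X} (hx : x ≠ genericPoint X) : ∃ s : X.functionField, x ∉ reg s := by
  by_contra hcon
  push Not at hcon
  apply hx
  have hbij : Function.Bijective (algebraMap (X.presheaf.stalk x) X.functionField) :=
    ⟨IsFractionRing.injective _ _, fun s ↦ hcon s⟩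
  have hfield : IsField (X.presheaf.stalk x) :=
    (RingEquiv.ofBijective _ hbij).toMulEquiv.isField (Field.toIsField X.functionField)
  have h0' : X.fromSpecStalk x (⊥ : PrimeSpectrum (X.presheaf.stalk x)) = genericPoint X := by
    have h1 : X.fromSpecStalk x (⊥ : PrimeSpectrum (X.presheaf.stalk x)) ⤳ genericPoint X := by
      have : genericPoint X ∈ Set.range (X.fromSpecStalk x) := by
        rw [Scheme.range_fromSpecStalk]
        exact genericPoint_specializes x
      obtain ⟨P, hP⟩ := this
      rw [← hP]
      have h0 : (⊥ : PrimeSpectrum (X.presheaf.stalk x)) ⤳ P :=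
        (PrimeSpectrum.le_iff_specializes _ _).mp bot_le
      exact h0.map (X.fromSpecStalk x).continuous
    exact (h1.antisymm (genericPoint_specializes _)).eq
  have h1 : IsLocalRing.closedPoint (X.presheaf.stalk x) = (⊥ : PrimeSpectrum (X.presheaf.stalk x)) := by
    apply PrimeSpectrum.ext
    exact (IsLocalRing.isField_iff_maximalIdeal_eq.mp hfield)
  rw [← h0', ← h1, Scheme.fromSpecStalk_closedPoint]

theorem exists_reg_eq [X.Over (Spec (CommRingCat.of k))] [IsProper (X ↘ Spec (CommRingCat.of k))]
    (hdim : topologicalKrullDim X ≤ 1)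
    (hval : ∀ x : X, ValuationRing (X.presheaf.stalk x))
    [Module.Finite k (Coh.HH X (Coh.structureModule X) 1)] {x : X} (hx : x ≠ genericPoint X)
    (U : X.Opens) (hU : (U : Set X) = {x}ᶜ) : ∃ z : X.functionField, reg z = U ∧ x ∉ reg z := by
  obtain ⟨s, hs⟩ := exists_notMem_reg hx
  have : CompactSpace X := QuasiCompact.compactSpace_of_compactSpace (X ↘ Spec (CommRingCat.of k))
  have hLN : IsLocallyNoetherian X := LocallyOfFiniteType.isLocallyNoetherian (X ↘ Spec (CommRingCat.of k))
  have hN : AlgebraicGeometry.IsNoetherian X := {}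
  have hclosed : ∀ w ∈ (reg s : Set X)ᶜ, IsClosed ({w} : Set X) := by
    intro w hw
    refine isClosed_singleton_of_dim_le_one hdim ?_
    rintro rfl
    exact hw (genericPoint_mem_reg s)
  have hfin : ((reg s : Set X)ᶜ).Finite :=
    finite_of_forall_isClosed_singleton (reg s).isOpen.isClosed_compl hclosed
  have hZ' : IsClosed ((reg s : Set X)ᶜ \ {x}) := by
    have : ((reg s : Set X)ᶜ \ {x}) = ⋃ w ∈ ((reg s : Set X)ᶜ \ {x}), {w} :=
      (Set.biUnion_of_singleton _).symm
    rw [this]
    exact (hfin.subset Set.sdiff_subset).isClosed_biUnion fun w hw ↦ hclosed w hw.1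
  let V : X.Opens := ⟨((reg s : Set X)ᶜ \ {x})ᶜ, hZ'.isOpen_compl⟩
  have hxV : x ∈ V := fun h ↦ h.2 rfl
  have hxU : x ∉ U := by
    intro h
    have : x ∈ (U : Set X) := h
    rw [hU] at this
    exact this rfl
  have hUmem : ∀ y : X, y ≠ x → y ∈ U := by
    intro y hy
    change y ∈ (U : Set X)
    rw [hU]
    exact hy
  have hcov : U ⊔ V = ⊤ := by
    rw [eq_top_iff]
    intro y _
    by_cases hy : y = x
    · exact Or.inr (hy ▸ hxV)
    · exact Or.inl (hUmem y hy)
  have hle : U ⊓ V ≤ reg s := by
    rintro y ⟨hyU, hyV⟩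
    by_contra hc
    apply hyV
    refine ⟨hc, ?_⟩
    rintro rfl
    exact hxU hyU
  have hgU : genericPoint X ∈ U := hUmem _ (Ne.symm hx)
  have hgV : genericPoint X ∈ V := fun h ↦ h.1 (genericPoint_mem_reg s)
  have : Nonempty U := ⟨⟨_, hgU⟩⟩
  have : Nonempty V := ⟨⟨_, hgV⟩⟩
  have : Nonempty (U ⊓ V : X.Opens) := ⟨⟨_, hgU, hgV⟩⟩
  let t : Γ(X, U ⊓ V) := X.presheaf.map (homOfLE hle).op (sec s)
  have ht : X.germToFunctionField (U ⊓ V) t = s := by
    have h1 := germToFunctionField_sec s
    simp only [Scheme.germToFunctionField, t] at h1 ⊢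
    erw [TopCat.Presheaf.germ_res_apply]
    exact h1
  obtain ⟨c, hc, a, b, hab⟩ := exists_relation hcov k
    (n := Module.finrank k (Coh.HH X (Coh.structureModule X) 1) + 1) (Nat.lt_succ_self _) (fun i ↦ t ^ (i.1 + 1))
  let p : Polynomial k := ∑ i, Polynomial.C (c i) * Polynomial.X ^ (i.1 + 1)
  have hp : 0 < p.natDegree := by
    have hcoeff : ∀ i, p.coeff (i.1 + 1) = c i := by
      intro i
      simp only [p, Polynomial.finsetSum_coeff, Polynomial.coeff_C_mul_X_pow]
      rw [Finset.sum_eq_single i]
      · simp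
      · intro j _ hj
        rw [if_neg]
        intro h
        exact hj (Fin.ext (by omega))
      · simp
    obtain ⟨i, hi⟩ := Function.ne_iff.mp hc
    refine lt_of_lt_of_le (Nat.succ_pos i.1) (Polynomial.le_natDegree_of_ne_zero ?_)
    rw [hcoeff]
    exact hi
  have hcst : ∀ y : k, X.germToFunctionField (U ⊓ V) (cst k (X ↘ Spec (CommRingCat.of k)) (U ⊓ V) y) =
      kToK (X ↘ Spec (CommRingCat.of k)) y := by
    intro y
    exact RingHom.congr_fun (germToFunctionField_coeffHom (X ↘ Spec (CommRingCat.of k)) (U ⊓ V)) y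
  have heval : p.eval₂ (kToK (X ↘ Spec (CommRingCat.of k))) s =
      X.germToFunctionField U a - X.germToFunctionField V b := by
    have h1 := congrArg (X.germToFunctionField (U ⊓ V)) hab
    rw [map_sub, map_sum] at h1
    have ha : X.germToFunctionField (U ⊓ V) (X.presheaf.map (homOfLE (inf_le_left : U ⊓ V ≤ U)).op a) =
        X.germToFunctionField U a := by
      simp only [Scheme.germToFunctionField]
      erw [TopCat.Presheaf.germ_res_apply]
    have hb : X.germToFunctionField (U ⊓ V) (X.presheaf.map (homOfLE (inf_le_right : U ⊓ V ≤ V)).op b) =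
        X.germToFunctionField V b := by
      simp only [Scheme.germToFunctionField]
      erw [TopCat.Presheaf.germ_res_apply]
    rw [ha, hb] at h1
    rw [← h1, Polynomial.eval₂_finsetSum]
    refine Finset.sum_congr rfl fun i _ ↦ ?_
    rw [Polynomial.eval₂_mul, Polynomial.eval₂_C, Polynomial.eval₂_pow, Polynomial.eval₂_X, map_mul, map_pow, ht,
      hcst]
  have := hval x
  have hreg : x ∉ reg (X.germToFunctionField U a) := by
    intro hreg
    apply hs
    refine mem_reg_of_eval (X ↘ Spec (CommRingCat.of k)) hp ?_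
    rw [heval]
    obtain ⟨a', ha'⟩ := hreg
    have hb' := Scheme.algebraMap_germ_eq_germToFunctionField X (U := V) hxV b
    exact ⟨a' - X.presheaf.germ V x hxV b, by rw [map_sub, ha', hb']⟩
  refine ⟨X.germToFunctionField U a, ?_, hreg⟩
  ext y
  constructor
  · intro hy
    refine hUmem y ?_
    rintro rfl
    exact hreg hy
  · intro hy
    exact ⟨X.presheaf.germ U y hy a, Scheme.algebraMap_germ_eq_germToFunctionField X (U := U) hy a⟩

/-- The complement of a closed point of a proper integral curve with valuation local rings is affine. -/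
theorem isAffineOpen_compl [X.Over (Spec (CommRingCat.of k))] [IsProper (X ↘ Spec (CommRingCat.of k))]
    (hdim : topologicalKrullDim X ≤ 1)
    (hval : ∀ x : X, ValuationRing (X.presheaf.stalk x))
    [Module.Finite k (Coh.HH X (Coh.structureModule X) 1)] {x : X} (hx : x ≠ genericPoint X)
    (U : X.Opens) (hU : (U : Set X) = {x}ᶜ) : IsAffineOpen U := by
  obtain ⟨z, rfl, hz⟩ := exists_reg_eq (k := k) hdim hval hx U hU
  have := hval x
  exact CurveP1.isAffineOpen_reg (X ↘ Spec (CommRingCat.of k)) hdim hval
    (injective_eval_of_notMem_reg (X ↘ Spec (CommRingCat.of k)) hz)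

end Groth.Agent.Dix.CurveAffine
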