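import Groth.Agent.Desc.DimMap
import Mathlib.Topology.NoetherianSpace

/-!
# Closed surjective maps do not increase the dimension; minimal points of Noetherian sober spaces
-/

set_option autoImplicit false

open TopologicalSpace Topology Order

namespace Groth.Agent.Dix.DimClosed

universe u v

section Dim

variable {X : Type u} [TopologicalSpace X] {Y : Type v} [TopologicalSpace Y]

attribute [local instance] specializationOrder

theorem height_le_of_isClosedMap [T0Space X] [T0Space Y] (f : X → Y) (hf : IsClosedMap f) (a : X) :
    height (f a) ≤ height a := by
  refine height_le_iff'.mpr fun p hp ↦ ?_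
  induction p using RelSeries.inductionOn' generalizing a with
  | singleton x => simp
  | snoc p x hx ih =>
    simp only [RelSeries.last_snoc] at hp
    have hlt : p.last < f a := by rw [← hp]; exact hx
    have h1 : f a ⤳ p.last := hlt.le
    have h2 : p.last ∈ f '' closure {a} := by
      have h3 : IsClosed (f '' closure {a}) := hf _ isClosed_closure
      have h4 : closure {f a} ⊆ f '' closure {a} :=
        closure_minimal (Set.singleton_subset_iff.mpr ⟨a, subset_closure rfl, rfl⟩) h3
      exact h4 (specializes_iff_mem_closure.mp h1)
    obtain ⟨a', ha', hfa'⟩ := h2
    have haa' : a' < a := by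
      refine lt_of_le_of_ne (show a ⤳ a' from specializes_iff_mem_closure.mpr ha') ?_
      rintro rfl
      exact hlt.ne hfa'.symm
    have h5 := ih a' hfa'.symm
    rw [RelSeries.snoc_length, Nat.cast_add, Nat.cast_one]
    exact (add_le_add_left h5 1).trans (height_add_one_le haa')

/-- A surjective closed map does not increase the dimension. -/
theorem topologicalKrullDim_le_of_isClosedMap [QuasiSober X] [T0Space X] [QuasiSober Y]
    [T0Space Y] (f : X → Y) (hf : IsClosedMap f)
    (hs : Function.Surjective f) : topologicalKrullDim Y ≤ topologicalKrullDim X := by
  rw [Desc.DimMap.topologicalKrullDim_eq, Desc.DimMap.topologicalKrullDim_eq, krullDim_eq_iSup_height,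
    krullDim_eq_iSup_height]
  refine iSup_le fun y ↦ ?_
  obtain ⟨x, rfl⟩ := hs y
  refine le_trans ?_ (le_iSup _ x)
  exact WithBot.coe_le_coe.mpr (height_le_of_isClosedMap f hf x)

end Dim

/-- A Noetherian sober space has finitely many points which are not proper specializations. -/
theorem finite_minimal {F : Type*} [TopologicalSpace F] [NoetherianSpace F] [QuasiSober F] :
    {x : F | ∀ z, z ⤳ x → z = x}.Finite := by
  have h1 : (irreducibleComponents F).Finite := NoetherianSpace.finite_irreducibleComponents
  have : Finite (irreducibleComponents F) := h1
  refine Set.Finite.of_finite_image (f := fun x => irreducibleComponent x)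
    (h1.subset ?_) ?_
  · rintro _ ⟨x, -, rfl⟩
    exact irreducibleComponent_mem_irreducibleComponents x
  · intro x hx y hy hxy
    have hxy' : irreducibleComponent x = irreducibleComponent y := hxy
    obtain ⟨z, hz⟩ := QuasiSober.sober (S := irreducibleComponent x)
      isIrreducible_irreducibleComponent isClosed_irreducibleComponent
    have hzx : z ⤳ x := hz.specializes mem_irreducibleComponent
    have hzy : z ⤳ y := hz.specializes (by rw [hxy']; exact mem_irreducibleComponent)
    rw [← hx z hzx, ← hy z hzy]

end Groth.Agent.Dix.DimClosed
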