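import Groth.Agent.Dix.EllCech
import Groth.Agent.Picfga.CurveP1
import Groth.Agent.CurvesA.CurveDvr
import Groth.Agent.VarietyA.TwistDown
import Groth.Agent.VarietyA.RegPoint

/-!
# The complement of a point of a smooth proper curve is affine (helper787)
-/

set_option autoImplicit false
universe u

open CategoryTheory CategoryTheory.Limits AlgebraicGeometry Opposite TopologicalSpace
open Groth.Agent.Fdesc.LocGen (ores ores_ores)
open Groth.Agent.Picfga.RegLocus Groth.Agent.Picfga.CurvePts
open Groth.Agent.VarietyA.TwistDown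

namespace Groth.Agent.Dix.EllAff

/-- Pure algebra: if `q` is a nonconstant polynomial over a field `K` with `q(y)` in an integrally closed
domain `O` containing `K`, then `y` is in `O`. -/
theorem inv_mem_of_poly {K O F : Type*} [Field K] [CommRing O] [IsDomain O] [Field F] [Algebra O F]
    [IsFractionRing O F] [IsIntegrallyClosed O] (σ : K →+* O) (y : F) (q : Polynomial K)
    (hq : 0 < q.natDegree)
    (h : Polynomial.eval₂ ((algebraMap O F).comp σ) y q ∈ Set.range (algebraMap O F)) :
    y ∈ Set.range (algebraMap O F) := by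
  obtain ⟨w, hw⟩ := h
  have hq0 : q ≠ 0 := by rintro rfl; simp at hq
  have hlc : q.leadingCoeff ≠ 0 := Polynomial.leadingCoeff_ne_zero.mpr hq0
  refine IsIntegrallyClosed.isIntegral_iff.mp ?_
  have hm : (q * Polynomial.C q.leadingCoeff⁻¹).Monic := Polynomial.monic_mul_leadingCoeff_inv hq0
  have hnd : (q * Polynomial.C q.leadingCoeff⁻¹).natDegree = q.natDegree :=
    Polynomial.natDegree_mul_C (inv_ne_zero hlc)
  refine ⟨(q * Polynomial.C q.leadingCoeff⁻¹).map σ - Polynomial.C (w * σ q.leadingCoeff⁻¹),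
    (hm.map σ).sub_of_left ?_, ?_⟩
  · refine lt_of_le_of_lt Polynomial.degree_C_le ?_
    rw [← Polynomial.natDegree_pos_iff_degree_pos, hm.natDegree_map σ, hnd]
    exact hq
  · rw [Polynomial.eval₂_sub, Polynomial.eval₂_map, Polynomial.eval₂_mul, Polynomial.eval₂_C,
      Polynomial.eval₂_C, ← hw, map_mul, RingHom.comp_apply, sub_self]

theorem finite_of_finrank_one {K V : Type*} [Field K] [AddCommGroup V] [Module K V]
    (h : Module.finrank K V = 1) : Module.Finite K V :=
  Module.finite_of_finrank_pos (by rw [h]; exact one_pos)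

section

variable {K : Type u} [Field K] {X : Scheme.{u}} [X.Over (Spec (CommRingCat.of K))]

theorem str_eq_coeffHom (U : X.Opens) :
    EllCech.str (K := K) U = (coeffHom (X ↘ Spec (CommRingCat.of K)) U).hom := by
  ext c
  rfl

theorem aux2 {A B R : Type u} [CommRing A] [CommRing B] [CommRing R] (f : A →+* R) (g : B →+* R)
    (a : A) (b : B) : f a - g b = f a + g (-b) := by
  rw [map_neg]; ring

/-- A nonzero polynomial in `s` without constant term dies in `H^1`. -/
theorem exists_poly (U V : X.Opens) (h : U ⊔ V = ⊤) (s : Γ(X, U ⊓ V))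
    [Module.Finite K (Coh.HH X (Coh.structureModule X) 1)] :
    ∃ p : Polynomial K, p ≠ 0 ∧ ∃ (a : Γ(X, U)) (b : Γ(X, V)),
      Polynomial.eval₂ (EllCech.str (U ⊓ V)) s (Polynomial.X * p) =
        EllCech.rs inf_le_left a + EllCech.rs inf_le_right b := by
  let g : Polynomial K → Γ(X, U ⊓ V) := fun p =>
    Polynomial.eval₂ (EllCech.str (U ⊓ V)) s (Polynomial.X * p)
  have hg : ∀ (c : K) (p : Polynomial K), g (c • p) = EllCech.str (U ⊓ V) c * g p := by
    intro c p
    simp only [g]
    rw [mul_smul_comm, Polynomial.smul_eq_C_mul, Polynomial.eval₂_mul, Polynomial.eval₂_C]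
  have hg' : ∀ p q : Polynomial K, g (p + q) = g p + g q := by
    intro p q
    simp only [g]
    rw [mul_add, Polynomial.eval₂_add]
  let ψ : Polynomial K →ₗ[K] Picfga.ChiCech.SecA K (Coh.structureModule X) (U ⊓ V) :=
    { toFun := g
      map_add' := hg'
      map_smul' := hg }
  let φ := (Picfga.ChiCech.h1Map K (Coh.structureModule X) h).comp ψ
  have hφ : ¬ Function.Injective φ := by
    intro hinj
    have := Module.Finite.of_injective φ hinj
    exact Polynomial.not_finite this
  rw [injective_iff_map_eq_zero] at hφ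
  push Not at hφ
  obtain ⟨p, hp, hp0⟩ := hφ
  refine ⟨p, hp0, ?_⟩
  have h1 : ψ p ∈ LinearMap.ker (Picfga.ChiCech.h1Map K (Coh.structureModule X) h) := hp
  rw [Picfga.ChiCech.ker_h1Map] at h1
  obtain ⟨⟨a, b⟩, hab⟩ := h1
  refine ⟨a, -b, ?_⟩
  exact hab.symm.trans (aux2 (EllCech.rs inf_le_left) (EllCech.rs inf_le_right) a b)

end

section curve

variable {K : Type u} [Field K] {X : Scheme.{u}} [X.Over (Spec (CommRingCat.of K))] [IsIntegral X]

/-- The composite `K → O_x → K(X)`. -/
theorem algebraMap_comp_stalk (x : X) {U : X.Opens} (hx : x ∈ U) :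
    (algebraMap (X.presheaf.stalk x) X.functionField).comp
      ((X.presheaf.germ U x hx).hom.comp (EllCech.str (K := K) U)) =
      kToK (X ↘ Spec (CommRingCat.of K)) := by
  have : Nonempty U := ⟨⟨x, hx⟩⟩
  rw [← germToFunctionField_coeffHom (X ↘ Spec (CommRingCat.of K)) U, str_eq_coeffHom,
    ← RingHom.comp_assoc]
  congr 1
  ext a
  exact X.algebraMap_germ_eq_germToFunctionField hx a

/-- If the rational function `z` is algebraic over `K` then it is regular wherever `X` is normal. -/
theorem injective_of_not_mem_reg {z : X.functionField} {x : X} (hx : x ∉ reg z)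
    [IsIntegrallyClosed (X.presheaf.stalk x)] :
    Function.Injective (Polynomial.eval₂RingHom (kToK (X ↘ Spec (CommRingCat.of K))) z) := by
  rw [injective_iff_map_eq_zero]
  intro q hq
  by_contra hq0
  apply hx
  have hdeg : 0 < q.natDegree := by
    by_contra hd
    have hd' : q.natDegree = 0 := by omega
    rw [Polynomial.eq_C_of_natDegree_eq_zero hd'] at hq hq0
    rw [Polynomial.coe_eval₂RingHom, Polynomial.eval₂_C] at hq
    exact hq0 (by rw [(map_eq_zero _).mp hq, Polynomial.C_0])
  refine inv_mem_of_poly ((X.presheaf.germ ⊤ x (Opens.mem_top x)).hom.comp (EllCech.str (K := K) ⊤)) z q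
    hdeg ?_
  rw [algebraMap_comp_stalk]
  exact ⟨0, by rw [map_zero]; exact hq.symm⟩

/-- A rational function with a pole exactly at `x`. -/
theorem exists_reg_eq {x : X} {V : X.Opens} {t : Γ(X, V)} (ht : LocEq x V t) (U : X.Opens)
    (hU : ∀ y : X, y ∈ U ↔ y ≠ x)
    [IsIntegrallyClosed (X.presheaf.stalk x)]
    (hx : x ≠ genericPoint X)
    [Module.Finite K (Coh.HH X (Coh.structureModule X) 1)] :
    ∃ z : X.functionField, reg z = U ∧
      Function.Injective (Polynomial.eval₂RingHom (kToK (X ↘ Spec (CommRingCat.of K))) z) := by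
  have hUV : U ⊔ V = ⊤ := by
    rw [eq_top_iff]
    intro y _
    by_cases hy : y = x
    · exact Or.inr (hy ▸ ht.mem)
    · exact Or.inl ((hU y).mpr hy)
  -- `t` is invertible on `U ⊓ V`
  have hunit : IsUnit (ores (inf_le_right : U ⊓ V ≤ V) t) := by
    refine RingedSpace.isUnit_of_isUnit_germ X.toRingedSpace (U ⊓ V) _ fun y hy => ?_
    have h1 := ht.unit y hy.2 ((hU y).mp hy.1)
    rw [← germ_ores (inf_le_right : U ⊓ V ≤ V) y hy] at h1
    exact h1
  obtain ⟨s, hs⟩ := hunit.exists_right_inv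
  obtain ⟨p, hp0, a, b, hab⟩ := exists_poly (K := K) U V hUV s
  have hgU : genericPoint X ∈ U := (hU _).mpr (Ne.symm hx)
  have : Nonempty U := ⟨⟨_, hgU⟩⟩
  have : Nonempty V := ⟨⟨_, ht.mem⟩⟩
  have hgV : genericPoint X ∈ V := genericPoint_mem V
  have hgUV : genericPoint X ∈ U ⊓ V := ⟨hgU, hgV⟩
  have : Nonempty (U ⊓ V : X.Opens) := ⟨⟨_, hgUV⟩⟩
  let z : X.functionField := X.germToFunctionField U a
  have hxz : x ∉ reg z := by
    rintro ⟨w, hw⟩
    have h1 := congrArg (X.germToFunctionField (U ⊓ V)) hab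
    change (X.germToFunctionField (U ⊓ V)).hom (Polynomial.eval₂ (EllCech.str (U ⊓ V)) s
      (Polynomial.X * p)) = (X.germToFunctionField (U ⊓ V)).hom _ at h1
    rw [Polynomial.hom_eval₂, map_add, str_eq_coeffHom, germToFunctionField_coeffHom] at h1
    have h2 : (X.germToFunctionField (U ⊓ V)).hom (EllCech.rs (inf_le_left : U ⊓ V ≤ U) a) = z :=
      TopCat.Presheaf.germ_res_apply X.presheaf (homOfLE inf_le_left) _ hgUV a
    have h3 : (X.germToFunctionField (U ⊓ V)).hom (EllCech.rs (inf_le_right : U ⊓ V ≤ V) b) =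
        X.germToFunctionField V b :=
      TopCat.Presheaf.germ_res_apply X.presheaf (homOfLE inf_le_right) _ hgUV b
    have h4 : (X.germToFunctionField (U ⊓ V)).hom (ores (inf_le_right : U ⊓ V ≤ V) t) =
        X.germToFunctionField V t :=
      TopCat.Presheaf.germ_res_apply X.presheaf (homOfLE inf_le_right) _ hgUV t
    rw [h2, h3, ← hw, ← X.algebraMap_germ_eq_germToFunctionField ht.mem b, ← map_add,
      ← algebraMap_comp_stalk x (Opens.mem_top x)] at h1
    have hdeg : 0 < (Polynomial.X * p).natDegree := by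
      rw [Polynomial.natDegree_X_mul hp0]
      omega
    obtain ⟨y', hy'⟩ := inv_mem_of_poly _ _ _ hdeg ⟨_, h1.symm⟩
    have h5 := congrArg (X.germToFunctionField (U ⊓ V)).hom hs
    rw [map_mul, map_one, h4, ← X.algebraMap_germ_eq_germToFunctionField ht.mem t, ← hy',
      ← map_mul] at h5
    have h6 : X.presheaf.germ V x ht.mem t * y' = 1 :=
      IsFractionRing.injective (X.presheaf.stalk x) X.functionField (by rw [h5, map_one])
    have h7 : X.presheaf.germ V x ht.mem t ∈ IsLocalRing.maximalIdeal (X.presheaf.stalk x) := by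
      rw [ht.gen]
      exact Ideal.mem_span_singleton_self _
    exact h7 (IsUnit.of_mul_eq_one _ h6)
  refine ⟨z, ?_, injective_of_not_mem_reg hxz⟩
  ext y
  by_cases hy : y = x
  · subst hy
    constructor
    · intro h; exact absurd h hxz
    · intro h; exact absurd rfl ((hU y).mp h)
  · constructor
    · intro _; exact (hU y).mpr hy
    · intro h
      exact mem_reg_iff_exists.mpr ⟨U, h, a, rfl⟩

/-- The complement of a closed point of a proper smooth curve is affine. -/
theorem isAffineOpen_compl [IsProper (X ↘ Spec (CommRingCat.of K))] [Smooth (X ↘ Spec (CommRingCat.of K))]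
    (hdim : topologicalKrullDim X ≤ 1) {x : X} (hx : x ≠ genericPoint X)
    [Module.Finite K (Coh.HH X (Coh.structureModule X) 1)] (U : X.Opens) (hU : ∀ y : X, y ∈ U ↔ y ≠ x) :
    IsAffineOpen U := by
  have hval := valuationRing_stalk (X ↘ Spec (CommRingCat.of K)) hdim
  have hdvr := CurvesA.CurveDvr.isDiscreteValuationRing_stalk (X ↘ Spec (CommRingCat.of K)) hdim x hx
  have : CompactSpace X := QuasiCompact.compactSpace_of_compactSpace (X ↘ Spec (CommRingCat.of K))
  have hLN : IsLocallyNoetherian X := LocallyOfFiniteType.isLocallyNoetherian (X ↘ Spec (CommRingCat.of K))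
  have hN : AlgebraicGeometry.IsNoetherian X := {}
  obtain ⟨V, t, ht⟩ := VarietyA.RegPoint.exists_locEq hdim x
    (IsPrincipalIdealRing.principal _) (IsDiscreteValuationRing.not_a_field _)
  obtain ⟨z, hz, hz'⟩ := exists_reg_eq (K := K) ht U hU hx
  rw [← hz]
  exact Picfga.CurveP1.isAffineOpen_reg (X ↘ Spec (CommRingCat.of K)) hdim hval hz'

omit [X.Over (Spec (CommRingCat.of K))] in
/-- Affine neighbourhoods with a local equation. -/
theorem exists_affine_locEq (f : X ⟶ Spec (CommRingCat.of K)) [Smooth f] [QuasiCompact f]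
    (hdim : topologicalKrullDim X ≤ 1) {x : X} (hx : x ≠ genericPoint X) (W : X.Opens) (hW : x ∈ W) :
    ∃ (V : X.Opens) (t : Γ(X, V)), V ≤ W ∧ IsAffineOpen V ∧ LocEq x V t := by
  have hdvr := CurvesA.CurveDvr.isDiscreteValuationRing_stalk f hdim x hx
  have : CompactSpace X := QuasiCompact.compactSpace_of_compactSpace f
  have hLN : IsLocallyNoetherian X := LocallyOfFiniteType.isLocallyNoetherian f
  have hN : AlgebraicGeometry.IsNoetherian X := {}
  obtain ⟨V, t, ht⟩ := VarietyA.RegPoint.exists_locEq hdim x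
    (IsPrincipalIdealRing.principal _) (IsDiscreteValuationRing.not_a_field _)
  obtain ⟨_, ⟨V', hV', rfl⟩, hxV', hle⟩ := X.isBasis_affineOpens.exists_subset_of_mem_open
    (show x ∈ V ⊓ W from ⟨ht.mem, hW⟩) (V ⊓ W).isOpen
  have hle' : V' ≤ V ⊓ W := hle
  exact ⟨V', ores (hle'.trans inf_le_left) t, hle'.trans inf_le_right, hV',
    ht.res (hle'.trans inf_le_left) hxV'⟩

end curve

section rational

variable {K : Type u} [Field K] {X : Scheme.{u}} [X.Over (Spec (CommRingCat.of K))]

/-- At a rational point every germ is congruent to a constant. -/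
theorem exists_sub_mem (o : Spec (CommRingCat.of K) ⟶ X) (ho : o ≫ (X ↘ Spec (CommRingCat.of K)) = 𝟙 _)
    (p : Spec (CommRingCat.of K)) (u : X.presheaf.stalk (o p)) :
    ∃ c : K, u - X.presheaf.germ ⊤ (o p) (Opens.mem_top _) (EllCech.str ⊤ c) ∈
      IsLocalRing.maximalIdeal (X.presheaf.stalk (o p)) := by
  obtain ⟨W, hpW, s, hs⟩ := (Spec (CommRingCat.of K)).presheaf.exists_germ_eq ((o.stalkMap p).hom u)
  have hW : W = ⊤ := by
    rw [eq_top_iff]
    intro q _
    rwa [show q = p from Subsingleton.elim (α := PrimeSpectrum K) q p]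
  subst hW
  obtain ⟨c, rfl⟩ := (ConcreteCategory.bijective_of_isIso (Scheme.ΓSpecIso (CommRingCat.of K)).inv).2 s
  refine ⟨c, ?_⟩
  have h1 : (o.stalkMap p).hom (X.presheaf.germ ⊤ (o p) (Opens.mem_top _) (EllCech.str ⊤ c)) =
      (o.stalkMap p).hom u := by
    rw [← hs]
    have h2 := Scheme.Hom.germ_stalkMap_apply o ⊤ p (Opens.mem_top _) (EllCech.str (K := K) ⊤ c)
    refine h2.trans ?_
    have h3 : (o.app ⊤).hom (EllCech.str (K := K) ⊤ c) = (Scheme.ΓSpecIso (CommRingCat.of K)).inv c := by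
      have h4 : (o ≫ (X ↘ Spec (CommRingCat.of K))).appTop = 𝟙 _ := by rw [ho]; rfl
      have h5 := congr($(h4) ((Scheme.ΓSpecIso (CommRingCat.of K)).inv c))
      refine Eq.trans ?_ h5
      have h6 : (EllCech.str (K := K) ⊤ c : Γ(X, ⊤)) =
          (X ↘ Spec (CommRingCat.of K)).appTop ((Scheme.ΓSpecIso (CommRingCat.of K)).inv c) := by
        exact Fdesc.LocGen.ores_refl _
      rw [h6, Scheme.Hom.comp_appTop]
      rfl
    exact congrArg ((Spec (CommRingCat.of K)).presheaf.germ ⊤ p hpW) h3
  intro hu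
  have h2 := hu.map (o.stalkMap p).hom
  rw [map_sub, h1, sub_self] at h2
  exact not_isUnit_zero h2

variable (o : Spec (CommRingCat.of K) ⟶ X) (ho : o ≫ (X ↘ Spec (CommRingCat.of K)) = 𝟙 _)

include ho in
/-- A rational point of a separated scheme is closed. -/
theorem isClosed_point [IsSeparated (X ↘ Spec (CommRingCat.of K))] (p : Spec (CommRingCat.of K)) :
    IsClosed ({o p} : Set X) := by
  have h1 : IsClosedImmersion (o ≫ (X ↘ Spec (CommRingCat.of K))) := by rw [ho]; infer_instance
  have h2 : IsClosedImmersion o := IsClosedImmersion.of_comp o (X ↘ Spec (CommRingCat.of K))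
  have h3 : Set.range o = {o p} := by
    ext y
    constructor
    · rintro ⟨q, rfl⟩
      rw [show q = p from Subsingleton.elim (α := PrimeSpectrum K) q p]
      rfl
    · rintro rfl
      exact ⟨p, rfl⟩
  rw [← h3]
  exact o.isClosedEmbedding.isClosed_range

/-- `U ⊓ V` is the basic open of the local equation. -/
theorem inf_eq_basicOpen {x : X} {U V : X.Opens} {t : Γ(X, V)} (ht : LocEq x V t)
    (hU : ∀ y : X, y ∈ U ↔ y ≠ x) : U ⊓ V = X.basicOpen t := by
  ext y
  constructor
  · rintro ⟨hyU, hyV⟩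
    exact (Scheme.mem_basicOpen X t y hyV).mpr (ht.unit y hyV ((hU y).mp hyU))
  · intro hy
    have hyV : y ∈ V := X.basicOpen_le t hy
    refine ⟨(hU y).mpr ?_, hyV⟩
    rintro rfl
    have h1 := (Scheme.mem_basicOpen X t y hyV).mp hy
    have h7 : X.presheaf.germ V y ht.mem t ∈ IsLocalRing.maximalIdeal (X.presheaf.stalk y) := by
      rw [ht.gen]
      exact Ideal.mem_span_singleton_self _
    exact h7 h1

include ho in
/-- Sections near the rational point are congruent to constants modulo the local equation. -/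
theorem exists_eq_add_mul {x : X} (hx : ∀ p, o p = x) {V : X.Opens} {t : Γ(X, V)} (ht : LocEq x V t)
    (g : Γ(X, V)) : ∃ (c : K) (h : Γ(X, V)), g = EllCech.str V c + h * t := by
  obtain ⟨p⟩ : Nonempty (Spec (CommRingCat.of K)) := inferInstanceAs (Nonempty (PrimeSpectrum K))
  obtain rfl := hx p
  obtain ⟨c, hc⟩ := exists_sub_mem o ho p (X.presheaf.germ V (o p) ht.mem g)
  obtain ⟨h, hh⟩ := ht.exists_eq_mul le_rfl (g - EllCech.str V c) (fun hx => by
    rw [map_sub]
    have h1 : X.presheaf.germ V (o p) hx (EllCech.str V c) =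
        X.presheaf.germ ⊤ (o p) (Opens.mem_top _) (EllCech.str ⊤ c) := by
      rw [← Picfga.ChiCech.ores_str K (le_top : V ≤ ⊤) c, germ_ores]
    rw [h1]
    exact hc)
  refine ⟨c, h, ?_⟩
  rw [Fdesc.LocGen.ores_refl] at hh
  rw [hh]
  ring

/-- **Data of a curve of genus one with a rational point**: the complement `U` of the point is affine, the
point has an affine neighbourhood `V` with a local equation `t`, `Γ(V)/t = K`, and `K(X)` modulo
`Γ(U) + Γ(V)` is one-dimensional on `U ⊓ V = D(t)`, spanned by the class of `w`. -/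
theorem exists_data [IsIntegral X] [IsProper (X ↘ Spec (CommRingCat.of K))]
    [Smooth (X ↘ Spec (CommRingCat.of K))] (hdim : topologicalKrullDim X = 1)
    (h1 : Module.finrank K (Coh.HH X (Coh.structureModule X) 1) = 1)
    (o : Spec (CommRingCat.of K) ⟶ X) (ho : o ≫ (X ↘ Spec (CommRingCat.of K)) = 𝟙 _)
    (x : X) (hx : ∀ p, o p = x) :
    ∃ (U V : X.Opens) (t : Γ(X, V)) (w : Γ(X, U ⊓ V)), IsAffineOpen U ∧ IsAffineOpen V ∧
      (∀ y : X, y ∈ U ↔ y ≠ x) ∧ U ⊔ V = ⊤ ∧ LocEq x V t ∧ U ⊓ V = X.basicOpen t ∧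
      (∀ g : Γ(X, V), ∃ (c : K) (h : Γ(X, V)), g = EllCech.str V c + h * t) ∧
      (∀ (a : Γ(X, U)) (b : Γ(X, V)), w ≠ EllCech.rs inf_le_left a + EllCech.rs inf_le_right b) ∧
      ∀ w' : Γ(X, U ⊓ V), ∃ (c : K) (a : Γ(X, U)) (b : Γ(X, V)),
        w' = EllCech.str (U ⊓ V) c * w + EllCech.rs inf_le_left a + EllCech.rs inf_le_right b := by
  obtain ⟨p⟩ : Nonempty (Spec (CommRingCat.of K)) := inferInstanceAs (Nonempty (PrimeSpectrum K))
  have hcl : IsClosed ({x} : Set X) := by
    rw [← hx p]
    exact isClosed_point o ho p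
  have hgen : x ≠ genericPoint X := (CurvesA.CurveDvr.isClosed_singleton_iff hdim x).mp hcl
  have : Module.Finite K (Coh.HH X (Coh.structureModule X) 1) :=
    finite_of_finrank_one h1
  let U : X.Opens := ⟨{x}ᶜ, hcl.isOpen_compl⟩
  have hU : ∀ y : X, y ∈ U ↔ y ≠ x := fun y => Iff.rfl
  obtain ⟨V, t, -, hV, ht⟩ := exists_affine_locEq (X ↘ Spec (CommRingCat.of K)) hdim.le hgen ⊤
    (Opens.mem_top x)
  have hUV : U ⊔ V = ⊤ := by
    rw [eq_top_iff]
    intro y _
    by_cases hy : y = x
    · exact Or.inr (hy ▸ ht.mem)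
    · exact Or.inl ((hU y).mpr hy)
  have hUa : IsAffineOpen U := isAffineOpen_compl (K := K) hdim.le hgen U hU
  obtain ⟨w, hw, hw'⟩ := EllCech.exists_cech (K := K) U V hUa hV hUV h1
  exact ⟨U, V, t, w, hUa, hV, hU, hUV, ht, inf_eq_basicOpen ht hU,
    exists_eq_add_mul o ho hx ht, hw, hw'⟩

end rational

end Groth.Agent.Dix.EllAff
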