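import Groth.Agent.Picfga.ChiCech
import Groth.Agent.CurvesC.UnitCoh
import Mathlib.LinearAlgebra.FiniteDimensional.Basic

/-!
# The Cech class of a curve of genus one (helper787)

For `X` over a field `K` covered by two affine opens `U`, `V` and with `dim_K H^1(X, O) = 1`, the cokernel
of `Γ(U) × Γ(V) → Γ(U ⊓ V)` is one-dimensional.
-/

set_option autoImplicit false
universe u

open CategoryTheory CategoryTheory.Limits AlgebraicGeometry Opposite TopologicalSpace

namespace Groth.Agent.Dix.EllCech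

variable {K : Type u} [Field K] {X : Scheme.{u}} [X.Over (Spec (CommRingCat.of K))]

/-- The structure map `K → Γ(X, U)`. -/
noncomputable abbrev str (U : X.Opens) : K →+* Γ(X, U) := Picfga.ChiCech.str K U

/-- Restriction of functions. -/
noncomputable abbrev rs {U V : X.Opens} (h : V ≤ U) : Γ(X, U) →+* Γ(X, V) :=
  (X.presheaf.map (homOfLE h).op).hom

/-- General form: the differences of restrictions have codimension `dim H^1`, in linear algebra form. -/
theorem linalg {Q : Type u} [AddCommGroup Q] [Module K Q] {P S : Type u} [AddCommGroup P] [Module K P]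
    [AddCommGroup S] [Module K S] (d : S →ₗ[K] P) (e : (P ⧸ LinearMap.range d) ≃ₗ[K] Q)
    (h1 : Module.finrank K Q = 1) :
    ∃ w : P, w ∉ LinearMap.range d ∧ ∀ w' : P, ∃ (c : K) (s : S), w' = c • w + d s := by
  obtain ⟨q, hq, hspan⟩ := finrank_eq_one_iff'.mp h1
  obtain ⟨w, hw⟩ := Submodule.Quotient.mk_surjective _ (e.symm q)
  refine ⟨w, fun hmem => hq ?_, fun w' => ?_⟩
  · have h0 : (Submodule.Quotient.mk w : P ⧸ LinearMap.range d) = 0 :=
      (Submodule.Quotient.mk_eq_zero _).mpr hmem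
    have : e.symm q = 0 := by rw [← hw, h0]
    simpa using this
  · obtain ⟨c, hc⟩ := hspan (e (Submodule.Quotient.mk w'))
    refine ⟨c, ?_⟩
    have h2 : (Submodule.Quotient.mk w' : P ⧸ LinearMap.range d) = c • Submodule.Quotient.mk w := by
      apply e.injective
      rw [map_smul, hw, e.apply_symm_apply, hc]
    rw [← Submodule.Quotient.mk_smul, Submodule.Quotient.eq] at h2
    obtain ⟨s, hs⟩ := h2
    exact ⟨s, by rw [hs]; abel⟩

theorem aux {A B R : Type u} [CommRing A] [CommRing B] [CommRing R] (f : A →+* R) (g : B →+* R) (x : R)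
    (a : A) (b : B) : x + (f a - g b) = x + f a + g (-b) := by
  rw [map_neg]; ring

theorem exists_cech (U V : X.Opens) (hU : IsAffineOpen U) (hV : IsAffineOpen V) (h : U ⊔ V = ⊤)
    (h1 : Module.finrank K (Coh.HH X (Coh.structureModule X) 1) = 1) :
    ∃ w : Γ(X, U ⊓ V),
      (∀ (a : Γ(X, U)) (b : Γ(X, V)), w ≠ rs inf_le_left a + rs inf_le_right b) ∧
      ∀ w' : Γ(X, U ⊓ V), ∃ (c : K) (a : Γ(X, U)) (b : Γ(X, V)),
        w' = str (K := K) (U ⊓ V) c * w + rs inf_le_left a + rs inf_le_right b := by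
  obtain ⟨w₀, hw, hw'⟩ := linalg (K := K) (Picfga.ChiCech.cechD K (Coh.structureModule X) U V)
    (Picfga.ChiCech.h1Equiv K (Coh.structureModule X) (CurvesC.UnitCoh.isQCoh_unit X) h hU hV) h1
  let w : Γ(X, U ⊓ V) := w₀
  refine ⟨w, fun a b hab => hw ⟨(a, -b), ?_⟩, fun w' => ?_⟩
  · refine Eq.trans ?_ hab.symm
    change rs inf_le_left a - rs inf_le_right (-b) = _
    rw [map_neg, sub_neg_eq_add]
  · obtain ⟨c, ⟨a, b⟩, hab⟩ := hw' w'
    refine ⟨c, a, -b, ?_⟩
    exact hab.trans (aux (rs inf_le_left) (rs inf_le_right) (str (U ⊓ V) c * w) a b)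

end Groth.Agent.Dix.EllCech
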