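import Groth.Agent.Dix.EllPoleAlg
import Mathlib.RingTheory.AdjoinRoot
import Mathlib.RingTheory.PowerBasis

/-!
# The two charts of a Weierstrass curve and the pole data of a curve of genus one

`exists_liftP` and `exists_liftO` : algebra homomorphisms out of the ring of functions regular away
from the point, resp. out of the local ring at the point, are given by solutions of the Weierstrass
equation.
-/

set_option autoImplicit false

universe u v w

open Polynomial

namespace Groth.Agent.Dix.EllPole

variable {K : Type u} [Field K]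

/-- The affine Weierstrass equation in a `K`-algebra. -/
def AffEq (W : WeierstrassCurve K) {A : Type w} [CommRing A] [Algebra K A] (x y : A) : Prop :=
  y ^ 2 + algebraMap K A W.a₁ * x * y + algebraMap K A W.a₃ * y =
      x ^ 3 + algebraMap K A W.a₂ * x ^ 2 + algebraMap K A W.a₄ * x + algebraMap K A W.a₆

/-- The Weierstrass equation in the chart at infinity, in a `K`-algebra. -/
def InfEq (W : WeierstrassCurve K) {A : Type w} [CommRing A] [Algebra K A] (x z : A) : Prop :=
  z + algebraMap K A W.a₁ * x * z + algebraMap K A W.a₃ * z ^ 2 =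
      x ^ 3 + algebraMap K A W.a₂ * x ^ 2 * z + algebraMap K A W.a₄ * x * z ^ 2 +
        algebraMap K A W.a₆ * z ^ 3

section AffLift

variable (W : WeierstrassCurve K)

theorem eval₂_polynomial {A : Type w} [CommRing A] [Algebra K A] (x y : A) :
    (WeierstrassCurve.Affine.polynomial W).eval₂ (aeval x : K[X] →ₐ[K] A).toRingHom y =
      y ^ 2 + algebraMap K A W.a₁ * x * y + algebraMap K A W.a₃ * y -
      (x ^ 3 + algebraMap K A W.a₂ * x ^ 2 + algebraMap K A W.a₄ * x + algebraMap K A W.a₆) := by
  simp [WeierstrassCurve.Affine.polynomial, eval₂_add, eval₂_sub, eval₂_mul, eval₂_pow]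
  ring

/-- Homomorphisms out of the affine coordinate ring. -/
noncomputable def affLift {A : Type w} [CommRing A] [Algebra K A] (x y : A) (h : AffEq W x y) :
    WeierstrassCurve.Affine.CoordinateRing W →+* A :=
  AdjoinRoot.lift (aeval x : K[X] →ₐ[K] A).toRingHom y (by
    rw [eval₂_polynomial]; exact sub_eq_zero.mpr h)

theorem affLift_smul {A : Type w} [CommRing A] [Algebra K A] (x y : A) (h : AffEq W x y)
    (p q : K[X]) : affLift W x y h (p • 1 + q • WeierstrassCurve.Affine.CoordinateRing.mk W X) =
      aeval x p + aeval x q * y := by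
  rw [WeierstrassCurve.Affine.CoordinateRing.smul, WeierstrassCurve.Affine.CoordinateRing.smul,
    map_add, map_mul, map_mul, map_one, mul_one]
  change (AdjoinRoot.lift _ _ _) (AdjoinRoot.of _ p) + (AdjoinRoot.lift _ _ _) (AdjoinRoot.of _ q) *
    (AdjoinRoot.lift _ _ _) (AdjoinRoot.root _) = _
  rw [AdjoinRoot.lift_of, AdjoinRoot.lift_of, AdjoinRoot.lift_root]
  rfl

end AffLift

section InfLift

variable (W : WeierstrassCurve K)

/-- The equation of the chart at infinity, as a polynomial in `X` over `K[Z]`. -/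
noncomputable def infPoly : K[X][X] :=
  X ^ 3 + C (C W.a₂ * X) * X ^ 2 + C (C W.a₄ * X ^ 2 - C W.a₁ * X) * X +
    C (C W.a₆ * X ^ 3 - C W.a₃ * X ^ 2 - X)

theorem infPoly_monic : (infPoly W).Monic := by
  unfold infPoly
  monicity!

theorem natDegree_infPoly : (infPoly W).natDegree = 3 := by
  unfold infPoly
  compute_degree!

/-- The ring of the chart at infinity. -/
abbrev InfRing : Type u := AdjoinRoot (infPoly W)

theorem eval₂_infPoly {A : Type w} [CommRing A] [Algebra K A] (x z : A) :
    (infPoly W).eval₂ (aeval z : K[X] →ₐ[K] A).toRingHom x =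
      x ^ 3 + algebraMap K A W.a₂ * x ^ 2 * z + algebraMap K A W.a₄ * x * z ^ 2 +
        algebraMap K A W.a₆ * z ^ 3 -
      (z + algebraMap K A W.a₁ * x * z + algebraMap K A W.a₃ * z ^ 2) := by
  simp [infPoly, eval₂_add, eval₂_sub, eval₂_mul, eval₂_pow]
  ring

/-- Homomorphisms out of the coordinate ring of the chart at infinity. -/
noncomputable def infLift {A : Type w} [CommRing A] [Algebra K A] (x z : A) (h : InfEq W x z) :
    InfRing W →+* A :=
  AdjoinRoot.lift (aeval z : K[X] →ₐ[K] A).toRingHom x (by
    rw [eval₂_infPoly]; exact sub_eq_zero.mpr h.symm)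

theorem infLift_mk {A : Type w} [CommRing A] [Algebra K A] (x z : A) (h : InfEq W x z)
    (p : K[X][X]) : infLift W x z h (AdjoinRoot.mk _ p) =
      p.eval₂ (aeval z : K[X] →ₐ[K] A).toRingHom x :=
  AdjoinRoot.lift_mk _ _

theorem infLift_comp {A B : Type w} [CommRing A] [Algebra K A] [CommRing B] [Algebra K B]
    (φ : A →ₐ[K] B) (x z : A) (h : InfEq W x z) (h' : InfEq W (φ x) (φ z)) :
    φ.toRingHom.comp (infLift W x z h) = infLift W (φ x) (φ z) h' := by
  refine AdjoinRoot.ringHom_ext ?_ ?_
  · ext p
    · simp [infLift]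
    · simp [infLift]
  · simp [infLift]

/-- Every element of the coordinate ring at infinity is a combination of `1, X, X ^ 2` over `K[Z]`. -/
theorem exists_inf_eq (b : InfRing W) : ∃ p q r : K[X],
    b = AdjoinRoot.mk _ (C p + C q * X + C r * X ^ 2) := by
  obtain ⟨f, rfl⟩ := AdjoinRoot.mk_surjective b
  refine ⟨(f %ₘ infPoly W).coeff 0, (f %ₘ infPoly W).coeff 1, (f %ₘ infPoly W).coeff 2, ?_⟩
  have h1 : AdjoinRoot.mk (infPoly W) f = AdjoinRoot.mk (infPoly W) (f %ₘ infPoly W) := by
    rw [AdjoinRoot.mk_eq_mk]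
    exact (modByMonic_eq_sub_mul_div f (infPoly W)) ▸ ⟨f /ₘ infPoly W, by ring⟩
  rw [h1]
  congr 1
  have h2 : (f %ₘ infPoly W).natDegree < 3 := by
    have := natDegree_modByMonic_lt f (infPoly_monic W) (by
      intro h
      have := natDegree_infPoly W
      rw [h] at this
      simp at this)
    rwa [natDegree_infPoly] at this
  conv_lhs => rw [(f %ₘ infPoly W).as_sum_range' 3 h2]
  simp [Finset.sum_range_succ, ← C_mul_X_pow_eq_monomial]

end InfLift

end Groth.Agent.Dix.EllPole
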