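import Groth.Agent.Dix.EllPoleAlg

/-!
# Universal property of the ring of functions regular away from the point
-/

set_option autoImplicit false

universe u v w

open Polynomial

namespace Groth.Agent.Dix.EllPole

namespace PoleData

variable {K : Type u} {F : Type v} [Field K] [Field F] [Algebra K F] {D : PoleData K F}

theorem eval₂_weier (W : WeierstrassCurve K) {B : Type w} [CommRing B] (s : K →+* B) (x y : B) :
    (WeierstrassCurve.Affine.polynomial W).eval₂ (eval₂RingHom s x) y =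
      y ^ 2 + s W.a₁ * x * y + s W.a₃ * y -
      (x ^ 3 + s W.a₂ * x ^ 2 + s W.a₄ * x + s W.a₆) := by
  simp [WeierstrassCurve.Affine.polynomial, eval₂_add, eval₂_sub, eval₂_mul, eval₂_pow]
  ring

/-- Homomorphisms out of the Weierstrass coordinate ring. -/
noncomputable def weierLift (W : WeierstrassCurve K) {B : Type w} [CommRing B] (s : K →+* B) (a b : B)
    (h : b ^ 2 + s W.a₁ * a * b + s W.a₃ * b = a ^ 3 + s W.a₂ * a ^ 2 + s W.a₄ * a + s W.a₆) :
    WeierstrassCurve.Affine.CoordinateRing W →+* B :=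
  AdjoinRoot.lift (eval₂RingHom s a) b (by rw [eval₂_weier]; exact sub_eq_zero.mpr h)

theorem weierLift_smul (W : WeierstrassCurve K) {B : Type w} [CommRing B] (s : K →+* B) (a b : B)
    (h : b ^ 2 + s W.a₁ * a * b + s W.a₃ * b = a ^ 3 + s W.a₂ * a ^ 2 + s W.a₄ * a + s W.a₆)
    (p q : K[X]) :
    weierLift W s a b h (p • 1 + q • WeierstrassCurve.Affine.CoordinateRing.mk W X) =
      p.eval₂ s a + q.eval₂ s a * b := by
  rw [WeierstrassCurve.Affine.CoordinateRing.smul, WeierstrassCurve.Affine.CoordinateRing.smul,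
    map_add, map_mul, map_mul, map_one, mul_one]
  change (AdjoinRoot.lift _ _ _) (AdjoinRoot.of _ p) + (AdjoinRoot.lift _ _ _) (AdjoinRoot.of _ q) *
    (AdjoinRoot.lift _ _ _) (AdjoinRoot.root _) = _
  rw [AdjoinRoot.lift_of, AdjoinRoot.lift_of, AdjoinRoot.lift_root]
  rfl

namespace XY

variable (s : XY D)

/-- Uniqueness of homomorphisms out of `P`. -/
theorem hom_ext {B : Type w} [CommRing B] (φ ψ : D.P →+* B)
    (h : φ.comp (algebraMap K D.P) = ψ.comp (algebraMap K D.P))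
    (hx : φ ⟨s.x, s.x_mem⟩ = ψ ⟨s.x, s.x_mem⟩) (hy : φ ⟨s.y, s.y_mem⟩ = ψ ⟨s.y, s.y_mem⟩) :
    φ = ψ := by
  ext ⟨f, hf⟩
  obtain ⟨p, q, rfl⟩ := s.exists_eq_of_mem hf
  have key : ∀ (χ : D.P →+* B), χ ⟨aeval s.x p + aeval s.x q * s.y, hf⟩ =
      p.eval₂ (χ.comp (algebraMap K D.P)) (χ ⟨s.x, s.x_mem⟩) +
        q.eval₂ (χ.comp (algebraMap K D.P)) (χ ⟨s.x, s.x_mem⟩) * χ ⟨s.y, s.y_mem⟩ := by
    intro χ
    have e1 : ∀ p : K[X], aeval s.x p = ((aeval (⟨s.x, s.x_mem⟩ : D.P) p : D.P) : F) := fun p => by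
      have := aeval_algebraMap_apply F (⟨s.x, s.x_mem⟩ : D.P) p
      exact this
    have e2 : (⟨aeval s.x p + aeval s.x q * s.y, hf⟩ : D.P) =
        aeval (⟨s.x, s.x_mem⟩ : D.P) p + aeval (⟨s.x, s.x_mem⟩ : D.P) q * ⟨s.y, s.y_mem⟩ := by
      apply Subtype.ext
      simp only [Subalgebra.coe_add, Subalgebra.coe_mul, ← e1]
    rw [e2, map_add, map_mul]
    have e3 : ∀ p : K[X], χ (aeval (⟨s.x, s.x_mem⟩ : D.P) p) =
        p.eval₂ (χ.comp (algebraMap K D.P)) (χ ⟨s.x, s.x_mem⟩) := fun p => by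
      rw [aeval_def, hom_eval₂]
    rw [e3, e3]
  rw [key, key, h, hx, hy]

/-- Existence of homomorphisms out of `P`. -/
theorem exists_hom {W : WeierstrassCurve K}
    (hW : s.y ^ 2 + algebraMap K F W.a₁ * s.x * s.y + algebraMap K F W.a₃ * s.y =
      s.x ^ 3 + algebraMap K F W.a₂ * s.x ^ 2 + algebraMap K F W.a₄ * s.x + algebraMap K F W.a₆)
    {B : Type w} [CommRing B] (r : K →+* B) (a b : B)
    (h : b ^ 2 + r W.a₁ * a * b + r W.a₃ * b = a ^ 3 + r W.a₂ * a ^ 2 + r W.a₄ * a + r W.a₆) :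
    ∃ φ : D.P →+* B, φ.comp (algebraMap K D.P) = r ∧ φ ⟨s.x, s.x_mem⟩ = a ∧
      φ ⟨s.y, s.y_mem⟩ = b := by
  let ψ : WeierstrassCurve.Affine.CoordinateRing W →+* D.P :=
    weierLift W (algebraMap K D.P) ⟨s.x, s.x_mem⟩ ⟨s.y, s.y_mem⟩ (Subtype.ext hW)
  have hψ : ∀ p q : K[X], ψ (p • 1 + q • WeierstrassCurve.Affine.CoordinateRing.mk W X) =
      ⟨aeval s.x p + aeval s.x q * s.y, s.aeval_mem p q⟩ := by
    intro p q
    apply Subtype.ext
    have e1 : ∀ p : K[X], ((p.eval₂ (algebraMap K D.P) (⟨s.x, s.x_mem⟩ : D.P) : D.P) : F) =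
        aeval s.x p := fun p => by
      have := aeval_algebraMap_apply F (⟨s.x, s.x_mem⟩ : D.P) p
      exact this.symm
    change ((ψ (p • 1 + q • WeierstrassCurve.Affine.CoordinateRing.mk W X) : D.P) : F) = _
    rw [weierLift_smul]
    simp only [Subalgebra.coe_add, Subalgebra.coe_mul, e1]
  have hbij : Function.Bijective ψ := by
    constructor
    · rw [injective_iff_map_eq_zero]
      intro c hc
      obtain ⟨p, q, rfl⟩ := WeierstrassCurve.Affine.CoordinateRing.exists_smul_basis_eq c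
      rw [hψ] at hc
      obtain ⟨rfl, rfl⟩ := s.eq_zero p q (congrArg Subtype.val hc)
      simp
    · rintro ⟨f, hf⟩
      obtain ⟨p, q, rfl⟩ := s.exists_eq_of_mem hf
      exact ⟨_, hψ p q⟩
  let e := RingEquiv.ofBijective ψ hbij
  have hX : e.symm ⟨s.x, s.x_mem⟩ =
      (X : K[X]) • 1 + (0 : K[X]) • WeierstrassCurve.Affine.CoordinateRing.mk W X := by
    rw [RingEquiv.symm_apply_eq]
    refine Eq.trans ?_ (hψ _ _).symm
    apply Subtype.ext; simp
  have hY : e.symm ⟨s.y, s.y_mem⟩ =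
      (0 : K[X]) • 1 + (1 : K[X]) • WeierstrassCurve.Affine.CoordinateRing.mk W X := by
    rw [RingEquiv.symm_apply_eq]
    refine Eq.trans ?_ (hψ _ _).symm
    apply Subtype.ext; simp
  have hC : ∀ c : K, e.symm (algebraMap K D.P c) =
      (C c : K[X]) • 1 + (0 : K[X]) • WeierstrassCurve.Affine.CoordinateRing.mk W X := by
    intro c
    rw [RingEquiv.symm_apply_eq]
    refine Eq.trans ?_ (hψ _ _).symm
    apply Subtype.ext
    simp
  refine ⟨(weierLift W r a b h).comp e.symm.toRingHom, ?_, ?_, ?_⟩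
  · ext c
    change weierLift W r a b h (e.symm (algebraMap K D.P c)) = _
    rw [hC, weierLift_smul]; simp
  · change weierLift W r a b h (e.symm _) = _
    rw [hX, weierLift_smul]; simp
  · change weierLift W r a b h (e.symm _) = _
    rw [hY, weierLift_smul]; simp

end XY

end PoleData

end Groth.Agent.Dix.EllPole
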