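import Groth.Agent.Dix.EllLocal
import Groth.Agent.Dix.EllPoleUniv

/-!
# Fractions in the two charts of a Weierstrass curve
-/

set_option autoImplicit false

universe u v w

open Polynomial

namespace Groth.Agent.Dix.EllPole

variable {K : Type u} [Field K] {W : WeierstrassCurve K}

/-- The elements of `F` which become elements of the chart at infinity after multiplication by a
power of `w = 1/y`. -/
noncomputable def denSubring {F : Type v} [Field F] (ι : InfRing W →+* F) : Subring F where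
  carrier := {f | ∃ (n : ℕ) (b : InfRing W), ι (zInf W) ^ n * f = ι b}
  zero_mem' := ⟨0, 0, by simp⟩
  one_mem' := ⟨0, 1, by simp⟩
  add_mem' := by
    rintro f g ⟨n, b, hb⟩ ⟨m, c, hc⟩
    refine ⟨n + m, zInf W ^ m * b + zInf W ^ n * c, ?_⟩
    rw [map_add, map_mul, map_mul, map_pow, map_pow, ← hb, ← hc]
    ring
  mul_mem' := by
    rintro f g ⟨n, b, hb⟩ ⟨m, c, hc⟩
    refine ⟨n + m, b * c, ?_⟩
    rw [map_mul, ← hb, ← hc]
    ring
  neg_mem' := by
    rintro f ⟨n, b, hb⟩
    refine ⟨n, -b, ?_⟩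
    rw [map_neg, ← hb]
    ring

theorem mem_denSubring_eval₂ {F : Type v} [Field F] (ι : InfRing W →+* F) {x y : F}
    (hy : ι (zInf W) * y = 1) (hx : ι (xInf W) * y = x) (p q : K[X]) :
    p.eval₂ (ι.comp (kInf W)) x + q.eval₂ (ι.comp (kInf W)) x * y ∈ denSubring ι := by
  have hym : y ∈ denSubring ι := ⟨1, 1, by rw [pow_one, map_one, hy]⟩
  have hxm : x ∈ denSubring ι := ⟨1, xInf W, by rw [← hx]; linear_combination ι (xInf W) * hy⟩
  have hkm : ∀ c : K, (ι.comp (kInf W)) c ∈ denSubring ι := fun c => ⟨0, kInf W c, by simp⟩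
  have hp : ∀ p : K[X], p.eval₂ (ι.comp (kInf W)) x ∈ denSubring ι := fun p => by
    rw [eval₂_eq_sum_range]
    exact Subring.sum_mem _ fun i _ => Subring.mul_mem _ (hkm _) (Subring.pow_mem _ hxm i)
  exact Subring.add_mem _ (hp p) (Subring.mul_mem _ (hp q) hym)

/-- Every element of the function field is a quotient of elements of the chart at infinity. -/
theorem exists_frac {F : Type v} [Field F] (ι : InfRing W →+* F) {x y : F}
    (hy : ι (zInf W) * y = 1) (hx : ι (xInf W) * y = x)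
    {f : F} (hf : ∃ p q p' q' : K[X], p'.eval₂ (ι.comp (kInf W)) x + q'.eval₂ (ι.comp (kInf W)) x * y ≠ 0 ∧
      (p'.eval₂ (ι.comp (kInf W)) x + q'.eval₂ (ι.comp (kInf W)) x * y) * f =
        p.eval₂ (ι.comp (kInf W)) x + q.eval₂ (ι.comp (kInf W)) x * y) :
    ∃ a b : InfRing W, ι b ≠ 0 ∧ ι b * f = ι a := by
  obtain ⟨p, q, p', q', h0, h⟩ := hf
  obtain ⟨n, a, ha⟩ := mem_denSubring_eval₂ ι hy hx p q
  obtain ⟨m, b, hb⟩ := mem_denSubring_eval₂ ι hy hx p' q'
  have hz : ι (zInf W) ≠ 0 := left_ne_zero_of_mul_eq_one hy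
  refine ⟨zInf W ^ m * a, zInf W ^ n * b, ?_, ?_⟩
  · rw [map_mul, map_pow, ← hb]
    exact mul_ne_zero (pow_ne_zero _ hz) (mul_ne_zero (pow_ne_zero _ hz) h0)
  · rw [map_mul, map_mul, map_pow, map_pow, ← ha, ← hb, ← h]
    ring

/-- Elements of a ring with the universal property of the coordinate ring. -/
theorem exists_eval₂_eq {R : Type v} [CommRing R] (s : K →+* R) (x y : R)
    (eqn : y ^ 2 + s W.a₁ * x * y + s W.a₃ * y = x ^ 3 + s W.a₂ * x ^ 2 + s W.a₄ * x + s W.a₆)
    (φ : R →+* WeierstrassCurve.Affine.CoordinateRing W)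
    (hφ : ((PoleData.weierLift W s x y eqn).comp φ) = RingHom.id R) (c : R) :
    ∃ p q : K[X], c = p.eval₂ s x + q.eval₂ s x * y := by
  obtain ⟨p, q, hpq⟩ := WeierstrassCurve.Affine.CoordinateRing.exists_smul_basis_eq (φ c)
  refine ⟨p, q, ?_⟩
  have h1 : PoleData.weierLift W s x y eqn (φ c) = c := congrArg (fun t : R →+* R => t c) hφ
  rw [← h1, ← hpq, PoleData.weierLift_smul]

end Groth.Agent.Dix.EllPole
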