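import Groth.Agent.Dix.EllChart
import Mathlib.RingTheory.DiscreteValuationRing.TFAE
import Mathlib.RingTheory.Nakayama

/-!
# The local ring of a Weierstrass curve at the point at infinity

Let `O` be a Noetherian local domain over a field `K` containing a solution `(z, w)` of the Weierstrass
equation at infinity, in the maximal ideal, with `w ≠ 0`, whose fraction field is generated by `z` and `w`.
Then local homomorphisms from `O` to local `K`-algebras are the solutions of that equation in
the maximal ideal (`exists_localHom`).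
-/

set_option autoImplicit false

universe u v w

open Polynomial

namespace Groth.Agent.Dix.EllPole

section Algebra

variable {K : Type u} [Field K] (W : WeierstrassCurve K)

/-- The coordinate ring at infinity is a `K`-algebra. -/
noncomputable def kInf : K →+* InfRing W := (AdjoinRoot.of (infPoly W)).comp C

/-- The function `X`. -/
noncomputable def xInf : InfRing W := AdjoinRoot.root (infPoly W)

/-- The function `Z`. -/
noncomputable def zInf : InfRing W := AdjoinRoot.of (infPoly W) X

/-- Homomorphisms out of the coordinate ring at infinity, form with a ring homomorphism. -/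
noncomputable def infHom {A : Type w} [CommRing A] (s : K →+* A) (x z : A)
    (h : z + s W.a₁ * x * z + s W.a₃ * z ^ 2 =
      x ^ 3 + s W.a₂ * x ^ 2 * z + s W.a₄ * x * z ^ 2 + s W.a₆ * z ^ 3) : InfRing W →+* A :=
  AdjoinRoot.lift (eval₂RingHom s z) x (by
    rw [show (infPoly W).eval₂ (eval₂RingHom s z) x =
      x ^ 3 + s W.a₂ * x ^ 2 * z + s W.a₄ * x * z ^ 2 + s W.a₆ * z ^ 3 -
      (z + s W.a₁ * x * z + s W.a₃ * z ^ 2) by
      simp [infPoly, eval₂_add, eval₂_sub, eval₂_mul, eval₂_pow]
      ring]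
    exact sub_eq_zero.mpr h.symm)

variable {W}

theorem infHom_x {A : Type w} [CommRing A] (s : K →+* A) (x z : A)
    (h : z + s W.a₁ * x * z + s W.a₃ * z ^ 2 =
      x ^ 3 + s W.a₂ * x ^ 2 * z + s W.a₄ * x * z ^ 2 + s W.a₆ * z ^ 3) :
    infHom W s x z h (xInf W) = x := AdjoinRoot.lift_root _

theorem infHom_z {A : Type w} [CommRing A] (s : K →+* A) (x z : A)
    (h : z + s W.a₁ * x * z + s W.a₃ * z ^ 2 =
      x ^ 3 + s W.a₂ * x ^ 2 * z + s W.a₄ * x * z ^ 2 + s W.a₆ * z ^ 3) :
    infHom W s x z h (zInf W) = z := (AdjoinRoot.lift_of _).trans (by simp)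

theorem infHom_k {A : Type w} [CommRing A] (s : K →+* A) (x z : A)
    (h : z + s W.a₁ * x * z + s W.a₃ * z ^ 2 =
      x ^ 3 + s W.a₂ * x ^ 2 * z + s W.a₄ * x * z ^ 2 + s W.a₆ * z ^ 3) (c : K) :
    infHom W s x z h (kInf W c) = s c := (AdjoinRoot.lift_of _).trans (by simp)

theorem infRing_hom_ext {A : Type w} [CommRing A] {φ ψ : InfRing W →+* A}
    (hk : φ.comp (kInf W) = ψ.comp (kInf W)) (hx : φ (xInf W) = ψ (xInf W))
    (hz : φ (zInf W) = ψ (zInf W)) : φ = ψ := by
  refine AdjoinRoot.ringHom_ext ?_ hx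
  refine Polynomial.ringHom_ext (fun c => ?_) hz
  exact congrArg (fun t : K →+* A => t c) hk

variable (W)

/-- Evaluation at the point. -/
noncomputable def evInf : InfRing W →+* K := infHom W (RingHom.id K) 0 0 (by simp)

theorem evInf_k (c : K) : evInf W (kInf W c) = c := infHom_k _ _ _ _ c

theorem evInf_x : evInf W (xInf W) = 0 := infHom_x _ _ _ _

theorem evInf_z : evInf W (zInf W) = 0 := infHom_z _ _ _ _

theorem relInf : zInf W * (1 + kInf W W.a₁ * xInf W + kInf W W.a₃ * zInf W
    - kInf W W.a₂ * xInf W ^ 2 - kInf W W.a₄ * xInf W * zInf W - kInf W W.a₆ * zInf W ^ 2) =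
      xInf W ^ 3 := by
  have h : AdjoinRoot.mk (infPoly W) (infPoly W) = 0 := AdjoinRoot.mk_self
  have h2 : AdjoinRoot.mk (infPoly W) (infPoly W) = xInf W ^ 3 +
      kInf W W.a₂ * zInf W * xInf W ^ 2 + (kInf W W.a₄ * zInf W ^ 2 - kInf W W.a₁ * zInf W) * xInf W +
      (kInf W W.a₆ * zInf W ^ 3 - kInf W W.a₃ * zInf W ^ 2 - zInf W) := by
    change AdjoinRoot.mk (infPoly W) (X ^ 3 + C (C W.a₂ * X) * X ^ 2 +
      C (C W.a₄ * X ^ 2 - C W.a₁ * X) * X + C (C W.a₆ * X ^ 3 - C W.a₃ * X ^ 2 - X)) = _
    simp only [map_add, map_mul, map_sub, map_pow]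
    rfl
  rw [h2] at h
  linear_combination -h

/-- The maximal ideal of the point. -/
noncomputable def mInf : Ideal (InfRing W) := RingHom.ker (evInf W)

instance : (mInf W).IsPrime := RingHom.ker_isPrime _

theorem mem_mInf (b : InfRing W) : b ∈ mInf W ↔ ∃ c d : InfRing W, b = c * xInf W + d * zInf W := by
  constructor
  · intro hb
    obtain ⟨p, q, r, rfl⟩ := exists_inf_eq W b
    have h1 : AdjoinRoot.mk (infPoly W) (C p + C q * X + C r * X ^ 2) =
        AdjoinRoot.of (infPoly W) p + (AdjoinRoot.of (infPoly W) q +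
          AdjoinRoot.of (infPoly W) r * xInf W) * xInf W := by
      simp only [map_add, map_mul, map_pow]
      change AdjoinRoot.of (infPoly W) p + AdjoinRoot.of (infPoly W) q * xInf W +
        AdjoinRoot.of (infPoly W) r * xInf W ^ 2 = _
      ring
    have h2 : AdjoinRoot.of (infPoly W) p =
        kInf W (p.coeff 0) + AdjoinRoot.of (infPoly W) p.divX * zInf W := by
      conv_lhs => rw [← divX_mul_X_add p]
      rw [map_add, map_mul, add_comm]
      rfl
    rw [h1, h2] at hb ⊢
    have h3 : evInf W (kInf W (p.coeff 0) + AdjoinRoot.of (infPoly W) p.divX * zInf W +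
      (AdjoinRoot.of (infPoly W) q + AdjoinRoot.of (infPoly W) r * xInf W) * xInf W) = 0 := hb
    rw [map_add, map_add, map_mul, map_mul, evInf_k, evInf_z, evInf_x, mul_zero, mul_zero,
      add_zero, add_zero] at h3
    rw [h3, map_zero, zero_add]
    exact ⟨_, _, add_comm _ _⟩
  · rintro ⟨c, d, rfl⟩
    change evInf W _ = 0
    rw [map_add, map_mul, map_mul, evInf_x, evInf_z, mul_zero, mul_zero, add_zero]

/-- The local ring of the Weierstrass curve at infinity. -/
abbrev LInf : Type u := Localization.AtPrime (mInf W)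

theorem isUnit_uInf : IsUnit (algebraMap (InfRing W) (LInf W)
    (1 + kInf W W.a₁ * xInf W + kInf W W.a₃ * zInf W
    - kInf W W.a₂ * xInf W ^ 2 - kInf W W.a₄ * xInf W * zInf W - kInf W W.a₆ * zInf W ^ 2)) := by
  apply IsLocalization.map_units (LInf W) (⟨_, ?_⟩ : (mInf W).primeCompl)
  intro h
  have h1 : evInf W _ = 0 := h
  simp only [map_add, map_sub, map_mul, map_pow, evInf_x, evInf_z, map_one] at h1
  simp at h1

/-- The maximal ideal of the local ring is generated by `X`. -/
theorem maximalIdeal_LInf : IsLocalRing.maximalIdeal (LInf W) =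
    Ideal.span {algebraMap (InfRing W) (LInf W) (xInf W)} := by
  apply le_antisymm
  · rw [← Localization.AtPrime.map_eq_maximalIdeal, Ideal.map_le_iff_le_comap]
    intro b hb
    obtain ⟨c, d, rfl⟩ := (mem_mInf W b).mp hb
    rw [Ideal.mem_comap, map_add, map_mul, map_mul]
    refine Ideal.add_mem _ (Ideal.mul_mem_left _ _ (Ideal.mem_span_singleton_self _))
      (Ideal.mul_mem_left _ _ ?_)
    have h1 := congrArg (algebraMap (InfRing W) (LInf W)) (relInf W)
    rw [map_mul] at h1
    obtain ⟨v, hv⟩ := isUnit_uInf W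
    rw [← hv] at h1
    have h2 : algebraMap (InfRing W) (LInf W) (zInf W) =
        (algebraMap (InfRing W) (LInf W) (xInf W) ^ 2 * ↑v⁻¹) *
          algebraMap (InfRing W) (LInf W) (xInf W) := by
      rw [map_pow] at h1
      calc _ = (algebraMap (InfRing W) (LInf W) (zInf W) * v) * ↑v⁻¹ := by
            rw [mul_assoc, Units.mul_inv, mul_one]
        _ = _ := by rw [h1]; ring
    exact h2 ▸ Ideal.mul_mem_left _ _ (Ideal.mem_span_singleton_self _)
  · rw [Ideal.span_singleton_le_iff_mem, ← Localization.AtPrime.map_eq_maximalIdeal]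
    exact Ideal.mem_map_of_mem _ ((mem_mInf W _).mpr ⟨1, 0, by ring⟩)

instance : IsNoetherianRing (InfRing W) :=
  inferInstanceAs (IsNoetherianRing (K[X][X] ⧸ _))

instance : IsNoetherianRing (LInf W) :=
  IsLocalization.isNoetherianRing (mInf W).primeCompl _ inferInstance

variable {W}

/-- `φ` is the reduction of the evaluation at the point. -/
theorem residue_infHom {O : Type w} [CommRing O] [IsLocalRing O] (s : K →+* O) {x z : O}
    (hx : x ∈ IsLocalRing.maximalIdeal O) (hz : z ∈ IsLocalRing.maximalIdeal O)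
    (h : z + s W.a₁ * x * z + s W.a₃ * z ^ 2 =
      x ^ 3 + s W.a₂ * x ^ 2 * z + s W.a₄ * x * z ^ 2 + s W.a₆ * z ^ 3) (b : InfRing W) :
    IsLocalRing.residue O (infHom W s x z h b) = IsLocalRing.residue O (s (evInf W b)) := by
  have : (IsLocalRing.residue O).comp (infHom W s x z h) =
      ((IsLocalRing.residue O).comp s).comp (evInf W) := by
    apply infRing_hom_ext
    · ext c
      simp only [RingHom.comp_apply, infHom_k, evInf_k]
    · simp only [RingHom.comp_apply, infHom_x, evInf_x, map_zero]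
      exact (IsLocalRing.residue_eq_zero_iff _).mpr hx
    · simp only [RingHom.comp_apply, infHom_z, evInf_z, map_zero]
      exact (IsLocalRing.residue_eq_zero_iff _).mpr hz
  exact congrArg (fun t : InfRing W →+* _ => t b) this

theorem isUnit_infHom {O : Type w} [CommRing O] [IsLocalRing O] (s : K →+* O) {x z : O}
    (hx : x ∈ IsLocalRing.maximalIdeal O) (hz : z ∈ IsLocalRing.maximalIdeal O)
    (h : z + s W.a₁ * x * z + s W.a₃ * z ^ 2 =
      x ^ 3 + s W.a₂ * x ^ 2 * z + s W.a₄ * x * z ^ 2 + s W.a₆ * z ^ 3) (b : (mInf W).primeCompl) :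
    IsUnit (infHom W s x z h b) := by
  by_contra hcon
  have h1 := (IsLocalRing.residue_eq_zero_iff _).mpr ((IsLocalRing.mem_maximalIdeal _).mpr hcon)
  rw [residue_infHom s hx hz] at h1
  have h2 : evInf W b ≠ 0 := b.2
  exact ((Ne.isUnit h2).map ((IsLocalRing.residue O).comp s)).ne_zero h1

/-- The homomorphism out of the local ring at infinity. -/
noncomputable def locHom {O : Type w} [CommRing O] [IsLocalRing O] (s : K →+* O) {x z : O}
    (hx : x ∈ IsLocalRing.maximalIdeal O) (hz : z ∈ IsLocalRing.maximalIdeal O)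
    (h : z + s W.a₁ * x * z + s W.a₃ * z ^ 2 =
      x ^ 3 + s W.a₂ * x ^ 2 * z + s W.a₄ * x * z ^ 2 + s W.a₆ * z ^ 3) : LInf W →+* O :=
  IsLocalization.lift (M := (mInf W).primeCompl) (g := infHom W s x z h) (isUnit_infHom s hx hz h)

theorem locHom_algebraMap {O : Type w} [CommRing O] [IsLocalRing O] (s : K →+* O) {x z : O}
    (hx : x ∈ IsLocalRing.maximalIdeal O) (hz : z ∈ IsLocalRing.maximalIdeal O)
    (h : z + s W.a₁ * x * z + s W.a₃ * z ^ 2 =
      x ^ 3 + s W.a₂ * x ^ 2 * z + s W.a₄ * x * z ^ 2 + s W.a₆ * z ^ 3) (b : InfRing W) :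
    locHom s hx hz h (algebraMap _ _ b) = infHom W s x z h b :=
  IsLocalization.lift_eq _ _

theorem isLocalHom_locHom {O : Type w} [CommRing O] [IsLocalRing O] (s : K →+* O) {x z : O}
    (hx : x ∈ IsLocalRing.maximalIdeal O) (hz : z ∈ IsLocalRing.maximalIdeal O)
    (h : z + s W.a₁ * x * z + s W.a₃ * z ^ 2 =
      x ^ 3 + s W.a₂ * x ^ 2 * z + s W.a₄ * x * z ^ 2 + s W.a₆ * z ^ 3) :
    IsLocalHom (locHom s hx hz h) := by
  rw [((IsLocalRing.local_hom_TFAE (locHom s hx hz h)).out 0 2 :)]
  rw [maximalIdeal_LInf, Ideal.map_span, Set.image_singleton, locHom_algebraMap, infHom_x,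
    Ideal.span_singleton_le_iff_mem]
  exact hx

/-- The key lemma: a Noetherian local domain with a solution generating its fraction field is the
local ring at infinity. -/
theorem bijective_locHom {O : Type w} [CommRing O] [IsDomain O] [IsLocalRing O]
    (s : K →+* O) {x z : O}
    (hx : x ∈ IsLocalRing.maximalIdeal O) (hz : z ∈ IsLocalRing.maximalIdeal O)
    (h : z + s W.a₁ * x * z + s W.a₃ * z ^ 2 =
      x ^ 3 + s W.a₂ * x ^ 2 * z + s W.a₄ * x * z ^ 2 + s W.a₆ * z ^ 3) (hz0 : z ≠ 0)
    (hfrac : ∀ o : O, ∃ p q : InfRing W, infHom W s x z h q ≠ 0 ∧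
      infHom W s x z h q * o = infHom W s x z h p) :
    Function.Bijective (locHom s hx hz h) := by
  have hloc := isLocalHom_locHom s hx hz h
  set l := locHom s hx hz h with hl
  have hx0 : x ≠ 0 := by
    intro hx0
    have h1 := congrArg (infHom W s x z h) (relInf W)
    rw [map_mul, map_pow, infHom_x, infHom_z] at h1
    replace h1 := h1.trans (show x ^ 3 = 0 by rw [hx0]; ring)
    have h2 : infHom W s x z h (1 + kInf W W.a₁ * xInf W + kInf W W.a₃ * zInf W
      - kInf W W.a₂ * xInf W ^ 2 - kInf W W.a₄ * xInf W * zInf W - kInf W W.a₆ * zInf W ^ 2) ≠ 0 := by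
      apply IsUnit.ne_zero
      refine isUnit_infHom s hx hz h ⟨_, ?_⟩
      intro h3
      have h4 : evInf W _ = 0 := h3
      simp only [map_add, map_sub, map_mul, map_pow, evInf_x, evInf_z, map_one] at h4
      simp at h4
    rcases mul_eq_zero.mp h1 with h3 | h3
    · exact hz0 h3
    · exact h2 h3
  have hlx : l (algebraMap _ _ (xInf W)) = x := by rw [hl, locHom_algebraMap, infHom_x]
  -- injectivity
  have hinj : Function.Injective l := by
    rw [injective_iff_map_eq_zero, ← RingHom.ker_eq_bot_iff_eq_zero]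
    apply Submodule.eq_bot_of_le_smul_of_le_jacobson_bot (IsLocalRing.maximalIdeal (LInf W))
    · exact IsNoetherian.noetherian _
    · intro g hg
      have hg' : l g = 0 := hg
      have h1 : g ∈ IsLocalRing.maximalIdeal (LInf W) := by
        rw [IsLocalRing.mem_maximalIdeal]
        intro hu
        exact (hu.map l).ne_zero hg'
      rw [maximalIdeal_LInf, Ideal.mem_span_singleton'] at h1
      obtain ⟨g₁, rfl⟩ := h1
      rw [map_mul, hlx] at hg'
      have h2 : g₁ ∈ RingHom.ker l := (mul_eq_zero.mp hg').resolve_right hx0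
      rw [mul_comm]
      refine Submodule.smul_mem_smul ?_ h2
      rw [maximalIdeal_LInf]
      exact Ideal.mem_span_singleton_self _
    · exact IsLocalRing.maximalIdeal_le_jacobson _
  have hdom : IsDomain (LInf W) := hinj.isDomain l
  have hval : ValuationRing (LInf W) := by
    have hnf : ¬ IsField (LInf W) := by
      intro hf
      rw [IsLocalRing.isField_iff_maximalIdeal_eq, maximalIdeal_LInf, Ideal.span_singleton_eq_bot] at hf
      rw [hf, map_zero] at hlx
      exact hx0 hlx.symm
    have := (tfae_of_isNoetherianRing_of_isLocalRing_of_isDomain (LInf W)).out 4 1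
    exact this.mp (maximalIdeal_LInf W ▸ ⟨_, rfl⟩)
  refine ⟨hinj, fun o => ?_⟩
  obtain ⟨p, q, hq, e⟩ := hfrac o
  rw [← locHom_algebraMap s hx hz h q, ← locHom_algebraMap s hx hz h p, ← hl] at e
  rw [← locHom_algebraMap s hx hz h q, ← hl] at hq
  rcases ValuationRing.dvd_total (algebraMap (InfRing W) (LInf W) q)
    (algebraMap (InfRing W) (LInf W) p) with ⟨c, hc⟩ | ⟨c, hc⟩
  · refine ⟨c, ?_⟩
    rw [hc, map_mul] at e
    exact (mul_left_cancel₀ hq e).symm
  · rw [hc, map_mul, mul_assoc] at e
    have hp : l (algebraMap (InfRing W) (LInf W) p) ≠ 0 := by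
      intro h0
      rw [hc, map_mul, h0, zero_mul] at hq
      exact hq rfl
    have h1 : l c * o = 1 := mul_left_cancel₀ hp (by rw [e, mul_one])
    have h2 : IsUnit (l c) := IsUnit.of_mul_eq_one _ h1
    have h3 : IsUnit c := isUnit_of_map_unit l c h2
    obtain ⟨v, rfl⟩ := h3
    refine ⟨(↑v⁻¹ : LInf W), ?_⟩
    have h4 : l (v : LInf W) * l (↑v⁻¹ : LInf W) = 1 := by rw [← map_mul, Units.mul_inv, map_one]
    exact mul_left_cancel₀ h2.ne_zero (by rw [h4, h1])

/-- Local homomorphisms from the local ring at the point to local rings, given by solutions. -/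
theorem exists_localHom {O : Type w} [CommRing O] [IsDomain O] [IsLocalRing O]
    (s : K →+* O) {x z : O}
    (hx : x ∈ IsLocalRing.maximalIdeal O) (hz : z ∈ IsLocalRing.maximalIdeal O)
    (h : z + s W.a₁ * x * z + s W.a₃ * z ^ 2 =
      x ^ 3 + s W.a₂ * x ^ 2 * z + s W.a₄ * x * z ^ 2 + s W.a₆ * z ^ 3) (hz0 : z ≠ 0)
    (hfrac : ∀ o : O, ∃ p q : InfRing W, infHom W s x z h q ≠ 0 ∧
      infHom W s x z h q * o = infHom W s x z h p)
    {A : Type v} [CommRing A] [IsLocalRing A] (r : K →+* A) {a b : A}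
    (ha : a ∈ IsLocalRing.maximalIdeal A) (hb : b ∈ IsLocalRing.maximalIdeal A)
    (hab : b + r W.a₁ * a * b + r W.a₃ * b ^ 2 =
      a ^ 3 + r W.a₂ * a ^ 2 * b + r W.a₄ * a * b ^ 2 + r W.a₆ * b ^ 3) :
    ∃ φ : O →+* A, IsLocalHom φ ∧ φ.comp s = r ∧ φ x = a ∧ φ z = b := by
  let e := RingEquiv.ofBijective _ (bijective_locHom s hx hz h hz0 hfrac)
  have he : ∀ b, e.symm (infHom W s x z h b) = algebraMap _ _ b := fun b => by
    rw [RingEquiv.symm_apply_eq]
    exact (locHom_algebraMap s hx hz h b).symm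
  have := isLocalHom_locHom r ha hb hab
  refine ⟨(locHom r ha hb hab).comp e.symm.toRingHom, ?_, ?_, ?_, ?_⟩
  · have : IsLocalHom e.symm.toRingHom :=
      ⟨fun a h => (MulEquiv.isUnit_map e.symm).mp h⟩
    infer_instance
  · ext c
    change locHom r ha hb hab (e.symm (s c)) = r c
    rw [← infHom_k s x z h c, he, locHom_algebraMap, infHom_k]
  · change locHom r ha hb hab (e.symm x) = a
    have := he (xInf W)
    rw [infHom_x] at this
    rw [this, locHom_algebraMap, infHom_x]
  · change locHom r ha hb hab (e.symm z) = b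
    have := he (zInf W)
    rw [infHom_z] at this
    rw [this, locHom_algebraMap, infHom_z]

end Algebra

end Groth.Agent.Dix.EllPole
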