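import Groth.Agent.Dix.EllChart

/-!
# Orders at the point, local ring at the point
-/

set_option autoImplicit false

universe u v w

open Polynomial

namespace Groth.Agent.Dix.EllPole

namespace PoleData

variable {K : Type u} {F : Type v} [Field K] [Field F] [Algebra K F] {D : PoleData K F}

theorem inv_mem_aux {b : F} (hb : D.Lead 0 b 1) (n : ℕ) : D.t ^ n * b⁻¹ ∈ D.O → b⁻¹ ∈ D.O := by
  have hb0 : b ≠ 0 := by
    rintro rfl
    exact one_ne_zero (hb.unique (lead_zero 0))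
  induction n with
  | zero => intro h; simpa using h
  | succ n ih =>
    intro h
    obtain ⟨d, hd⟩ := exists_lead h
    have h1 := hd.mul hb
    rw [inv_mul_cancel₀ hb0, mul_one, add_zero] at h1
    have h2 : D.Lead (n + 1) 1 0 := by
      have h3 : D.t ^ 0 * (1 : F) ∈ D.O := by rw [pow_zero, one_mul]; exact D.O.one_mem
      exact lead_of_lt h3 (Nat.succ_pos n)
    rw [h1.unique h2] at hd
    exact ih (mem_of_lead_zero hd)

theorem inv_mem {b : F} (hb : D.Lead 0 b 1) : b⁻¹ ∈ D.O := by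
  obtain ⟨n, hn⟩ := D.exists_pow b⁻¹
  exact inv_mem_aux hb n hn

theorem Lead.inv {b : F} (hb : D.Lead 0 b 1) : D.Lead 0 b⁻¹ 1 := by
  have hb0 : b ≠ 0 := by
    rintro rfl
    exact one_ne_zero (hb.unique (lead_zero 0))
  have h1 : D.t ^ 0 * b⁻¹ ∈ D.O := by simpa using inv_mem hb
  obtain ⟨e, he⟩ := exists_lead h1
  have h2 := he.mul hb
  rw [inv_mul_cancel₀ hb0, mul_one] at h2
  have h3 : D.Lead 0 (1 : F) 1 := by simpa using lead_const (D := D) (1 : K)
  rwa [h2.unique h3] at he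

variable (D) in
/-- `f` has a pole of order at most `n` (an integer), with leading coefficient `c`. -/
def LZ (n : ℤ) (f : F) (c : K) : Prop := D.Lead 0 (D.t ^ n * f) c

theorem lz_iff_lead (n : ℕ) (f : F) (c : K) : D.LZ n f c ↔ D.Lead n f c := by
  simp [LZ, Lead]

theorem LZ.mul {n m : ℤ} {f g : F} {c d : K} (hf : D.LZ n f c) (hg : D.LZ m g d) :
    D.LZ (n + m) (f * g) (c * d) := by
  have h := Lead.mul hf hg
  rw [add_zero] at h
  have e : D.t ^ (n + m) * (f * g) = D.t ^ n * f * (D.t ^ m * g) := by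
    rw [zpow_add₀ D.t_ne_zero]; ring
  rw [LZ, e]; exact h

theorem LZ.add {n : ℤ} {f g : F} {c d : K} (hf : D.LZ n f c) (hg : D.LZ n g d) :
    D.LZ n (f + g) (c + d) := by
  have h := Lead.add hf hg
  rwa [← mul_add] at h

theorem LZ.neg {n : ℤ} {f : F} {c : K} (hf : D.LZ n f c) : D.LZ n (-f) (-c) := by
  have h := Lead.neg hf
  rwa [← mul_neg] at h

theorem lz_zero (n : ℤ) : D.LZ n 0 0 := by
  rw [LZ, mul_zero]; exact lead_zero 0

theorem lz_const (c : K) : D.LZ 0 (algebraMap K F c) c := by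
  rw [LZ, zpow_zero, one_mul]; exact lead_const c

theorem LZ.unique {n : ℤ} {f : F} {c d : K} (hf : D.LZ n f c) (hg : D.LZ n f d) : c = d :=
  Lead.unique hf hg

theorem LZ.pow {n : ℤ} {f : F} {c : K} (hf : D.LZ n f c) (i : ℕ) :
    D.LZ (n * i) (f ^ i) (c ^ i) := by
  induction i with
  | zero => simpa using lz_const (D := D) (1 : K)
  | succ i ih =>
    rw [pow_succ, pow_succ]
    have := ih.mul hf
    have e : n * (i : ℤ) + n = n * ((i + 1 : ℕ) : ℤ) := by push_cast; ring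
    rwa [e] at this

theorem LZ.smul {n : ℤ} {f : F} {c : K} (a : K) (hf : D.LZ n f c) :
    D.LZ n (algebraMap K F a * f) (a * c) := by
  have := (lz_const (D := D) a).mul hf
  rwa [zero_add] at this

theorem LZ.inv {n : ℤ} {f : F} {c : K} (hf : D.LZ n f c) (hc : c ≠ 0) : D.LZ (-n) f⁻¹ c⁻¹ := by
  have h1 : D.LZ n (algebraMap K F c⁻¹ * f) 1 := by
    have := hf.smul c⁻¹
    rwa [inv_mul_cancel₀ hc] at this
  have h2 : D.Lead 0 (D.t ^ n * (algebraMap K F c⁻¹ * f))⁻¹ 1 := Lead.inv h1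
  have h3 : (D.t ^ n * (algebraMap K F c⁻¹ * f))⁻¹ = D.t ^ (-n) * (algebraMap K F c * f⁻¹) := by
    rw [mul_inv, mul_inv, map_inv₀, inv_inv, zpow_neg]
  rw [h3] at h2
  have h4 : D.LZ (-n) (algebraMap K F c * f⁻¹) 1 := h2
  have h5 := h4.smul c⁻¹
  rwa [← mul_assoc, ← map_mul, inv_mul_cancel₀ hc, map_one, one_mul, mul_one] at h5

theorem LZ.of_lt {n m : ℤ} {f : F} {c : K} (hf : D.LZ n f c) (h : n < m) : D.LZ m f 0 := by
  obtain ⟨k, rfl⟩ : ∃ k : ℕ, m = n + (k + 1 : ℕ) := ⟨(m - n - 1).toNat, by omega⟩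
  have h1 : D.Lead (k + 1) (D.t ^ n * f) 0 := lead_of_lt hf.mem (Nat.succ_pos k)
  have h2 : D.LZ (k + 1 : ℕ) (D.t ^ n * f) 0 := (lz_iff_lead _ _ _).mpr h1
  have h3 : D.t ^ ((k + 1 : ℕ) : ℤ) * (D.t ^ n * f) = D.t ^ (n + (k + 1 : ℕ)) * f := by
    rw [← mul_assoc, ← zpow_add₀ D.t_ne_zero, add_comm]
  rw [LZ, h3] at h2
  exact h2

theorem lz_t : D.LZ (-1) D.t 1 := by
  rw [LZ, zpow_neg_one, inv_mul_cancel₀ D.t_ne_zero]
  simpa using lead_const (D := D) (1 : K)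

/-- `f` is zero, or has exact order `n`. -/
theorem LZ.eq_of_add_eq_zero {n m : ℤ} {f g : F} {c d : K} (hf : D.LZ n f c) (hc : c ≠ 0)
    (hg : D.LZ m g d) (hd : d ≠ 0) (h : f + g = 0) : n = m := by
  have hg' : g = -f := by linear_combination h
  subst hg'
  rcases lt_trichotomy n m with hlt | heq | hgt
  · have h1 := (hf.of_lt hlt).neg
    rw [neg_zero] at h1
    exact absurd (hg.unique h1) hd
  · exact heq
  · have h1 := (hg.of_lt hgt).neg
    rw [neg_zero, neg_neg] at h1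
    exact absurd (hf.unique h1) hc

theorem LZ.add_of_ne {n m : ℤ} {f g : F} {c d : K} (hf : D.LZ n f c) (hc : c ≠ 0)
    (hg : D.LZ m g d) (hd : d ≠ 0) (h : n ≠ m) :
    ∃ e : K, e ≠ 0 ∧ D.LZ (max n m) (f + g) e := by
  rcases lt_or_gt_of_ne h with hlt | hgt
  · refine ⟨d, hd, ?_⟩
    rw [max_eq_right hlt.le]
    simpa using (hf.of_lt hlt).add hg
  · refine ⟨c, hc, ?_⟩
    rw [max_eq_left hgt.le]
    simpa using hf.add (hg.of_lt hgt)

theorem LZ.ne_zero {n : ℤ} {f : F} {c : K} (hf : D.LZ n f c) (hc : c ≠ 0) : f ≠ 0 := by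
  rintro rfl
  exact hc (hf.unique (lz_zero n))

/-- Three terms whose orders are pairwise different are zero if their sum is. -/
theorem three_terms {f g h : F} {n m k : ℤ} {c d e : K} (hf : f = 0 ∨ c ≠ 0 ∧ D.LZ n f c)
    (hg : g = 0 ∨ d ≠ 0 ∧ D.LZ m g d) (hh : h = 0 ∨ e ≠ 0 ∧ D.LZ k h e)
    (h1 : n ≠ m) (h2 : n ≠ k) (h3 : m ≠ k) (hs : f + g + h = 0) : f = 0 ∧ g = 0 ∧ h = 0 := by
  rcases hf with rfl | ⟨hc, hf⟩
  · rcases hg with rfl | ⟨hd, hg⟩
    · exact ⟨rfl, rfl, by simpa using hs⟩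
    · rcases hh with rfl | ⟨he, hh⟩
      · refine ⟨rfl, by simpa using hs, rfl⟩
      · rw [zero_add] at hs
        exact absurd (hg.eq_of_add_eq_zero hd hh he hs) h3
  · rcases hg with rfl | ⟨hd, hg⟩
    · rcases hh with rfl | ⟨he, hh⟩
      · refine ⟨by simpa using hs, rfl, rfl⟩
      · rw [add_zero] at hs
        exact absurd (hf.eq_of_add_eq_zero hc hh he hs) h2
    · rcases hh with rfl | ⟨he, hh⟩
      · rw [add_zero] at hs
        exact absurd (hf.eq_of_add_eq_zero hc hg hd hs) h1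
      · obtain ⟨b, hb, hfg⟩ := hf.add_of_ne hc hg hd h1
        have := hfg.eq_of_add_eq_zero hb hh he hs
        rcases max_choice n m with h4 | h4
        · rw [h4] at this; exact absurd this h2
        · rw [h4] at this; exact absurd this h3

namespace XY

variable (s : XY D)

theorem lz_x : D.LZ 2 s.x 1 := (lz_iff_lead 2 _ _).mpr s.lead_x

theorem lz_y : D.LZ 3 s.y 1 := (lz_iff_lead 3 _ _).mpr s.lead_y

theorem y_ne_zero : s.y ≠ 0 := s.lz_y.ne_zero one_ne_zero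

theorem x_ne_zero : s.x ≠ 0 := s.lz_x.ne_zero one_ne_zero

/-- `x / y`. -/
noncomputable def ξ : F := s.x * s.y⁻¹

/-- `1 / y`. -/
noncomputable def ζ : F := s.y⁻¹

theorem lz_ζ : D.LZ (-3) s.ζ 1 := by
  have := s.lz_y.inv one_ne_zero
  rwa [inv_one] at this

theorem lz_ξ : D.LZ (-1) s.ξ 1 := by
  have := s.lz_x.mul (s.lz_y.inv one_ne_zero)
  rw [inv_one, mul_one] at this
  exact this

theorem ξ_ne_zero : s.ξ ≠ 0 := s.lz_ξ.ne_zero one_ne_zero

theorem ζ_ne_zero : s.ζ ≠ 0 := s.lz_ζ.ne_zero one_ne_zero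

theorem infEq {W : WeierstrassCurve K} (h : AffEq W s.x s.y) : InfEq W s.ξ s.ζ := by
  have hy := s.y_ne_zero
  unfold InfEq ξ ζ
  unfold AffEq at h
  have : s.y⁻¹ ^ 3 * (s.y ^ 2 + algebraMap K F W.a₁ * s.x * s.y + algebraMap K F W.a₃ * s.y) =
      s.y⁻¹ ^ 3 * (s.x ^ 3 + algebraMap K F W.a₂ * s.x ^ 2 + algebraMap K F W.a₄ * s.x +
        algebraMap K F W.a₆) := by rw [h]
  field_simp at this ⊢
  linear_combination this

end XY

theorem mem_of_lz {f : F} {c : K} (h : D.LZ 0 f c) : f ∈ D.O := by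
  have := Lead.mem h
  simpa using this

theorem mem_of_lz_nonpos {f : F} {c : K} {n : ℤ} (h : D.LZ n f c) (hn : n ≤ 0) : f ∈ D.O := by
  rcases lt_or_eq_of_le hn with hlt | rfl
  · exact mem_of_lz (h.of_lt hlt)
  · exact mem_of_lz h

theorem exists_lz_of_mem {f : F} (h : f ∈ D.O) : ∃ c : K, D.LZ 0 f c := by
  have h1 : D.t ^ 0 * f ∈ D.O := by simpa using h
  obtain ⟨c, hc⟩ := exists_lead h1
  exact ⟨c, (lz_iff_lead 0 _ _).mpr hc⟩

theorem nonpos_of_lz_of_mem {f : F} {n : ℤ} {c : K} (hf : D.LZ n f c) (hc : c ≠ 0) (h : f ∈ D.O) :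
    n ≤ 0 := by
  by_contra hn
  push Not at hn
  obtain ⟨d, hd⟩ := exists_lz_of_mem h
  exact hc (hf.unique (hd.of_lt hn))

end PoleData

end Groth.Agent.Dix.EllPole
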