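import Mathlib.Algebra.Algebra.Subalgebra.Basic
import Mathlib.FieldTheory.Tower

/-!
# Pole data of a curve of genus one at a rational point

`PoleData K F` records, for the function field `F` of a curve over a field `K` with a rational point
`o`, the subring `P` of functions regular away from `o`, the subring `O` of functions regular at `o`,
a uniformizer `t` at `o`, the fact that `P ∩ O = K` and the fact that `F / (P + O)` has dimension one.
-/

set_option autoImplicit false

universe u v

namespace Groth.Agent.Dix.EllPole

/-- The data of the two subrings attached to a rational point of a curve of genus one. -/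
structure PoleData (K : Type u) (F : Type v) [Field K] [Field F] [Algebra K F] where
  /-- Functions regular away from the point. -/
  P : Subalgebra K F
  /-- Functions regular at the point. -/
  O : Subalgebra K F
  /-- A uniformizer at the point. -/
  t : F
  t_mem : t ∈ O
  inv_t_notMem : t⁻¹ ∉ O
  exists_pow : ∀ f : F, ∃ n : ℕ, t ^ n * f ∈ O
  residue : ∀ g ∈ O, ∃ c : K, ∃ h ∈ O, g = algebraMap K F c + t * h
  inter : ∀ g ∈ P, g ∈ O → ∃ c : K, g = algebraMap K F c
  exists_notMem : ∃ w : F, ∀ p ∈ P, ∀ g ∈ O, w ≠ p + g
  dim_le : ∀ f f' : F, ∃ c c' : K, (c ≠ 0 ∨ c' ≠ 0) ∧ ∃ p ∈ P, ∃ g ∈ O,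
    algebraMap K F c * f + algebraMap K F c' * f' = p + g
  exists_frac : ∀ f : F, ∃ p ∈ P, ∃ q ∈ P, q ≠ 0 ∧ q * f = p

end Groth.Agent.Dix.EllPole
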