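import Groth.Agent.Dix.EllPole
import Mathlib.AlgebraicGeometry.EllipticCurve.Affine.Point
import Mathlib.Tactic

/-!
# From pole data to a Weierstrass equation
-/

set_option autoImplicit false

universe u v

open Polynomial

namespace Groth.Agent.Dix.EllPole

variable {K : Type u} {F : Type v} [Field K] [Field F] [Algebra K F] (D : PoleData K F)

namespace PoleData

theorem t_ne_zero : D.t ≠ 0 := by
  intro h
  apply D.inv_t_notMem
  rw [h, inv_zero]
  exact D.O.zero_mem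

/-- `f` has a pole of order at most `n`, with leading coefficient `c`. -/
def Lead (n : ℕ) (f : F) (c : K) : Prop := ∃ h ∈ D.O, D.t ^ n * f = algebraMap K F c + D.t * h

variable {D}

theorem Lead.add {n : ℕ} {f g : F} {c d : K} (hf : D.Lead n f c) (hg : D.Lead n g d) :
    D.Lead n (f + g) (c + d) := by
  obtain ⟨h, hh, e⟩ := hf
  obtain ⟨h', hh', e'⟩ := hg
  refine ⟨h + h', D.O.add_mem hh hh', ?_⟩
  rw [mul_add, e, e', map_add]; ring

theorem Lead.smul {n : ℕ} {f : F} {c : K} (a : K) (hf : D.Lead n f c) :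
    D.Lead n (algebraMap K F a * f) (a * c) := by
  obtain ⟨h, hh, e⟩ := hf
  refine ⟨algebraMap K F a * h, D.O.mul_mem (D.O.algebraMap_mem a) hh, ?_⟩
  rw [map_mul]
  linear_combination algebraMap K F a * e

theorem Lead.neg {n : ℕ} {f : F} {c : K} (hf : D.Lead n f c) : D.Lead n (-f) (-c) := by
  have := hf.smul (-1)
  simpa using this

theorem Lead.sub {n : ℕ} {f g : F} {c d : K} (hf : D.Lead n f c) (hg : D.Lead n g d) :
    D.Lead n (f - g) (c - d) := by
  rw [sub_eq_add_neg, sub_eq_add_neg]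
  exact hf.add hg.neg

theorem Lead.mul {n m : ℕ} {f g : F} {c d : K} (hf : D.Lead n f c) (hg : D.Lead m g d) :
    D.Lead (n + m) (f * g) (c * d) := by
  obtain ⟨h, hh, e⟩ := hf
  obtain ⟨h', hh', e'⟩ := hg
  refine ⟨algebraMap K F c * h' + algebraMap K F d * h + D.t * h * h',
    D.O.add_mem (D.O.add_mem (D.O.mul_mem (D.O.algebraMap_mem c) hh')
      (D.O.mul_mem (D.O.algebraMap_mem d) hh)) (D.O.mul_mem (D.O.mul_mem D.t_mem hh) hh'), ?_⟩
  rw [map_mul]
  have : D.t ^ (n + m) * (f * g) = (D.t ^ n * f) * (D.t ^ m * g) := by ring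
  rw [this, e, e']; ring

theorem lead_const (c : K) : D.Lead 0 (algebraMap K F c) c :=
  ⟨0, D.O.zero_mem, by simp⟩

theorem lead_zero (n : ℕ) : D.Lead n 0 0 :=
  ⟨0, D.O.zero_mem, by simp⟩

theorem Lead.pow {n : ℕ} {f : F} {c : K} (hf : D.Lead n f c) (i : ℕ) :
    D.Lead (n * i) (f ^ i) (c ^ i) := by
  induction i with
  | zero => simpa using lead_const (D := D) (1 : K)
  | succ i ih =>
    rw [pow_succ, pow_succ, mul_add, mul_one]
    exact ih.mul hf

theorem exists_lead {n : ℕ} {f : F} (hf : D.t ^ n * f ∈ D.O) : ∃ c : K, D.Lead n f c := by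
  obtain ⟨c, h, hh, e⟩ := D.residue _ hf
  exact ⟨c, h, hh, e⟩

theorem Lead.mem {n : ℕ} {f : F} {c : K} (hf : D.Lead n f c) : D.t ^ n * f ∈ D.O := by
  obtain ⟨h, hh, e⟩ := hf
  rw [e]
  exact D.O.add_mem (D.O.algebraMap_mem c) (D.O.mul_mem D.t_mem hh)

theorem mem_of_lead_zero {n : ℕ} {f : F} (hf : D.Lead (n + 1) f 0) : D.t ^ n * f ∈ D.O := by
  obtain ⟨h, hh, e⟩ := hf
  have : D.t ^ n * f = h := by
    apply mul_left_cancel₀ D.t_ne_zero
    rw [map_zero, zero_add] at e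
    rw [← e]; ring
  rw [this]; exact hh

theorem lead_succ_zero {n : ℕ} {f : F} (hf : D.t ^ n * f ∈ D.O) : D.Lead (n + 1) f 0 :=
  ⟨D.t ^ n * f, hf, by rw [map_zero]; ring⟩

theorem lead_of_lt {n m : ℕ} {f : F} (hf : D.t ^ n * f ∈ D.O) (h : n < m) : D.Lead m f 0 := by
  obtain ⟨k, rfl⟩ := Nat.exists_eq_add_of_lt h
  apply lead_succ_zero
  have : D.t ^ (n + k) * f = D.t ^ k * (D.t ^ n * f) := by ring
  rw [this]
  exact D.O.mul_mem (D.O.pow_mem D.t_mem k) hf

theorem Lead.unique {n : ℕ} {f : F} {c d : K} (hf : D.Lead n f c) (hg : D.Lead n f d) : c = d := by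
  obtain ⟨h, hh, e⟩ := hf
  obtain ⟨h', hh', e'⟩ := hg
  by_contra hne
  have h1 : c - d ≠ 0 := sub_ne_zero.mpr hne
  have h2 : algebraMap K F (c - d) ≠ 0 := (_root_.map_ne_zero _).mpr h1
  apply D.inv_t_notMem
  have h3 : algebraMap K F (c - d) = D.t * (h' - h) := by
    rw [map_sub]
    linear_combination e' - e
  have h4 : D.t⁻¹ = algebraMap K F (c - d)⁻¹ * (h' - h) := by
    rw [map_inv₀, inv_eq_iff_eq_inv, mul_inv, inv_inv]
    rw [h3, mul_assoc, mul_inv_cancel₀, mul_one]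
    intro h5
    rw [h5, mul_zero] at h3
    exact h2 h3
  rw [h4]
  exact D.O.mul_mem (D.O.algebraMap_mem _) (D.O.sub_mem hh' hh)

theorem lead_zero_of_mem {f : F} (hP : f ∈ D.P) {c : K} (hf : D.Lead 0 f c) :
    f = algebraMap K F c := by
  have h1 := hf.mem
  rw [pow_zero, one_mul] at h1
  obtain ⟨d, hd⟩ := D.inter f hP h1
  subst hd
  rw [(lead_const d).unique hf]

/-- Given two positive orders, one of them is the pole order of a function regular off the point. -/
theorem exists_of_two {m n : ℕ} (hm : 0 < m) (hmn : m < n) :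
    (∃ f ∈ D.P, D.Lead m f 1) ∨ (∃ f ∈ D.P, D.Lead n f 1) := by
  have ht := D.t_ne_zero
  obtain ⟨c, c', hcc, p, hp, g, hg, e⟩ := D.dim_le (D.t⁻¹ ^ m) (D.t⁻¹ ^ n)
  obtain ⟨m, rfl⟩ : ∃ k, m = k + 1 := ⟨m - 1, by omega⟩
  obtain ⟨k, rfl⟩ := Nat.exists_eq_add_of_lt hmn
  have hp' : p = algebraMap K F c * D.t⁻¹ ^ (m + 1) +
      algebraMap K F c' * D.t⁻¹ ^ (m + 1 + k + 1) - g := by rw [e]; ring
  by_cases hc' : c' = 0
  · have hc : c ≠ 0 := hcc.resolve_right (not_not.mpr hc')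
    left
    refine ⟨algebraMap K F c⁻¹ * p, D.P.mul_mem (D.P.algebraMap_mem _) hp, ?_⟩
    have h1 : D.Lead (m + 1) p c := by
      refine ⟨- (D.t ^ m * g), D.O.neg_mem (D.O.mul_mem (D.O.pow_mem D.t_mem m) hg), ?_⟩
      rw [hp', hc', map_zero, zero_mul, add_zero]
      have : D.t ^ (m + 1) * D.t⁻¹ ^ (m + 1) = 1 := by
        rw [← mul_pow, mul_inv_cancel₀ ht, one_pow]
      linear_combination algebraMap K F c * this
    have := h1.smul c⁻¹
    rwa [inv_mul_cancel₀ hc] at this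
  · right
    refine ⟨algebraMap K F c'⁻¹ * p, D.P.mul_mem (D.P.algebraMap_mem _) hp, ?_⟩
    have h1 : D.Lead (m + 1 + k + 1) p c' := by
      refine ⟨algebraMap K F c * D.t ^ k - (D.t ^ (m + 1 + k) * g), D.O.sub_mem
        (D.O.mul_mem (D.O.algebraMap_mem _) (D.O.pow_mem D.t_mem k))
        (D.O.mul_mem (D.O.pow_mem D.t_mem _) hg), ?_⟩
      rw [hp']
      have h2 : D.t ^ (m + 1 + k + 1) * D.t⁻¹ ^ (m + 1 + k + 1) = 1 := by
        rw [← mul_pow, mul_inv_cancel₀ ht, one_pow]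
      have h3 : D.t ^ (m + 1) * D.t⁻¹ ^ (m + 1) = 1 := by
        rw [← mul_pow, mul_inv_cancel₀ ht, one_pow]
      have h4 : D.t ^ (m + 1 + k + 1) = D.t ^ (m + 1) * D.t ^ (k + 1) := by ring
      linear_combination algebraMap K F c' * h2 + algebraMap K F c * D.t ^ (k + 1) * h3 +
        algebraMap K F c * D.t⁻¹ ^ (m + 1) * h4
    have := h1.smul c'⁻¹
    rwa [inv_mul_cancel₀ hc'] at this

/-- There is a gap. -/
theorem exists_gap : ∃ n : ℕ, 0 < n ∧ ¬ ∃ f ∈ D.P, D.Lead n f 1 := by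
  by_contra hcon
  push Not at hcon
  obtain ⟨w, hw⟩ := D.exists_notMem
  have key : ∀ n : ℕ, ∀ f : F, D.t ^ n * f ∈ D.O → ∃ p ∈ D.P, ∃ g ∈ D.O, f = p + g := by
    intro n
    induction n with
    | zero =>
      intro f hf
      rw [pow_zero, one_mul] at hf
      exact ⟨0, D.P.zero_mem, f, hf, by simp⟩
    | succ n ih =>
      intro f hf
      obtain ⟨c, hc⟩ := exists_lead hf
      obtain ⟨q, hq, hql⟩ := hcon (n + 1) (Nat.succ_pos n)
      have h1 := hc.sub (hql.smul c)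
      rw [mul_one, sub_self] at h1
      obtain ⟨p, hp, g, hg, e⟩ := ih _ (mem_of_lead_zero h1)
      refine ⟨p + algebraMap K F c * q, D.P.add_mem hp (D.P.mul_mem (D.P.algebraMap_mem _) hq),
        g, hg, ?_⟩
      linear_combination e
  obtain ⟨n, hn⟩ := D.exists_pow w
  obtain ⟨p, hp, g, hg, e⟩ := key n w hn
  exact hw p hp g hg e

/-- There is no function with a simple pole. -/
theorem not_exists_one : ¬ ∃ f ∈ D.P, D.Lead 1 f 1 := by
  rintro ⟨f, hf, hl⟩
  obtain ⟨n, -, hn'⟩ := exists_gap (D := D)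
  apply hn'
  refine ⟨f ^ n, D.P.pow_mem hf n, ?_⟩
  have := hl.pow n
  simpa using this

/-- Every order at least two is a pole order. -/
theorem exists_of_two_le {n : ℕ} (hn : 2 ≤ n) : ∃ f ∈ D.P, D.Lead n f 1 :=
  (exists_of_two (D := D) Nat.zero_lt_one (by omega : 1 < n)).resolve_left not_exists_one

theorem mem_of_one {f : F} (hf : f ∈ D.P) (h : D.t ^ 1 * f ∈ D.O) :
    ∃ c : K, f = algebraMap K F c := by
  obtain ⟨c, hc⟩ := exists_lead h
  have hc0 : c = 0 := by
    by_contra hne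
    apply not_exists_one (D := D)
    refine ⟨algebraMap K F c⁻¹ * f, D.P.mul_mem (D.P.algebraMap_mem _) hf, ?_⟩
    have := hc.smul c⁻¹
    rwa [inv_mul_cancel₀ hne] at this
  rw [hc0] at hc
  have h0 : D.t ^ 0 * f ∈ D.O := mem_of_lead_zero hc
  obtain ⟨d, hd⟩ := exists_lead h0
  exact ⟨d, lead_zero_of_mem hf hd⟩

/-- A choice of the functions `x` (double pole) and `y` (triple pole). -/
structure XY (D : PoleData K F) where
  x : F
  y : F
  x_mem : x ∈ D.P
  y_mem : y ∈ D.P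
  lead_x : D.Lead 2 x 1
  lead_y : D.Lead 3 y 1

theorem nonempty_xy (D : PoleData K F) : Nonempty (XY D) := by
  obtain ⟨x, hx, hx'⟩ := exists_of_two_le (D := D) (n := 2) le_rfl
  obtain ⟨y, hy, hy'⟩ := exists_of_two_le (D := D) (n := 3) (by norm_num)
  exact ⟨⟨x, y, hx, hy, hx', hy'⟩⟩

namespace XY

variable (s : XY D)

theorem lead_pow_x (i : ℕ) : D.Lead (2 * i) (s.x ^ i) 1 := by
  simpa using s.lead_x.pow i

theorem lead_pow_x_mul_y (i : ℕ) : D.Lead (2 * i + 3) (s.x ^ i * s.y) 1 := by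
  simpa using (s.lead_pow_x i).mul s.lead_y

theorem exists_monomial {n : ℕ} (hn : 2 ≤ n) : ∃ p q : K[X],
    D.Lead n (aeval s.x p + aeval s.x q * s.y) 1 := by
  rcases Nat.even_or_odd' n with ⟨i, rfl | rfl⟩
  · exact ⟨X ^ i, 0, by simpa using s.lead_pow_x i⟩
  · obtain ⟨j, rfl⟩ : ∃ j, i = j + 1 := ⟨i - 1, by omega⟩
    refine ⟨0, X ^ j, ?_⟩
    have := s.lead_pow_x_mul_y j
    have e : 2 * (j + 1) + 1 = 2 * j + 3 := by ring
    rw [e]
    simpa using this

theorem aeval_mem (p q : K[X]) : aeval s.x p + aeval s.x q * s.y ∈ D.P := by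
  have h : ∀ p : K[X], aeval s.x p ∈ D.P := fun p => by
    rw [aeval_eq_sum_range]
    exact D.P.sum_mem fun i _ => D.P.smul_mem (D.P.pow_mem s.x_mem i) _
  exact D.P.add_mem (h p) (D.P.mul_mem (h q) s.y_mem)

/-- `P` is spanned by the `x ^ i` and the `x ^ i y`. -/
theorem exists_eq (n : ℕ) : ∀ f ∈ D.P, D.t ^ n * f ∈ D.O →
    ∃ p q : K[X], f = aeval s.x p + aeval s.x q * s.y := by
  induction n with
  | zero =>
    intro f hf h
    obtain ⟨c, hc⟩ := exists_lead h
    exact ⟨C c, 0, by simpa using lead_zero_of_mem hf hc⟩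
  | succ n ih =>
    intro f hf h
    rcases Nat.eq_zero_or_pos n with rfl | hn
    · obtain ⟨c, hc⟩ := mem_of_one hf h
      exact ⟨C c, 0, by simpa using hc⟩
    · obtain ⟨c, hc⟩ := exists_lead h
      obtain ⟨p, q, hpq⟩ := s.exists_monomial (n := n + 1) (by omega)
      have h1 := hc.sub (hpq.smul c)
      rw [mul_one, sub_self] at h1
      obtain ⟨p', q', e⟩ := ih _ (D.P.sub_mem hf (D.P.mul_mem (D.P.algebraMap_mem c)
        (s.aeval_mem p q))) (mem_of_lead_zero h1)
      refine ⟨p' + C c * p, q' + C c * q, ?_⟩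
      simp only [map_add, map_mul, aeval_C]
      linear_combination e

theorem exists_eq_of_mem {f : F} (hf : f ∈ D.P) :
    ∃ p q : K[X], f = aeval s.x p + aeval s.x q * s.y := by
  obtain ⟨n, hn⟩ := D.exists_pow f
  exact s.exists_eq n f hf hn

/-- The Weierstrass relation. -/
theorem exists_relation : ∃ W : WeierstrassCurve K,
    s.y ^ 2 + algebraMap K F W.a₁ * s.x * s.y + algebraMap K F W.a₃ * s.y =
      s.x ^ 3 + algebraMap K F W.a₂ * s.x ^ 2 + algebraMap K F W.a₄ * s.x + algebraMap K F W.a₆ := by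
  have e0 : D.Lead 6 (s.y ^ 2 - s.x ^ 3) 0 := by
    have := (s.lead_y.pow 2).sub (s.lead_x.pow 3)
    simpa using this
  have m0 : s.y ^ 2 - s.x ^ 3 ∈ D.P :=
    D.P.sub_mem (D.P.pow_mem s.y_mem 2) (D.P.pow_mem s.x_mem 3)
  obtain ⟨c5, h5⟩ := exists_lead (mem_of_lead_zero e0)
  have e5 := h5.sub ((s.lead_x.mul s.lead_y).smul c5)
  rw [mul_one, mul_one, sub_self] at e5
  obtain ⟨c4, h4⟩ := exists_lead (mem_of_lead_zero e5)
  have e4 := h4.sub ((s.lead_x.pow 2).smul c4)
  rw [one_pow, mul_one, sub_self] at e4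
  obtain ⟨c3, h3⟩ := exists_lead (mem_of_lead_zero e4)
  have e3 := h3.sub (s.lead_y.smul c3)
  rw [mul_one, sub_self] at e3
  obtain ⟨c2, h2⟩ := exists_lead (mem_of_lead_zero e3)
  have e2 := h2.sub (s.lead_x.smul c2)
  rw [mul_one, sub_self] at e2
  have m1 : s.y ^ 2 - s.x ^ 3 - algebraMap K F c5 * (s.x * s.y) - algebraMap K F c4 * s.x ^ 2 -
      algebraMap K F c3 * s.y - algebraMap K F c2 * s.x ∈ D.P := by
    have := s.x_mem
    have := s.y_mem
    have hc : ∀ c : K, algebraMap K F c ∈ D.P := fun c => D.P.algebraMap_mem c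
    refine D.P.sub_mem (D.P.sub_mem (D.P.sub_mem (D.P.sub_mem m0 ?_) ?_) ?_) ?_
    · exact D.P.mul_mem (hc _) (D.P.mul_mem s.x_mem s.y_mem)
    · exact D.P.mul_mem (hc _) (D.P.pow_mem s.x_mem 2)
    · exact D.P.mul_mem (hc _) s.y_mem
    · exact D.P.mul_mem (hc _) s.x_mem
  obtain ⟨c0, h0⟩ := mem_of_one m1 (mem_of_lead_zero e2)
  refine ⟨⟨-c5, c4, -c3, c2, c0⟩, ?_⟩
  simp only [map_neg]
  linear_combination h0

theorem lead_aeval (p : K[X]) : D.Lead (2 * p.natDegree) (aeval s.x p) p.leadingCoeff := by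
  rw [aeval_eq_sum_range]
  have h : ∀ n : ℕ, p.natDegree ≤ n → D.Lead (2 * n) (∑ i ∈ Finset.range (n + 1), p.coeff i • s.x ^ i)
      (p.coeff n) := by
    intro n hn
    rw [Finset.sum_range_succ]
    have h1 : D.Lead (2 * n) (∑ i ∈ Finset.range n, p.coeff i • s.x ^ i) 0 := by
      have : ∀ m, m ≤ n → D.Lead (2 * n) (∑ i ∈ Finset.range m, p.coeff i • s.x ^ i) 0 := by
        intro m
        induction m with
        | zero => intro _; simpa using lead_zero (2 * n)
        | succ m ih =>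
          intro hm
          rw [Finset.sum_range_succ]
          have h2 : D.Lead (2 * n) (p.coeff m • s.x ^ m) 0 := by
            have := (lead_of_lt (s.lead_pow_x m).mem (by omega : 2 * m < 2 * n)).smul (p.coeff m)
            rw [mul_zero] at this
            rwa [Algebra.smul_def]
          simpa using (ih (by omega)).add h2
      exact this n le_rfl
    have h2 : D.Lead (2 * n) (p.coeff n • s.x ^ n) (p.coeff n) := by
      have := (s.lead_pow_x n).smul (p.coeff n)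
      rwa [mul_one, ← Algebra.smul_def] at this
    simpa using h1.add h2
  exact h _ le_rfl

theorem eq_zero (p q : K[X]) (h : aeval s.x p + aeval s.x q * s.y = 0) : p = 0 ∧ q = 0 := by
  have h1 := s.lead_aeval p
  have h2 := (s.lead_aeval q).mul s.lead_y
  rw [mul_one] at h2
  by_cases hlt : 2 * p.natDegree < 2 * q.natDegree + 3
  · have h3 := (lead_of_lt h1.mem hlt).add h2
    rw [h, zero_add] at h3
    have hq : q = 0 := leadingCoeff_eq_zero.mp (h3.unique (lead_zero _))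
    subst hq
    rw [map_zero, zero_mul, add_zero] at h
    rw [h] at h1
    exact ⟨leadingCoeff_eq_zero.mp (h1.unique (lead_zero _)), rfl⟩
  · have h3 := h1.add (lead_of_lt h2.mem (by omega : 2 * q.natDegree + 3 < 2 * p.natDegree))
    rw [h, add_zero] at h3
    have hp : p = 0 := leadingCoeff_eq_zero.mp (h3.unique (lead_zero _))
    subst hp
    exfalso
    simp at hlt

end XY

end PoleData

end Groth.Agent.Dix.EllPole
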