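import Groth.Agent.Dix.EllAff
import Groth.Agent.Dix.EllPole
import Mathlib.AlgebraicGeometry.Morphisms.Proper

/-!
# The pole data of a curve of genus one with a rational point (helper787)
-/

set_option autoImplicit false
universe u

open CategoryTheory CategoryTheory.Limits AlgebraicGeometry Opposite TopologicalSpace
open Groth.Agent.Fdesc.LocGen (ores ores_ores)
open Groth.Agent.Picfga.RegLocus Groth.Agent.Picfga.CurvePts
open Groth.Agent.VarietyA.TwistDown

namespace Groth.Agent.Dix.EllPoleData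

section germs

variable {K : Type u} [Field K] {X : Scheme.{u}} [IsIntegral X]

theorem germ_res {U V : X.Opens} [Nonempty U] [Nonempty V] (h : V ≤ U) (a : Γ(X, U)) :
    X.germToFunctionField V (ores h a) = X.germToFunctionField U a :=
  TopCat.Presheaf.germ_res_apply X.presheaf (homOfLE h) _ (genericPoint_mem V) a

/-- A rational function regular on `U` comes from a section. -/
theorem exists_of_le_reg {U : X.Opens} [Nonempty U] {g : X.functionField} (h : U ≤ reg g) :
    ∃ a : Γ(X, U), X.germToFunctionField U a = g :=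
  ⟨ores h (sec g), by rw [germ_res, germToFunctionField_sec]⟩

theorem le_reg_of_exists {U : X.Opens} [Nonempty U] {g : X.functionField}
    (h : ∃ a : Γ(X, U), X.germToFunctionField U a = g) : U ≤ reg g := fun _ hx =>
  mem_reg_iff_exists.mpr ⟨U, hx, h.choose, h.choose_spec⟩

/-- Products and sums of regular functions. -/
theorem mem_reg_mul {g h : X.functionField} {x : X} (hg : x ∈ reg g) (hh : x ∈ reg h) :
    x ∈ reg (g * h) := by
  obtain ⟨a, ha⟩ := hg
  obtain ⟨b, hb⟩ := hh
  exact ⟨a * b, by rw [map_mul, ha, hb]⟩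

theorem mem_reg_add {g h : X.functionField} {x : X} (hg : x ∈ reg g) (hh : x ∈ reg h) :
    x ∈ reg (g + h) := by
  obtain ⟨a, ha⟩ := hg
  obtain ⟨b, hb⟩ := hh
  exact ⟨a + b, by rw [map_add, ha, hb]⟩

theorem mem_reg_sub {g h : X.functionField} {x : X} (hg : x ∈ reg g) (hh : x ∈ reg h) :
    x ∈ reg (g - h) := by
  obtain ⟨a, ha⟩ := hg
  obtain ⟨b, hb⟩ := hh
  exact ⟨a - b, by rw [map_sub, ha, hb]⟩

theorem mem_reg_pow {g : X.functionField} {x : X} (hg : x ∈ reg g) (n : ℕ) :
    x ∈ reg (g ^ n) := by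
  obtain ⟨a, ha⟩ := hg
  exact ⟨a ^ n, by rw [map_pow, ha]⟩

/-- Away from `x`, the inverse of the local equation is regular. -/
theorem mem_reg_inv {x : X} {V : X.Opens} {t : Γ(X, V)} [Nonempty V] (ht : LocEq x V t) {y : X}
    (hy : y ∈ V) (hyx : y ≠ x) : y ∈ reg (X.germToFunctionField V t)⁻¹ := by
  obtain ⟨u, hu⟩ := ht.unit y hy hyx
  refine ⟨(↑u⁻¹ : X.presheaf.stalk y), ?_⟩
  have h1 : algebraMap (X.presheaf.stalk y) X.functionField ↑u⁻¹ *
      algebraMap (X.presheaf.stalk y) X.functionField ↑u = 1 := by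
    rw [← map_mul, Units.inv_mul, map_one]
  have h2 : algebraMap (X.presheaf.stalk y) X.functionField ↑u = X.germToFunctionField V t := by
    rw [hu, X.algebraMap_germ_eq_germToFunctionField]
  rw [h2] at h1
  exact eq_inv_of_mul_eq_one_left h1

/-- The local equation is not zero. -/
theorem germ_ne_zero {x : X} {V : X.Opens} {t : Γ(X, V)} [Nonempty V] (ht : LocEq x V t) :
    X.germToFunctionField V t ≠ 0 := by
  rw [← X.algebraMap_germ_eq_germToFunctionField ht.mem t]
  intro h
  have h1 : X.presheaf.germ V x ht.mem t = 0 :=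
    IsFractionRing.injective (X.presheaf.stalk x) X.functionField (by rw [h, map_zero])
  have h2 := ht.nzd
  rw [h1] at h2
  exact zero_notMem_nonZeroDivisors h2

/-- The inverse of the local equation has a pole. -/
theorem notMem_reg_inv {x : X} {V : X.Opens} {t : Γ(X, V)} [Nonempty V] (ht : LocEq x V t) :
    x ∉ reg (X.germToFunctionField V t)⁻¹ := by
  rintro ⟨s, hs⟩
  have h7 : X.presheaf.germ V x ht.mem t ∈ IsLocalRing.maximalIdeal (X.presheaf.stalk x) := by
    rw [ht.gen]
    exact Ideal.mem_span_singleton_self _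
  refine h7 (IsUnit.of_mul_eq_one s ?_)
  apply IsFractionRing.injective (X.presheaf.stalk x) X.functionField
  rw [map_mul, hs, X.algebraMap_germ_eq_germToFunctionField, map_one, mul_inv_cancel₀ (germ_ne_zero ht)]

/-- Every rational function becomes regular at `x` after multiplication by a power of the local equation. -/
theorem exists_pow {x : X} {V : X.Opens} {t : Γ(X, V)} [Nonempty V] (ht : LocEq x V t)
    [IsDiscreteValuationRing (X.presheaf.stalk x)] (g : X.functionField) :
    ∃ n : ℕ, x ∈ reg (X.germToFunctionField V t ^ n * g) := by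
  obtain ⟨a, b, hb, rfl⟩ := IsFractionRing.div_surjective (A := X.presheaf.stalk x) g
  have hb0 : b ≠ 0 := nonZeroDivisors.ne_zero hb
  have hirr : Irreducible (X.presheaf.germ V x ht.mem t) :=
    (IsDiscreteValuationRing.irreducible_iff_uniformizer _).mpr ht.gen
  obtain ⟨n, u, hu⟩ := IsDiscreteValuationRing.eq_unit_mul_pow_irreducible hb0 hirr
  have hb' : algebraMap (X.presheaf.stalk x) X.functionField b ≠ 0 := by
    intro h
    exact hb0 (IsFractionRing.injective (X.presheaf.stalk x) X.functionField (by rw [h, map_zero]))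
  refine ⟨n, ↑u⁻¹ * a, ?_⟩
  rw [map_mul, ← X.algebraMap_germ_eq_germToFunctionField ht.mem t, ← map_pow, mul_div_assoc',
    eq_div_iff hb', ← map_mul, ← map_mul, ← map_mul]
  congr 1
  rw [hu]
  calc ↑u⁻¹ * a * (↑u * X.presheaf.germ V x ht.mem t ^ n)
      = (↑u⁻¹ * ↑u) * (X.presheaf.germ V x ht.mem t ^ n * a) := by ring
    _ = _ := by rw [Units.inv_mul, one_mul]

/-- Global sections which vanish at a point are zero. -/
theorem eq_zero_of_germ_mem (f : X ⟶ Spec (CommRingCat.of K)) [IsProper f] (x : X) (s : Γ(X, ⊤))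
    (hs : X.presheaf.germ ⊤ x (Opens.mem_top x) s ∈ IsLocalRing.maximalIdeal (X.presheaf.stalk x)) :
    s = 0 := by
  by_contra h0
  obtain ⟨s', hs'⟩ := (isField_of_universallyClosed K f).mul_inv_cancel h0
  refine hs (IsUnit.of_mul_eq_one (X.presheaf.germ ⊤ x (Opens.mem_top x) s') ?_)
  rw [← map_mul, hs', map_one]

end germs

variable {K : Type u} [Field K] {X : Scheme.{u}} [IsIntegral X] [X.Over (Spec (CommRingCat.of K))]

/-- The function field as a `K`-algebra. -/
@[reducible] noncomputable def algK : Algebra K X.functionField :=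
  (kToK (X ↘ Spec (CommRingCat.of K))).toAlgebra

attribute [local instance] algK

theorem algebraMap_eq (c : K) :
    algebraMap K X.functionField c = kToK (X ↘ Spec (CommRingCat.of K)) c := rfl

theorem germ_str (U : X.Opens) [Nonempty U] (c : K) :
    X.germToFunctionField U (EllCech.str U c) = algebraMap K X.functionField c := by
  rw [EllAff.str_eq_coeffHom]
  exact congr($(germToFunctionField_coeffHom (X ↘ Spec (CommRingCat.of K)) U) c)

theorem algebraMap_str (x : X) {U : X.Opens} (hx : x ∈ U) (c : K) :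
    algebraMap (X.presheaf.stalk x) X.functionField
      (X.presheaf.germ U x hx (EllCech.str U c)) = algebraMap K X.functionField c := by
  have : Nonempty U := ⟨⟨x, hx⟩⟩
  rw [X.algebraMap_germ_eq_germToFunctionField, germ_str]

variable (K) in
/-- Functions regular on `U`, in the function field. -/
noncomputable def pole (U : X.Opens) [Nonempty U] : Subalgebra K X.functionField :=
  { (X.germToFunctionField U).hom.range with
    algebraMap_mem' := fun c => ⟨EllCech.str U c, germ_str U c⟩ }

variable (K) in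
/-- Functions regular at `x`, in the function field. -/
noncomputable def regAt (x : X) : Subalgebra K X.functionField :=
  { (algebraMap (X.presheaf.stalk x) X.functionField).range with
    algebraMap_mem' := fun c => ⟨X.presheaf.germ ⊤ x (Opens.mem_top x) (EllCech.str ⊤ c),
      algebraMap_str x (Opens.mem_top x) c⟩ }

theorem mem_pole {U : X.Opens} [Nonempty U] {g : X.functionField} :
    g ∈ pole K U ↔ ∃ a : Γ(X, U), X.germToFunctionField U a = g := Iff.rfl

theorem mem_regAt {x : X} {g : X.functionField} : g ∈ regAt K x ↔ x ∈ reg g := Iff.rfl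

/-- Given two rational functions, there is an affine neighbourhood of `x` with a local equation on which
both are regular except at `x`. -/
theorem exists_nbhd [QuasiCompact (X ↘ Spec (CommRingCat.of K))] [Smooth (X ↘ Spec (CommRingCat.of K))]
    (hdim : topologicalKrullDim X ≤ 1) {x : X} (hx : x ≠ genericPoint X) (g g' : X.functionField) :
    ∃ V : X.Opens, IsAffineOpen V ∧ x ∈ V ∧ ∀ y ∈ V, y ≠ x → y ∈ reg g ∧ y ∈ reg g' := by
  have hdvr := CurvesA.CurveDvr.isDiscreteValuationRing_stalk (X ↘ Spec (CommRingCat.of K)) hdim x hx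
  obtain ⟨V, t, -, -, ht⟩ := EllAff.exists_affine_locEq (X ↘ Spec (CommRingCat.of K)) hdim hx ⊤
    (Opens.mem_top x)
  have : Nonempty V := ⟨⟨_, ht.mem⟩⟩
  obtain ⟨n, hn⟩ := exists_pow ht g
  obtain ⟨m, hm⟩ := exists_pow ht g'
  obtain ⟨V', t', hle, hV', ht'⟩ := EllAff.exists_affine_locEq (X ↘ Spec (CommRingCat.of K)) hdim hx
    (V ⊓ (reg (X.germToFunctionField V t ^ n * g) ⊓ reg (X.germToFunctionField V t ^ m * g')))
    ⟨ht.mem, hn, hm⟩
  have ht0 := germ_ne_zero ht
  refine ⟨V', hV', ht'.mem, fun y hy hyx => ?_⟩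
  have hy' := hle hy
  have h1 := mem_reg_inv ht hy'.1 hyx
  constructor
  · have h2 := mem_reg_mul (mem_reg_pow h1 n) hy'.2.1
    rwa [← mul_assoc, ← mul_pow, inv_mul_cancel₀ ht0, one_pow, one_mul] at h2
  · have h2 := mem_reg_mul (mem_reg_pow h1 m) hy'.2.2
    rwa [← mul_assoc, ← mul_pow, inv_mul_cancel₀ ht0, one_pow, one_mul] at h2

/-- **The pole data of a curve of genus one with a rational point.** -/
theorem exists_poleData [IsProper (X ↘ Spec (CommRingCat.of K))]
    [Smooth (X ↘ Spec (CommRingCat.of K))] (hdim : topologicalKrullDim X = 1)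
    (h1 : Module.finrank K (Coh.HH X (Coh.structureModule X) 1) = 1)
    (o : Spec (CommRingCat.of K) ⟶ X) (ho : o ≫ (X ↘ Spec (CommRingCat.of K)) = 𝟙 _)
    (x : X) (hx : ∀ p, o p = x) :
    ∃ (U : X.Opens) (_ : Nonempty U) (D : EllPole.PoleData K X.functionField),
      IsAffineOpen U ∧ (∀ y : X, y ∈ U ↔ y ≠ x) ∧ D.P = pole K U ∧ D.O = regAt K x ∧
      ∃ t : X.presheaf.stalk x, t ∈ IsLocalRing.maximalIdeal (X.presheaf.stalk x) ∧
        D.t = algebraMap _ X.functionField t := by
  obtain ⟨p⟩ : Nonempty (Spec (CommRingCat.of K)) := inferInstanceAs (Nonempty (PrimeSpectrum K))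
  have hcl : IsClosed ({x} : Set X) := by
    rw [← hx p]
    exact EllAff.isClosed_point o ho p
  have hgen : x ≠ genericPoint X := (CurvesA.CurveDvr.isClosed_singleton_iff hdim x).mp hcl
  have hdvr := CurvesA.CurveDvr.isDiscreteValuationRing_stalk (X ↘ Spec (CommRingCat.of K)) hdim.le x hgen
  obtain ⟨U, V, t, w, hUa, hVa, hU, hUV, ht, hUVt, hres, hw, hw'⟩ :=
    EllAff.exists_data (K := K) hdim h1 o ho x hx
  have hgU : genericPoint X ∈ U := (hU _).mpr (Ne.symm hgen)
  have hneU : Nonempty U := ⟨⟨_, hgU⟩⟩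
  have hneV : Nonempty V := ⟨⟨_, ht.mem⟩⟩
  have hneUV : Nonempty (U ⊓ V : X.Opens) := ⟨⟨_, hgU, genericPoint_mem V⟩⟩
  have hstalk : ∀ s : X.presheaf.stalk x, ∃ c : K,
      s - X.presheaf.germ ⊤ x (Opens.mem_top _) (EllCech.str ⊤ c) ∈
        IsLocalRing.maximalIdeal (X.presheaf.stalk x) := by
    obtain rfl := hx p
    exact EllAff.exists_sub_mem o ho p
  refine ⟨U, hneU,
    { P := pole K U
      O := regAt K x
      t := X.germToFunctionField V t
      t_mem := mem_reg_iff_exists.mpr ⟨V, ht.mem, t, rfl⟩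
      inv_t_notMem := notMem_reg_inv ht
      exists_pow := exists_pow ht
      residue := ?_
      inter := ?_
      exists_notMem := ?_
      dim_le := ?_
      exists_frac := ?_ }, hUa, hU, rfl, rfl, X.presheaf.germ V x ht.mem t, ?_, ?_⟩
  · -- residue
    rintro g ⟨s, rfl⟩
    obtain ⟨c, hc⟩ := hstalk s
    rw [ht.gen, Ideal.mem_span_singleton'] at hc
    obtain ⟨h, hh⟩ := hc
    refine ⟨c, algebraMap _ _ h, ⟨h, rfl⟩, ?_⟩
    have h2 := congrArg (algebraMap (X.presheaf.stalk x) X.functionField) hh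
    rw [map_mul, map_sub, algebraMap_str, X.algebraMap_germ_eq_germToFunctionField] at h2
    change algebraMap (X.presheaf.stalk x) X.functionField s = _
    linear_combination -h2
  · -- inter
    rintro g hgP hgO
    have hreg : (⊤ : X.Opens) ≤ reg g := by
      intro y _
      by_cases hy : y = x
      · subst hy; exact hgO
      · exact le_reg_of_exists hgP ((hU y).mpr hy)
    have : Nonempty (⊤ : X.Opens) := ⟨⟨x, trivial⟩⟩
    obtain ⟨s, rfl⟩ := exists_of_le_reg hreg
    obtain ⟨c, hc⟩ := hstalk (X.presheaf.germ ⊤ x (Opens.mem_top _) s)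
    rw [← map_sub] at hc
    have h2 := eq_zero_of_germ_mem (X ↘ Spec (CommRingCat.of K)) x _ hc
    refine ⟨c, ?_⟩
    rw [sub_eq_zero.mp h2, germ_str]
  · -- exists_notMem
    refine ⟨X.germToFunctionField (U ⊓ V) w, ?_⟩
    rintro p ⟨a, rfl⟩ g hg h
    have hreg : V ≤ reg g := by
      intro y hyV
      by_cases hy : y = x
      · subst hy; exact hg
      · have h2 : y ∈ reg (X.germToFunctionField (U ⊓ V) w) :=
          mem_reg_iff_exists.mpr ⟨U ⊓ V, ⟨(hU y).mpr hy, hyV⟩, w, rfl⟩
        have h3 : y ∈ reg (X.germToFunctionField U a) :=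
          mem_reg_iff_exists.mpr ⟨U, (hU y).mpr hy, a, rfl⟩
        have h4 := mem_reg_sub h2 h3
        rw [h] at h4
        rwa [show X.germToFunctionField U a + g - X.germToFunctionField U a = g by ring] at h4
    obtain ⟨b, rfl⟩ := exists_of_le_reg hreg
    apply hw a b
    apply X.germToFunctionField_injective (U ⊓ V)
    rw [map_add, h]
    congr 1
    · exact (germ_res inf_le_left a).symm
    · exact (germ_res inf_le_right b).symm
  · -- dim_le
    intro g g'
    obtain ⟨V', hV', hxV', hreg⟩ := exists_nbhd (K := K) hdim.le hgen g g'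
    have hne' : Nonempty V' := ⟨⟨_, hxV'⟩⟩
    have hneUV' : Nonempty (U ⊓ V' : X.Opens) := ⟨⟨_, hgU, genericPoint_mem V'⟩⟩
    have hUV' : U ⊔ V' = ⊤ := by
      rw [eq_top_iff]
      intro y _
      by_cases hy : y = x
      · exact Or.inr (hy ▸ hxV')
      · exact Or.inl ((hU y).mpr hy)
    obtain ⟨w₁, -, hw₁⟩ := EllCech.exists_cech (K := K) U V' hUa hV' hUV' h1
    obtain ⟨s, hs⟩ := exists_of_le_reg (U := U ⊓ V') (g := g)
      (fun y hy => (hreg y hy.2 ((hU y).mp hy.1)).1)
    obtain ⟨s', hs'⟩ := exists_of_le_reg (U := U ⊓ V') (g := g')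
      (fun y hy => (hreg y hy.2 ((hU y).mp hy.1)).2)
    have key : ∀ {s : Γ(X, U ⊓ V')} {g : X.functionField}, X.germToFunctionField (U ⊓ V') s = g →
        ∃ c : K, ∃ p ∈ pole K U, ∃ q ∈ regAt K x,
          g = algebraMap K X.functionField c * X.germToFunctionField (U ⊓ V') w₁ + (p + q) := by
      rintro s g rfl
      obtain ⟨c, a, b, rfl⟩ := hw₁ s
      refine ⟨c, X.germToFunctionField U a, ⟨a, rfl⟩, X.germToFunctionField V' b,
        mem_reg_iff_exists.mpr ⟨V', hxV', b, rfl⟩, ?_⟩
      rw [map_add, map_add, map_mul, germ_str, add_assoc]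
      congr 2
      · exact germ_res inf_le_left a
      · exact germ_res inf_le_right b
    obtain ⟨c, p₁, hp₁, q₁, hq₁, e₁⟩ := key hs
    obtain ⟨c', p₂, hp₂, q₂, hq₂, e₂⟩ := key hs'
    by_cases hc : c = 0
    · refine ⟨1, 0, Or.inl one_ne_zero, p₁, hp₁, q₁, hq₁, ?_⟩
      rw [e₁, hc]
      simp
    · refine ⟨c', -c, Or.inr (neg_ne_zero.mpr hc),
        algebraMap K X.functionField c' * p₁ + algebraMap K X.functionField (-c) * p₂,
        (pole K U).add_mem ((pole K U).mul_mem ((pole K U).algebraMap_mem c') hp₁)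
          ((pole K U).mul_mem ((pole K U).algebraMap_mem (-c)) hp₂),
        algebraMap K X.functionField c' * q₁ + algebraMap K X.functionField (-c) * q₂,
        (regAt K x).add_mem ((regAt K x).mul_mem ((regAt K x).algebraMap_mem c') hq₁)
          ((regAt K x).mul_mem ((regAt K x).algebraMap_mem (-c)) hq₂), ?_⟩
      rw [e₁, e₂, map_neg]
      ring
  · -- exists_frac
    intro g
    have := functionField_isFractionRing_of_isAffineOpen X U hUa
    obtain ⟨a, b, hb, rfl⟩ := IsFractionRing.div_surjective (A := Γ(X, U)) g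
    have hb' : algebraMap Γ(X, U) X.functionField b ≠ 0 := by
      intro h
      exact nonZeroDivisors.ne_zero hb
        (IsFractionRing.injective Γ(X, U) X.functionField (by rw [h, map_zero]))
    exact ⟨algebraMap _ _ a, ⟨a, rfl⟩, algebraMap _ _ b, ⟨b, rfl⟩, hb', mul_div_cancel₀ _ hb'⟩
  · rw [ht.gen]
    exact Ideal.mem_span_singleton_self _
  · exact (X.algebraMap_germ_eq_germToFunctionField ht.mem t).symm

end Groth.Agent.Dix.EllPoleData
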