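import Groth.Agent.Dix.EllScheme

/-!
# A group object from a chord law which induces group laws on field-valued points
-/

set_option autoImplicit false

universe u

open CategoryTheory CategoryTheory.Limits AlgebraicGeometry MonoidalCategory CartesianMonoidalCategory

namespace Groth.Agent.Dix.EllZ6

open Groth.Agent.Dix.EllScheme

theorem grpObj_of_points {K : Type u} [Field K] (C : Over (Spec (CommRingCat.of K))) [Smooth C.hom]
    [IsSeparated C.hom]
    (inst : ∀ (F : Type u) [Field F] [Algebra K F],
      AddCommGroup (Over.mk (Spec.map (CommRingCat.ofHom (algebraMap K F))) ⟶ C))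
    (star : C ⊗ C ⟶ C) (o : 𝟙_ (Over (Spec (CommRingCat.of K))) ⟶ C)
    (hstar : ∀ (F : Type u) [Field F] [Algebra K F]
      (p q : Over.mk (Spec.map (CommRingCat.ofHom (algebraMap K F))) ⟶ C),
      lift p q ≫ star = letI := inst F; -(p + q))
    (ho : ∀ (F : Type u) [Field F] [Algebra K F],
      toUnit (Over.mk (Spec.map (CommRingCat.ofHom (algebraMap K F)))) ≫ o = letI := inst F; 0) :
    Nonempty (GrpObj C) := by
  let inv : C ⟶ C := lift (𝟙 C) (toUnit C ≫ o) ≫ star
  let mul : C ⊗ C ⟶ C := star ≫ inv
  obtain ⟨G, -⟩ := exists_grpObj_of_points C mul inv o (by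
    intro L _ t
    obtain ⟨φ, rfl⟩ := Spec.map_surjective t
    let : Algebra K L := φ.hom.toAlgebra
    have hφ : φ = CommRingCat.ofHom (algebraMap K L) := rfl
    rw [hφ]
    let _ := inst L
    have hinv : ∀ x : Over.mk (Spec.map (CommRingCat.ofHom (algebraMap K L))) ⟶ C, x ≫ inv = -x := by
      intro x
      have h1 : x ≫ inv = lift x (toUnit _ ≫ o) ≫ star := by
        change x ≫ lift (𝟙 C) (toUnit C ≫ o) ≫ star = _
        rw [← Category.assoc, comp_lift, Category.comp_id, ← Category.assoc x, comp_toUnit]
      rw [h1, hstar, ho]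
      simp
    have hmul : ∀ x y : Over.mk (Spec.map (CommRingCat.ofHom (algebraMap K L))) ⟶ C,
        lift x y ≫ mul = x + y := by
      intro x y
      change lift x y ≫ star ≫ inv = _
      rw [← Category.assoc, hinv, hstar, neg_neg]
    refine ⟨?_, ?_, ?_, ?_, ?_⟩
    · intro x
      rw [ho, hmul, zero_add]
    · intro x
      rw [ho, hmul, add_zero]
    · intro x y z
      rw [hmul, hmul, hmul, hmul, add_assoc]
    · intro x
      rw [ho, hinv, hmul, neg_add_cancel]
    · intro x
      rw [ho, hinv, hmul, add_neg_cancel])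
  exact ⟨G⟩

end Groth.Agent.Dix.EllZ6
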