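import Groth.Agent.Dix.ProjProper
import Groth.Agent.CurvesB.DimPts
import Groth.Prelude.Def_ArSurf

/-!
# First properties of arithmetic surfaces
-/

set_option autoImplicit false
set_option linter.unusedSectionVars false
universe u

open AlgebraicGeometry CategoryTheory CategoryTheory.Limits

namespace Groth.Agent.Dix.SurfBasic

variable {R : Type u} [CommRing R] [IsDomain R] {X Y : Over (Spec (CommRingCat.of R))}

/-- Arithmetic surfaces are proper. -/
theorem isProper (hX : ArSurf.IsArithSurface R X) : IsProper X.hom := by
  obtain ⟨-, -, -, -, n, i, hi, hi'⟩ := hX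
  rw [← hi']
  infer_instance

/-- Morphisms of arithmetic surfaces are proper. -/
theorem isProper_left (hX : ArSurf.IsArithSurface R X) (hY : ArSurf.IsArithSurface R Y) (f : X ⟶ Y) :
    IsProper f.left := by
  have h1 := isProper hX
  have h2 := isProper hY
  have h3 : IsProper (f.left ≫ Y.hom) := by rw [Over.w]; exact h1
  exact IsProper.of_comp f.left Y.hom

/-- Arithmetic surfaces over a Noetherian domain are Noetherian. -/
theorem isNoetherian [IsNoetherianRing R] (hX : ArSurf.IsArithSurface R X) : IsNoetherian X.left := by
  have h1 := isProper hX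
  have h2 : IsLocallyNoetherian X.left := LocallyOfFiniteType.isLocallyNoetherian X.hom
  have h3 : CompactSpace X.left := QuasiCompact.compactSpace_of_compactSpace X.hom
  exact { }

theorem coheight_le (hX : ArSurf.IsArithSurface R X) (x : X.left) : Order.coheight x ≤ 2 := by
  have h1 : (Order.coheight x : WithBot ℕ∞) ≤ Order.krullDim X.left := Order.coheight_le_krullDim x
  rw [← CurvesB.DimPts.krullDim_eq, hX.2.2.1] at h1
  exact (WithBot.coe_le_coe (a := Order.coheight x) (b := 2)).mp h1

/-- No closed point of an arithmetic surface is the generic point. -/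
theorem genericPoint_ne (hX : ArSurf.IsArithSurface R X) [IsIntegral X.left] (x : X.left)
    (hx : IsClosed ({x} : Set X.left)) : genericPoint X.left ≠ x := by
  intro h
  have h1 : ∀ z : X.left, z = x := by
    intro z
    have := genericPoint_specializes z
    rw [h] at this
    exact this.mem_closed hx rfl
  have h2 : Subsingleton X.left := ⟨fun a b => by rw [h1 a, h1 b]⟩
  have h3 := hX.2.2.1
  rw [CurvesB.DimPts.krullDim_eq] at h3
  have h4 : Order.krullDim X.left ≤ 0 := Order.krullDim_nonpos_of_subsingleton
  rw [h3] at h4
  exact absurd h4 (by decide)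

end Groth.Agent.Dix.SurfBasic
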