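import Groth.Agent.Dix.MinusCurve
import Groth.Agent.Dix.ProjProper
import Groth.Agent.Dix.SurfBasic
import Groth.Agent.Ega4dB.SmoothReg
import Groth.Agent.Desc.DimMap
import Groth.Agent.Desc.LQF
import Groth.Agent.Flat2D.DimMap
import Mathlib.RingTheory.Etale.Basic
import Mathlib.RingTheory.DedekindDomain.Basic

/-!
# Étale base change of arithmetic surfaces
-/

set_option autoImplicit false
universe u

open AlgebraicGeometry CategoryTheory CategoryTheory.Limits

namespace Groth.Agent.Dix.EtMin25A

/-- Dimension is invariant under étale surjections. -/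
theorem topologicalKrullDim_eq_of_etale {X Y : Scheme.{u}} (q : X ⟶ Y) [Etale q] [Surjective q] :
    topologicalKrullDim X = topologicalKrullDim Y := by
  have : LocallyQuasiFinite q := Desc.LQF.of_etale q
  apply le_antisymm
  · exact Desc.DimMap.topologicalKrullDim_le_of_fibres q q.continuous fun x y hxy h =>
      Flat2D.DimMap.eq_of_specializes_of_locallyQuasiFinite q x y hxy h
  · exact Desc.DimMap.topologicalKrullDim_le_of_generalizingMap q q.continuous
      (Flat.generalizingMap q) q.surjective

/-- Étale schemes over a regular scheme are regular. -/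
theorem isRegularLocalRing_stalk_of_etale {X Y : Scheme.{u}} (q : X ⟶ Y) [Etale q]
    (h : ∀ y : Y, IsRegularLocalRing (Y.presheaf.stalk y)) (x : X) :
    IsRegularLocalRing (X.presheaf.stalk x) :=
  Ega4dB.SmoothReg.isRegularLocalRing_stalk_of_smooth q x (h _)

/-- Base change of projective schemes. -/
theorem isProjectiveOver_baseChange {R R' : Type u} [CommRing R] [CommRing R'] [IsDomain R]
    [IsDomain R'] [Algebra R R'] (X : Over (Spec (CommRingCat.of R)))
    (hX : Neron.IsProjectiveOver R X) :
    Neron.IsProjectiveOver R'
      ((Over.pullback (Spec.map (CommRingCat.ofHom (algebraMap R R')))).obj X) := by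
  obtain ⟨n, i, hi, hi'⟩ := hX
  let g := Spec.map (CommRingCat.ofHom (algebraMap R R'))
  have h1 := ProjProper.isPullback_mapBase n g
  let i' : pullback X.hom g ⟶ CohB1.ProjSpaceOver n (Spec (CommRingCat.of R')) :=
    h1.lift (pullback.fst X.hom g ≫ i) (pullback.snd X.hom g)
      (by rw [Category.assoc, hi']; exact pullback.condition)
  refine ⟨n, i', ?_, h1.lift_snd _ _ _⟩
  have h2 : IsPullback (pullback.fst X.hom g) (i' ≫ CohB1.ProjSpaceOver.toBase n _)
      (i ≫ CohB1.ProjSpaceOver.toBase n _) g := by
    rw [hi', h1.lift_snd]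
    exact IsPullback.of_hasPullback X.hom g
  have h3 : IsPullback (pullback.fst X.hom g) i' i (ProjProper.mapBase n g) :=
    IsPullback.of_bot h2 (h1.lift_fst _ _ _).symm h1
  exact MorphismProperty.of_isPullback (P := @IsClosedImmersion) h3 hi

section

variable {R R' : Type u} [CommRing R] [CommRing R'] [IsDomain R] [IsDomain R'] [Algebra R R']
  [Algebra.Etale R R']

instance etale_specMap : Etale (Spec.map (CommRingCat.ofHom (algebraMap R R'))) := by
  rw [HasRingHomProperty.Spec_iff (P := @Etale)]
  exact (RingHom.etale_algebraMap).mpr inferInstance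

instance etale_pullback_fst (X : Over (Spec (CommRingCat.of R))) :
    Etale (pullback.fst X.hom (Spec.map (CommRingCat.ofHom (algebraMap R R')))) :=
  inferInstance

variable (hsurj : Function.Surjective (PrimeSpectrum.comap (algebraMap R R')))
include hsurj

theorem surjective_fst (X : Over (Spec (CommRingCat.of R))) :
    Surjective (pullback.fst X.hom (Spec.map (CommRingCat.ofHom (algebraMap R R')))) := by
  have : Surjective (Spec.map (CommRingCat.ofHom (algebraMap R R'))) := ⟨hsurj⟩
  infer_instance

theorem isArithSurface_baseChange (X : Over (Spec (CommRingCat.of R)))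
    (hX : ArSurf.IsArithSurface R X)
    [IsIntegral ((Over.pullback (Spec.map (CommRingCat.ofHom (algebraMap R R')))).obj X).left] :
    ArSurf.IsArithSurface R'
      ((Over.pullback (Spec.map (CommRingCat.ofHom (algebraMap R R')))).obj X) := by
  obtain ⟨h1, h2, h3, h4, h5⟩ := hX
  have hs := surjective_fst hsurj X
  refine ⟨?_, inferInstance, ?_, ?_, isProjectiveOver_baseChange X h5⟩
  · exact isRegularLocalRing_stalk_of_etale
      (pullback.fst X.hom (Spec.map (CommRingCat.ofHom (algebraMap R R')))) h1
  · rw [← h3]
    exact topologicalKrullDim_eq_of_etale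
      (pullback.fst X.hom (Spec.map (CommRingCat.ofHom (algebraMap R R'))))
  · exact inferInstanceAs (Flat (pullback.snd X.hom _))

end

end Groth.Agent.Dix.EtMin25A
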