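import Groth.Agent.Dix.EtMinB
import Groth.Agent.Dix.PointSite
import Groth.Agent.Dix.EtMin25A

/-!
# Lifting (-1)-curves along base changes to local rings of étale base schemes (helper25, S3260)
-/

set_option autoImplicit false
universe u

open CategoryTheory CategoryTheory.Limits AlgebraicGeometry TopologicalSpace

namespace Groth.Agent.Dix.EtMin25B

open Groth.Agent.Dix.MinusCurve Groth.Agent.Divis.EffCartier CohB1 EtMinA EtMinB
open Groth.Agent.Dix.IdealModCartier Groth.Agent.CohqB.ProjBC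

/-- A closed immersion with open range in a reduced scheme is an open immersion. -/
theorem isOpenImmersion_of_isOpen_range {X Y : Scheme.{u}} (c : X ⟶ Y) [IsClosedImmersion c]
    [IsReduced Y] (h : IsOpen (Set.range c)) : IsOpenImmersion c := by
  let U : Y.Opens := ⟨Set.range c, h⟩
  have hr : Set.range c ⊆ Set.range U.ι := by
    rw [Scheme.Opens.range_ι]
    exact subset_rfl
  let d : X ⟶ U := IsOpenImmersion.lift U.ι c hr
  have hd : d ≫ U.ι = c := IsOpenImmersion.lift_fac _ _ _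
  have h1 : IsClosedImmersion (d ≫ U.ι) := by rw [hd]; infer_instance
  have h2 : IsClosedImmersion d := IsClosedImmersion.of_comp d U.ι
  have h3 : Surjective d := ⟨fun y => by
    obtain ⟨x, hx⟩ := y.2
    refine ⟨x, ?_⟩
    apply U.ι.isOpenEmbedding.injective
    rw [← Scheme.Hom.comp_apply, hd]
    exact hx⟩
  have h4 : IsIso d := isIso_of_isClosedImmersion_of_surjective d
  rw [← hd]
  infer_instance

theorem exists_clopen_point {K : Type u} [Field K] {Z : Scheme.{u}}
    (f : Z ⟶ Spec (CommRingCat.of K)) [Etale f] (z : Z) :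
    ∃ (κ : Type u) (_ : Field κ) (c : Spec (CommRingCat.of κ) ⟶ Z), IsOpenImmersion c ∧
      IsClosedImmersion c ∧ Set.range c = {z} ∧ IsFinite (c ≫ f) := by
  have := PointSite.discreteTopology_of_etale f
  have := PointSite.isReduced_of_etale f
  have hcl : IsClosedImmersion (Z.fromSpecResidueField z) :=
    isClosed_singleton_iff_isClosedImmersion.1 (isClosed_discrete {z})
  have hr : Set.range (Z.fromSpecResidueField z) = {z} := Scheme.range_fromSpecResidueField z
  have hop : IsOpenImmersion (Z.fromSpecResidueField z) :=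
    isOpenImmersion_of_isOpen_range _ (isOpen_discrete _)
  refine ⟨Z.residueField z, inferInstance, Z.fromSpecResidueField z, hop, hcl, hr, ?_⟩
  obtain ⟨φ, hφ⟩ : ∃ φ, Z.fromSpecResidueField z ≫ f = Spec.map φ :=
    ⟨_, (Spec.map_preimage _).symm⟩
  have h1 : LocallyOfFiniteType (Z.fromSpecResidueField z ≫ f) := inferInstance
  rw [hφ] at h1 ⊢
  rw [HasRingHomProperty.Spec_iff (P := @LocallyOfFiniteType)] at h1
  rw [IsFinite.SpecMap_iff]
  let _ : Algebra K (Z.residueField z) := φ.hom.toAlgebra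
  have h2 : Algebra.FiniteType K (Z.residueField z) := h1
  have h3 : Module.Finite K (Z.residueField z) := finite_of_finite_type_of_isJacobsonRing _ _
  exact h3


section lift

variable {X Z S T : Scheme.{u}} (f : X ⟶ S) (f' : Z ⟶ T) (g : Z ⟶ X) (τ : T ⟶ S)
  (h : IsPullback g f' f τ) (E : MinusCurve X) (t : Spec (CommRingCat.of E.k) ⟶ S)
  (ht : ProjSpace.toSpec 1 E.k ≫ t = E.ι ≫ f)

/-- Version of `EtMinB.exists_lift` with finiteness of the projection. -/
theorem exists_lift [Flat g] (κ : Type u) [Field κ]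
    (c : Spec (CommRingCat.of κ) ⟶ pullback t τ) [IsOpenImmersion c] [IsClosedImmersion c]
    (hfin : IsFinite (c ≫ pullback.fst t τ)) :
    ∃ (E' : MinusCurve Z) (p : ProjSpace 1 E'.k ⟶ ProjSpace 1 E.k), p ≫ E.ι = E'.ι ≫ g ∧
      IsFinite p ∧
      ∀ z : Z, z ∈ E'.support ↔ ∃ w : ↥(pullback g E.ι), pullback.fst g E.ι w = z ∧
        toQ f f' g τ h E t ht w ∈ Set.range c := by
  obtain ⟨α, hα⟩ : ∃ α : E.k →+* κ, c ≫ pullback.fst t τ = Spec.map (CommRingCat.ofHom α) :=
    ⟨(Spec.preimage (c ≫ pullback.fst t τ)).hom, (Spec.map_preimage _).symm⟩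
  have hP := isPullback_pmap α 1
  have hpfin : IsFinite (pmap α 1) := by
    rw [hα] at hfin
    exact MorphismProperty.of_isPullback (P := @IsFinite) hP.flip hfin
  have hQ := isPullback_toQ f f' g τ h E t ht
  let m : ProjSpace 1 κ ⟶ pullback g E.ι :=
    hQ.lift (pmap α 1) (ProjSpace.toSpec 1 κ ≫ c) (by rw [Category.assoc, hα, hP.w])
  have hm1 : m ≫ pullback.snd g E.ι = pmap α 1 := hQ.lift_fst _ _ _
  have hm2 : m ≫ toQ f f' g τ h E t ht = ProjSpace.toSpec 1 κ ≫ c := hQ.lift_snd _ _ _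
  have hM : IsPullback m (ProjSpace.toSpec 1 κ) (toQ f f' g τ h E t ht) c := by
    refine IsPullback.of_right (h₁₂ := pullback.snd g E.ι) (h₂₂ := pullback.fst t τ)
      (v₁₃ := ProjSpace.toSpec 1 E.k) ?_ hm2 hQ
    rw [hm1, hα]
    exact hP
  have : IsOpenImmersion m := MorphismProperty.of_isPullback hM.flip inferInstance
  have : IsClosedImmersion m := MorphismProperty.of_isPullback hM.flip inferInstance
  let i' : ProjSpace 1 κ ⟶ Z := m ≫ pullback.fst g E.ι
  have w : i' ≫ g = pmap α 1 ≫ E.ι := by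
    rw [Category.assoc, pullback.condition, ← Category.assoc, hm1]
  have hlift : pullback.lift i' (pmap α 1) w = m := by
    apply pullback.hom_ext
    · rw [pullback.lift_fst]
    · rw [pullback.lift_snd, hm1]
  have hD' : BlowUp.IsEffCartierIdeal (E.ι.ker.comap g) := isEff_comap_flat E.eff g
  obtain ⟨heff, ⟨e⟩⟩ := transport E.ι g E.eff hD' i' (pmap α 1) w (by rw [hlift]; infer_instance)
  have hinv : PicF.IsInvertible ((Scheme.Modules.pullback E.ι).obj (ClSub.idealMod E.ι.ker)) :=
    Fdesc.LocGen.isInvertible_pullback _ (isInvertible_idealMod E.eff)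
  have hdeg : ArSurf.curveDeg κ (ProjSpace 1 κ) ((Scheme.Modules.pullback i').obj (ClSub.idealMod i'.ker)) = 1 := by
    rw [curveDeg_congr κ _ e, curveDeg_bc E.k (ProjSpace 1 E.k) κ (ProjSpace 1 κ) (pmap α 1)
      (Spec.map (CommRingCat.ofHom α)) hP _ (Ega2.QCohLocal.isQCoh_of_isInvertible hinv)]
    exact E.deg
  refine ⟨⟨κ, i', heff, hdeg⟩, pmap α 1, w.symm, hpfin, fun z => ?_⟩
  change z ∈ Set.range i' ↔ _
  have hr : Set.range m = toQ f f' g τ h E t ht ⁻¹' Set.range c := by
    have := Scheme.image_preimage_eq_of_isPullback hM.flip Set.univ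
    simpa using this
  constructor
  · rintro ⟨x, rfl⟩
    refine ⟨m x, rfl, ?_⟩
    have : m x ∈ toQ f f' g τ h E t ht ⁻¹' Set.range c := hr ▸ ⟨x, rfl⟩
    exact this
  · rintro ⟨w, rfl, hw⟩
    have : w ∈ Set.range m := hr ▸ hw
    obtain ⟨x, rfl⟩ := this
    exact ⟨x, rfl⟩

end lift

/-- A morphism from the projective line over a field to an affine scheme factors through the
spectrum of the field. -/
theorem exists_factor {K : Type u} [Field K] {S : Scheme.{u}} [IsAffine S]
    (h : ProjSpace 1 K ⟶ S) :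
    ∃ t : Spec (CommRingCat.of K) ⟶ S, ProjSpace.toSpec 1 K ≫ t = h := by
  have h0 : IsIso (ProjSpace.toSpec 1 K).appTop := S0024.result 1 K
  refine ⟨(Spec (CommRingCat.of K)).toSpecΓ ≫
    Spec.map (h.appTop ≫ inv (ProjSpace.toSpec 1 K).appTop) ≫ S.isoSpec.inv, ?_⟩
  rw [← Category.assoc, Scheme.toSpecΓ_naturality, Category.assoc, ← Category.assoc (Spec.map _),
    ← Spec.map_comp, Category.assoc, IsIso.inv_hom_id, Category.comp_id, ← Category.assoc,
    ← Scheme.toSpecΓ_naturality, Category.assoc, ← Scheme.isoSpec_hom, Iso.hom_inv_id,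
    Category.comp_id]

/-- The local rings of étale schemes over a base: a (-1)-curve lifts through every point. -/
theorem exists_minusCurve {X Z S T S₁ : Scheme.{u}} [IsAffine S] (f : X ⟶ S) (f' : Z ⟶ S₁)
    (g : Z ⟶ X) (τ : T ⟶ S) [Etale τ] (σ : S₁ ⟶ T) [Mono σ] [Flat σ]
    (hσ : ∀ (κ : Type u) [Field κ] (a : Spec (CommRingCat.of κ) ⟶ T) (x : Spec (CommRingCat.of κ)),
      a x ∈ Set.range σ → ∃ b, b ≫ σ = a)
    (h : IsPullback g f' f (σ ≫ τ)) (E : MinusCurve X) (z : Z) (hz : g z ∈ E.support) :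
    ∃ (E' : MinusCurve Z) (p : ProjSpace 1 E'.k ⟶ ProjSpace 1 E.k), p ≫ E.ι = E'.ι ≫ g ∧
      IsFinite p ∧ z ∈ E'.support := by
  obtain ⟨a, ha⟩ := exists_factor (E.ι ≫ f)
  have hfl : Flat (σ ≫ τ) := inferInstance
  have hg : Flat g := MorphismProperty.of_isPullback (P := @Flat) h.flip hfl
  -- the point of `Spec k ×_S T`
  obtain ⟨e, he⟩ := hz
  obtain ⟨w, hw, hw'⟩ := Scheme.Pullback.exists_preimage_pullback z e he.symm
  let y := toQ f f' g (σ ≫ τ) h E a ha w
  let Q₀ := pullback a τ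
  let r : pullback a (σ ≫ τ) ⟶ pullback a τ :=
    pullback.lift (pullback.fst _ _) (pullback.snd _ _ ≫ σ) (by
      rw [pullback.condition, Category.assoc])
  have hr : IsPullback r (pullback.snd a (σ ≫ τ)) (pullback.snd a τ) σ := by
    refine IsPullback.of_right (h₁₂ := pullback.fst a τ) (h₂₂ := τ) (v₁₃ := a) ?_
      (pullback.lift_snd _ _ _) (IsPullback.of_hasPullback a τ)
    rw [pullback.lift_fst]
    exact IsPullback.of_hasPullback a (σ ≫ τ)
  obtain ⟨κ, _, c, hc1, hc2, hc3, hc4⟩ := exists_clopen_point (pullback.fst a τ) (r y)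
  obtain ⟨b, hb⟩ := hσ κ (c ≫ pullback.snd a τ) (IsLocalRing.closedPoint κ) (by
    have h1 : c (IsLocalRing.closedPoint κ) = r y := by
      have : c (IsLocalRing.closedPoint κ) ∈ Set.range c := ⟨_, rfl⟩
      rw [hc3] at this
      exact this
    refine ⟨pullback.snd a (σ ≫ τ) y, ?_⟩
    rw [Scheme.Hom.comp_apply, h1]
    exact (congr($(hr.w) y)).symm)
  let c' : Spec (CommRingCat.of κ) ⟶ pullback a (σ ≫ τ) := hr.lift c b hb.symm
  have hc' : c' ≫ r = c := hr.lift_fst _ _ _
  have hmono : Mono r := MorphismProperty.of_isPullback (P := MorphismProperty.monomorphisms _)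
    hr.flip ‹Mono σ›
  have hpc : IsPullback c' (𝟙 _) r c := by
    refine IsPullback.of_isLimit' ⟨by rw [hc', Category.id_comp]⟩ ?_
    refine PullbackCone.IsLimit.mk _ (fun s => s.snd) (fun s => ?_) (fun s => Category.comp_id _)
      (fun s m _ hm => by simpa using hm)
    rw [← cancel_mono r, Category.assoc, hc', s.condition]
  have h1 : IsOpenImmersion c' := MorphismProperty.of_isPullback hpc.flip hc1
  have h2 : IsClosedImmersion c' := MorphismProperty.of_isPullback hpc.flip hc2
  have h3 : c' ≫ pullback.fst a (σ ≫ τ) = c ≫ pullback.fst a τ := by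
    rw [← hc', Category.assoc, pullback.lift_fst]
  obtain ⟨E', p, hp1, hp2, hp3⟩ := exists_lift f f' g (σ ≫ τ) h E a ha κ c' (by rw [h3]; exact hc4)
  refine ⟨E', p, hp1, hp2, (hp3 z).mpr ⟨w, hw, ?_⟩⟩
  have h5 : r y ∈ Set.range c := by rw [hc3]; rfl
  obtain ⟨x, hx⟩ := h5
  obtain ⟨o, ho, -⟩ := Scheme.exists_preimage_of_isPullback hpc y x hx.symm
  exact ⟨o, ho⟩

/-- Field valued points of the spectrum of a local ring. -/
theorem exists_lift_fromSpecStalk {T : Scheme.{u}} (t : T) (κ : Type u) [Field κ]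
    (a : Spec (CommRingCat.of κ) ⟶ T) (x : Spec (CommRingCat.of κ))
    (hx : a x ∈ Set.range (T.fromSpecStalk t)) : ∃ b, b ≫ T.fromSpecStalk t = a := by
  have hx' : x = IsLocalRing.closedPoint κ := Subsingleton.elim _ _
  subst hx'
  rw [Scheme.range_fromSpecStalk] at hx
  refine ⟨Spec.map (Scheme.stalkClosedPointTo a) ≫ Spec.map (T.presheaf.stalkSpecializes hx), ?_⟩
  rw [Category.assoc, Scheme.SpecMap_stalkSpecializes_fromSpecStalk]
  exact Scheme.Spec_stalkClosedPointTo_fromSpecStalk a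

end Groth.Agent.Dix.EtMin25B
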