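import Groth.Agent.Dix.EtMin25B
import Groth.Agent.Sga1.FinPartSurj
import Groth.Agent.CohqA.ProjDim
import Groth.Agent.Sga3C.FlatPt

/-!
# A (-1)-curve on an étale base change is clopen in the preimage of its image (helper25, S3260)
-/

set_option autoImplicit false
universe u

open CategoryTheory CategoryTheory.Limits AlgebraicGeometry TopologicalSpace

namespace Groth.Agent.Dix.EtMin25C

open Groth.Agent.Dix.MinusCurve CohB1 EtMin25B

theorem exists_specializes {X : Type*} [TopologicalSpace X] [NoetherianSpace X] [QuasiSober X]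
    {Z₁ Z₂ : Set X} (h₁ : IsClosed Z₁) (h₂ : IsClosed Z₂) {p : X} (hp : p ∈ closure (Z₁ \ Z₂)) :
    ∃ n ∈ Z₁ \ Z₂, n ⤳ p := by
  have hp₁ : p ∈ Z₁ := h₁.closure_subset_iff.2 Set.sdiff_subset hp
  have hemb : Topology.IsClosedEmbedding (Subtype.val : Z₁ → X) := h₁.isClosedEmbedding_subtypeVal
  have : QuasiSober Z₁ := hemb.quasiSober
  have h3 : (⟨p, hp₁⟩ : Z₁) ∈ closure (Subtype.val ⁻¹' Z₂ᶜ : Set Z₁) := by
    rw [hemb.isInducing.closure_eq_preimage_closure_image]
    change p ∈ closure _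
    rw [Subtype.image_preimage_coe]
    exact hp
  obtain ⟨η, hη, hs⟩ := Sga1.FinPartSurj.exists_specializes_of_mem_closure _
    (h₂.isOpen_compl.preimage continuous_subtype_val) _ h3
  exact ⟨η.1, ⟨η.2, hη⟩, hs.map continuous_subtype_val⟩

/-- The generic point of a (-1)-curve. -/
theorem exists_generic {X : Scheme.{u}} (E : MinusCurve X) :
    ∃ ξ ∈ E.support, ∀ x ∈ E.support, ξ ⤳ x := by
  refine ⟨E.ι (genericPoint (ProjSpace 1 E.k)), ⟨_, rfl⟩, ?_⟩
  rintro _ ⟨y, rfl⟩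
  exact (genericPoint_specializes y).map E.ι.continuous

theorem isClosed_support {X : Scheme.{u}} (E : MinusCurve X) : IsClosed E.support :=
  E.ι.isClosedEmbedding.isClosed_range

/-- `E` is clopen in the preimage of its image, provided (-1)-curves on the base changes to local
rings of étale base schemes are disjoint. -/
theorem exists_opens {S S' : Scheme.{u}} [IsAffine S'] (g : S' ⟶ S) [Etale g] {X X' : Scheme.{u}}
    (f : X ⟶ S) {q : X' ⟶ X} {f' : X' ⟶ S'} (h : IsPullback q f' f g) [IsLocallyNoetherian X']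
    [CompactSpace X'] [IsSeparated g] (E : MinusCurve X') [IsProper (E.ι ≫ q)]
    (hcl : ∀ x ∈ E.support, IsClosed ({f (q x)} : Set S))
    (hdisj : ∀ (T : Scheme.{u}) (τ : T ⟶ S) [Etale τ] (t : T), IsClosed ({τ t} : Set S) →
      ∀ (D E : MinusCurve (pullback f (T.fromSpecStalk t ≫ τ))), D.support ≠ E.support →
        Disjoint D.support E.support) :
    ∃ U : X'.Opens, (U : Set X') ∩ q ⁻¹' (q '' E.support) = E.support := by
  have hNoeth : IsNoetherian X' := { }
  have hq : Etale q := MorphismProperty.of_isPullback (P := @Etale) h.flip ‹Etale g›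
  have hqs : IsSeparated q := MorphismProperty.of_isPullback (P := @IsSeparated) h.flip ‹_›
  have hC : IsClosed (q '' E.support) := by
    have h1 : Set.range (E.ι ≫ q) = q '' E.support := by
      rw [Scheme.Hom.comp_base, TopCat.coe_comp, Set.range_comp]
      rfl
    rw [← h1]
    exact (E.ι ≫ q).isClosedMap.isClosed_range
  let N : Set X' := q ⁻¹' (q '' E.support) \ E.support
  by_cases hN : Disjoint E.support (closure N)
  · refine ⟨⟨(closure N)ᶜ, isClosed_closure.isOpen_compl⟩, ?_⟩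
    ext x
    constructor
    · rintro ⟨hx1, hx2⟩
      by_contra hx3
      exact hx1 (subset_closure ⟨hx2, hx3⟩)
    · intro hx
      exact ⟨Set.disjoint_left.1 hN hx, ⟨x, hx, rfl⟩⟩
  exfalso
  rw [Set.not_disjoint_iff] at hN
  obtain ⟨p, hpE, hpN⟩ := hN
  obtain ⟨n, ⟨hnC, hnE⟩, hnp⟩ := exists_specializes (hC.preimage q.continuous)
    (isClosed_support E) hpN
  obtain ⟨ξ, hξ, hξ'⟩ := exists_generic E
  obtain ⟨e, heE, hen⟩ := hnC
  have h1 : q ξ ⤳ q n := by rw [← hen]; exact (hξ' e heE).map q.continuous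
  obtain ⟨ζ, hζn, hζ⟩ := (Flat.generalizingMap q) h1
  have hζE : ζ ∉ E.support := fun h2 => hnE (hζn.mem_closed (isClosed_support E) h2)
  have hζp : ζ ⤳ p := hζn.trans hnp
  -- the point of the fibre product
  obtain ⟨ω, hω1, hω2⟩ := Scheme.Pullback.exists_preimage_pullback (f := q) (g := q) ξ ζ hζ.symm
  let T := pullback g g
  let m : pullback q q ⟶ T := pullback.map q q g g f' f' f h.w h.w
  let t : T := m ω
  let σ := T.fromSpecStalk t
  let a₁ := pullback.fst g g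
  let a₂ := pullback.snd g g
  have ha : a₁ ≫ g = a₂ ≫ g := pullback.condition
  let X₁ := pullback f (σ ≫ a₁ ≫ g)
  let u : X₁ ⟶ X := pullback.fst f (σ ≫ a₁ ≫ g)
  let v : X₁ ⟶ Spec (T.presheaf.stalk t) := pullback.snd f (σ ≫ a₁ ≫ g)
  have huv : IsPullback u v f (σ ≫ a₁ ≫ g) := IsPullback.of_hasPullback _ _
  let j₁ : X₁ ⟶ X' := h.lift u (v ≫ σ ≫ a₁) (by rw [huv.w]; simp)
  let j₂ : X₁ ⟶ X' := h.lift u (v ≫ σ ≫ a₂) (by rw [huv.w, ha]; simp)
  have hj₁ : j₁ ≫ q = u := h.lift_fst _ _ _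
  have hj₂ : j₂ ≫ q = u := h.lift_fst _ _ _
  have hP₁ : IsPullback j₁ v f' (σ ≫ a₁) := by
    refine IsPullback.of_right (h₁₂ := q) (h₂₂ := g) (v₁₃ := f) ?_ (h.lift_snd _ _ _) h
    rw [hj₁, Category.assoc]
    exact huv
  have hP₂ : IsPullback j₂ v f' (σ ≫ a₂) := by
    refine IsPullback.of_right (h₁₂ := q) (h₂₂ := g) (v₁₃ := f) ?_ (h.lift_snd _ _ _) h
    rw [hj₂, Category.assoc, ← ha]
    exact huv
  let r : X₁ ⟶ pullback q q := pullback.lift j₁ j₂ (hj₁.trans hj₂.symm)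
  have hm₁ : m ≫ a₁ = pullback.fst q q ≫ f' := pullback.lift_fst _ _ _
  have hm₂ : m ≫ a₂ = pullback.snd q q ≫ f' := pullback.lift_snd _ _ _
  have hM₁ : IsPullback m (pullback.fst q q) a₁ f' := by
    have h1 : IsPullback (pullback.snd q q ≫ f') (pullback.fst q q) g (q ≫ f) :=
      (IsPullback.of_hasPullback q q).flip.paste_horiz h.flip
    rw [h.w, ← hm₂] at h1
    exact IsPullback.of_right h1 hm₁ (IsPullback.of_hasPullback g g).flip
  have hM₂ : IsPullback (pullback.fst q q ≫ q) m f (a₁ ≫ g) :=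
    hM₁.flip.paste_horiz h
  have hr : IsPullback r v m σ := by
    refine IsPullback.of_right (h₁₂ := pullback.fst q q ≫ q) (h₂₂ := a₁ ≫ g) (v₁₃ := f) ?_ ?_ hM₂
    · rw [← Category.assoc, pullback.lift_fst, hj₁]
      exact huv
    · apply pullback.hom_ext
      · rw [Category.assoc, hm₁, ← Category.assoc, pullback.lift_fst, hP₁.w, Category.assoc]
      · rw [Category.assoc, hm₂, ← Category.assoc, pullback.lift_snd, hP₂.w, Category.assoc]
  obtain ⟨ω', hω', -⟩ := Scheme.exists_preimage_of_isPullback hr ω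
    (IsLocalRing.closedPoint (T.presheaf.stalk t)) (by
      change t = _
      exact (T.fromSpecStalk_closedPoint).symm)
  have hω₁ : j₁ ω' = ξ := by
    rw [← hω1, ← hω', ← Scheme.Hom.comp_apply, pullback.lift_fst]
  have hω₂ : j₂ ω' = ζ := by
    rw [← hω2, ← hω', ← Scheme.Hom.comp_apply, pullback.lift_snd]
  have hσfl : Flat σ := Sga3C.FlatPt.flat_fromSpecStalk T t
  have hσ := fun (κ : Type u) [Field κ] => exists_lift_fromSpecStalk t κ
  obtain ⟨D, p₁, hp₁, hp₁', hD⟩ := exists_minusCurve f' v j₁ a₁ σ hσ hP₁ E ω' (hω₁ ▸ hξ)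
  have hpr : IsProper (D.ι ≫ j₂) := by
    have h1 : IsProper ((D.ι ≫ j₂) ≫ q) := by
      rw [Category.assoc, hj₂, ← hj₁, ← Category.assoc, ← hp₁, Category.assoc]
      infer_instance
    exact IsProper.of_comp (D.ι ≫ j₂) q
  obtain ⟨y, hy⟩ : p ∈ Set.range (D.ι ≫ j₂) := by
    refine hζp.mem_closed (D.ι ≫ j₂).isClosedMap.isClosed_range ?_
    obtain ⟨y, hy⟩ := hD
    exact ⟨y, by rw [Scheme.Hom.comp_apply, hy, hω₂]⟩
  obtain ⟨E₂, p₂, hp₂, -, hE₂⟩ := exists_minusCurve f' v j₂ a₂ σ hσ hP₂ E (D.ι y) (by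
    rw [← Scheme.Hom.comp_apply, hy]
    exact hpE)
  have hne : D.support ≠ E₂.support := by
    intro heq
    rw [heq] at hD
    obtain ⟨y', hy'⟩ := hD
    apply hζE
    rw [← hω₂, ← hy', ← Scheme.Hom.comp_apply, ← hp₂]
    exact ⟨p₂ y', rfl⟩
  refine Set.disjoint_left.1 (hdisj T (a₁ ≫ g) t ?_ D E₂ hne) ⟨y, rfl⟩ hE₂
  have h5 : (a₁ ≫ g) t = f (q ξ) := by
    change (a₁ ≫ g) (m ω) = _
    rw [← Scheme.Hom.comp_apply, ← Category.assoc, hm₁, ← hω1]
    have := congr($(h.w) (pullback.fst q q ω))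
    simp only [Category.assoc, Scheme.Hom.comp_apply] at this ⊢
    exact this.symm
  rw [h5]
  exact hcl ξ hξ

end Groth.Agent.Dix.EtMin25C
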