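import Groth.Agent.Dix.EtMin25C
import Mathlib.RingTheory.Jacobson.Ring

/-!
# Position of a (-1)-curve on an étale base change (helper25, S3260)
-/

set_option autoImplicit false
universe u

open CategoryTheory CategoryTheory.Limits AlgebraicGeometry TopologicalSpace

namespace Groth.Agent.Dix.EtMin25D

open Groth.Agent.Dix.MinusCurve CohB1 EtMin25A EtMin25B

section

variable {R R' : Type u} [CommRing R] [CommRing R'] [IsDedekindDomain R] [IsDedekindDomain R']
  [Algebra R R'] [Algebra.Etale R R'] (hR' : ¬ IsField R')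
  {X : Scheme.{u}} (f : X ⟶ Spec (CommRingCat.of R)) {X' : Scheme.{u}} {q : X' ⟶ X}
  {f' : X' ⟶ Spec (CommRingCat.of R')} [IsProper f']

/-- The constants of a (-1)-curve are integral over the base. -/
theorem isIntegral_const {A : Type u} [CommRing A] {Z : Scheme.{u}} (p : Z ⟶ Spec (CommRingCat.of A))
    [IsProper p] (E : MinusCurve Z) :
    ∃ α : A →+* E.k, α.IsIntegral ∧
      ProjSpace.toSpec 1 E.k ≫ Spec.map (CommRingCat.ofHom α) = E.ι ≫ p := by
  obtain ⟨a, ha⟩ := exists_factor (E.ι ≫ p)
  obtain ⟨α, rfl⟩ : ∃ α : A →+* E.k, a = Spec.map (CommRingCat.ofHom α) :=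
    ⟨(Spec.preimage a).hom, (Spec.map_preimage _).symm⟩
  refine ⟨α, ?_, ha⟩
  have hs : Surjective (ProjSpace.toSpec 1 E.k) := by
    refine ⟨fun y => ?_⟩
    have : Nonempty (ProjSpace 1 E.k) := inferInstance
    obtain ⟨x⟩ := this
    exact ⟨x, Subsingleton.elim _ _⟩
  have h1 : UniversallyClosed (ProjSpace.toSpec 1 E.k ≫ Spec.map (CommRingCat.ofHom α)) := by
    rw [ha]; infer_instance
  have h2 : UniversallyClosed (Spec.map (CommRingCat.ofHom α)) :=
    UniversallyClosed.of_comp_surjective (ProjSpace.toSpec 1 E.k) _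
  have h3 : IsIntegralHom (Spec.map (CommRingCat.ofHom α)) :=
    IsIntegralHom.iff_universallyClosed_and_isAffineHom.mpr ⟨h2, inferInstance⟩
  rw [IsIntegralHom.SpecMap_iff] at h3
  exact h3

include hR' in
theorem isMaximal_comap (m : Ideal R') [m.IsMaximal] : (m.comap (algebraMap R R')).IsMaximal := by
  have h1 : m ≠ ⊥ := by
    intro h
    subst h
    exact hR' (Ring.isField_iff_maximal_bot.mpr ‹_›)
  have h2 : (m.comap (algebraMap R R')) ≠ ⊥ := by
    intro h
    have : LocallyQuasiFinite (Spec.map (CommRingCat.ofHom (algebraMap R R'))) :=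
      Desc.LQF.of_etale _
    have h3 := Flat2D.DimMap.eq_of_specializes_of_locallyQuasiFinite
      (Spec.map (CommRingCat.ofHom (algebraMap R R')))
      (⟨⊥, Ideal.isPrime_bot⟩ : Spec (CommRingCat.of R')) ⟨m, inferInstance⟩
      ((PrimeSpectrum.le_iff_specializes _ _).mp bot_le) (by
        apply PrimeSpectrum.ext
        change Ideal.comap (algebraMap R R') ⊥ = Ideal.comap (algebraMap R R') m
        rw [h]
        have := (FaithfulSMul.algebraMap_injective R R')
        exact (RingHom.injective_iff_ker_eq_bot _).mp this)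
    exact h1 (congrArg PrimeSpectrum.asIdeal h3).symm
  exact Ideal.IsPrime.isMaximal inferInstance h2


include hR' in
theorem isIntegral_quotient (m : Ideal R') [m.IsMaximal] :
    ((Ideal.Quotient.mk m).comp (algebraMap R R')).IsIntegral := by
  have hp := isMaximal_comap (R := R) hR' m
  let p := m.comap (algebraMap R R')
  let φ : R ⧸ p →+* R' ⧸ m := Ideal.quotientMap m (algebraMap R R') le_rfl
  have h1 : (Ideal.Quotient.mk m).comp (algebraMap R R') = φ.comp (Ideal.Quotient.mk p) := rfl
  let _ : Field (R ⧸ p) := Ideal.Quotient.field p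
  let _ : Field (R' ⧸ m) := Ideal.Quotient.field m
  have h2 : φ.FiniteType := by
    apply RingHom.FiniteType.of_comp_finiteType (f := Ideal.Quotient.mk p)
    rw [← h1]
    refine RingHom.FiniteType.comp (RingHom.FiniteType.of_surjective _ Ideal.Quotient.mk_surjective) ?_
    exact (RingHom.finiteType_algebraMap).mpr inferInstance
  let _ := φ.toAlgebra
  have h3 : Algebra.FiniteType (R ⧸ p) (R' ⧸ m) := h2
  have h4 := finite_of_finite_type_of_isJacobsonRing (R ⧸ p) (R' ⧸ m)
  have h5 : φ.IsIntegral := by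
    intro x
    exact Algebra.IsIntegral.isIntegral (R := R ⧸ p) x
  rw [h1]
  exact (RingHom.isIntegral_of_surjective _ Ideal.Quotient.mk_surjective).trans _ _ h5

include hR' in
/-- A (-1)-curve on the étale base change is finite over its image, which lies over a closed
point. -/
theorem isProper_and_const [IsSeparated f]
    (h : IsPullback q f' f (Spec.map (CommRingCat.ofHom (algebraMap R R'))))
    (E : MinusCurve X') :
    IsProper (E.ι ≫ q) ∧ ∃ s : Spec (CommRingCat.of R), IsClosed {s} ∧ ∀ z, f (q (E.ι z)) = s := by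
  obtain ⟨α, hα, ha⟩ := isIntegral_const f' E
  let m : Ideal R' := RingHom.ker α
  have hm1 : m.IsPrime := RingHom.ker_isPrime α
  let α' : R' ⧸ m →+* E.k := Ideal.Quotient.lift m α (fun a ha => ha)
  have hα' : α'.comp (Ideal.Quotient.mk m) = α := rfl
  have hα'i : α'.IsIntegral := RingHom.IsIntegral.tower_top (Ideal.Quotient.mk m) α' (hα' ▸ hα)
  have hm : m.IsMaximal := by
    rw [Ideal.Quotient.maximal_ideal_iff_isField_quotient]
    have hinj : Function.Injective α' := RingHom.lift_injective_of_ker_le_ideal m (fun a ha => ha)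
      le_rfl
    let _ := α'.toAlgebra
    have : Algebra.IsIntegral (R' ⧸ m) E.k := ⟨hα'i⟩
    exact isField_of_isIntegral_of_isField (R := R' ⧸ m) (S := E.k) hinj (Field.toIsField E.k)
  have hp := isMaximal_comap (R := R) hR' m
  let β : R →+* E.k := α.comp (algebraMap R R')
  have hβ : β.IsIntegral := by
    have : β = α'.comp ((Ideal.Quotient.mk m).comp (algebraMap R R')) := rfl
    rw [this]
    exact (isIntegral_quotient hR' m).trans _ _ hα'i
  have hb : ProjSpace.toSpec 1 E.k ≫ Spec.map (CommRingCat.ofHom β) = E.ι ≫ q ≫ f := by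
    rw [h.w, ← Category.assoc, ← ha, Category.assoc, ← Spec.map_comp]
    rfl
  have hint : IsIntegralHom (Spec.map (CommRingCat.ofHom β)) := by
    rw [IsIntegralHom.SpecMap_iff]
    exact hβ
  have hlft : LocallyOfFiniteType (E.ι ≫ q ≫ f) := by
    rw [h.w]
    infer_instance
  have hprop : IsProper (E.ι ≫ q ≫ f) := by
    have h1 : UniversallyClosed (E.ι ≫ q ≫ f) := by rw [← hb]; infer_instance
    have h2 : IsSeparated (E.ι ≫ q ≫ f) := by rw [← hb]; infer_instance
    exact { }
  refine ⟨?_, PrimeSpectrum.comap β ⊥, ?_, ?_⟩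
  · rw [← Category.assoc] at hprop
    exact IsProper.of_comp _ f
  · refine (PrimeSpectrum.isClosed_singleton_iff_isMaximal _).mpr ?_
    change (Ideal.comap β ⊥).IsMaximal
    exact hp
  · intro z
    have h5 : (E.ι ≫ q ≫ f) z = PrimeSpectrum.comap β ⊥ := by
      rw [← hb, Scheme.Hom.comp_apply]
      change PrimeSpectrum.comap β (ProjSpace.toSpec 1 E.k z) = _
      congr 1
      exact Subsingleton.elim (α := PrimeSpectrum E.k) _ _
    exact h5

end

end Groth.Agent.Dix.EtMin25D
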