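import Groth.Agent.Dix.IdealModCartier
import Groth.Agent.Dix.MinusCurve

/-!
# Conormal modules of clopen pieces of pulled back effective Cartier divisors (helper664, S3260)

`transport`: `i : E ⟶ X` a closed immersion with effective Cartier ideal, `g : Z ⟶ X` with effective Cartier
pulled back ideal (e.g. `g` flat), `i' : E' ⟶ Z` a closed immersion with `p ≫ i = i' ≫ g` such that
`E' ⟶ Z ×_X E` is an open immersion. Then `i'.ker` is effective Cartier and the conormal module of `E'` is the
pullback of that of `E`.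
-/

set_option autoImplicit false
universe u

open CategoryTheory CategoryTheory.Limits AlgebraicGeometry TopologicalSpace

namespace Groth.Agent.Dix.EtMinA

open Groth.Agent.Divis.EffCartier Groth.Agent.Dix.IdealModCartier

/-- The ideal of the base change of a closed immersion. -/
lemma ker_of_isPullback {P X Y Z : Scheme.{u}} {a : P ⟶ X} {b : P ⟶ Z} {f : X ⟶ Y} {i : Z ⟶ Y}
    [IsClosedImmersion i] (h : IsPullback a b f i) : a.ker = i.ker.comap f := by
  rw [← Scheme.IdealSheafData.ker_fst_of_isClosedImmersion, ← h.isoPullback_hom_fst,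
    Scheme.Hom.ker_comp_of_isIso]

/-- Pullback of modules along equal morphisms. -/
lemma nonempty_pullback_congr {X Y : Scheme.{u}} {f g : X ⟶ Y} (h : f = g) (M : Y.Modules) :
    Nonempty ((Scheme.Modules.pullback f).obj M ≅ (Scheme.Modules.pullback g).obj M) := by
  subst h; exact ⟨Iso.refl _⟩

theorem transport {E X Z E' : Scheme.{u}} (i : E ⟶ X) [IsClosedImmersion i] (g : Z ⟶ X)
    (hD : BlowUp.IsEffCartierIdeal i.ker) (hD' : BlowUp.IsEffCartierIdeal (i.ker.comap g))
    (i' : E' ⟶ Z) [IsClosedImmersion i'] (p : E' ⟶ E) (w : i' ≫ g = p ≫ i)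
    (hop : IsOpenImmersion (pullback.lift i' p w : E' ⟶ pullback g i)) :
    BlowUp.IsEffCartierIdeal i'.ker ∧
      Nonempty ((Scheme.Modules.pullback i').obj (ClSub.idealMod i'.ker) ≅
        (Scheme.Modules.pullback p).obj ((Scheme.Modules.pullback i).obj (ClSub.idealMod i.ker))) := by
  let j : pullback g i ⟶ Z := pullback.fst g i
  let c : E' ⟶ pullback g i := pullback.lift i' p w
  have hcj : c ≫ j = i' := pullback.lift_fst _ _ _
  have hjker : j.ker = i.ker.comap g := Scheme.IdealSheafData.ker_fst_of_isClosedImmersion _ _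
  have hcl : IsClosed ((Set.range c)ᶜ)  := c.isOpenEmbedding.isOpen_range.isClosed_compl
  let T : Set Z := j '' (Set.range c)ᶜ
  have hT : IsClosed T := j.isClosedEmbedding.isClosedMap _ hcl
  let V : Z.Opens := ⟨Tᶜ, hT.isOpen_compl⟩
  have hdisj : ∀ e : E', i' e ∈ V := by
    rintro e ⟨x, hx, hxe⟩
    apply hx
    refine ⟨e, j.isClosedEmbedding.injective ?_⟩
    rw [hxe, ← hcj]; rfl
  have hmem : ∀ x : ↥(pullback g i), j x ∈ V ↔ x ∈ Set.range c := by
    intro x
    constructor
    · intro h
      by_contra hx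
      exact h ⟨x, hx, rfl⟩
    · rintro ⟨e, rfl⟩
      have : j (c e) = i' e := by rw [← hcj]; rfl
      rw [this]; exact hdisj e
  have hrange : Set.range c = Set.range (pullback.snd V.ι j) := by
    ext x
    rw [IsOpenImmersion.range_pullbackSnd, SetLike.mem_coe, Scheme.Hom.mem_preimage, Scheme.Opens.opensRange_ι,
      hmem]
  let e : E' ≅ pullback V.ι j := IsOpenImmersion.isoOfRangeEq c (pullback.snd V.ι j) hrange
  have he : e.hom ≫ pullback.snd V.ι j = c := IsOpenImmersion.isoOfRangeEq_hom_fac _ _ _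
  let i'' : E' ⟶ V := e.hom ≫ pullback.fst V.ι j
  have hi'' : i'' ≫ V.ι = i' := by
    rw [Category.assoc, pullback.condition, ← Category.assoc, he, hcj]
  have h1 : IsPullback i'' c V.ι j :=
    IsPullback.of_iso_pullback ⟨by rw [hi'', hcj]⟩ e rfl he
  have h2 : IsPullback i'' (𝟙 E') V.ι i' := by
    refine IsPullback.of_isLimit' ⟨by rw [hi'', Category.id_comp]⟩ ?_
    refine PullbackCone.IsLimit.mk _ (fun s => s.snd) (fun s => ?_) (fun s => Category.comp_id _)
      (fun s m _ hm => by simpa using hm)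
    rw [← cancel_mono V.ι, Category.assoc, hi'', s.condition]
  have hk : i'.ker.comap V.ι = j.ker.comap V.ι := by
    rw [← ker_of_isPullback h2, ← ker_of_isPullback h1]
  have heffV : BlowUp.IsEffCartierIdeal (i'.ker.comap V.ι) := by
    rw [hk, hjker]; exact isEff_comap_flat hD' _
  have heff : BlowUp.IsEffCartierIdeal i'.ker := by
    refine isEff_of_forall_comap fun z => ?_
    by_cases hz : z ∈ V
    · exact ⟨V, V.ι, inferInstance, by simpa using hz, heffV⟩
    · let U : Z.Opens := ⟨(Set.range i')ᶜ, i'.isClosedEmbedding.isClosed_range.isOpen_compl⟩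
      refine ⟨U, U.ι, inferInstance, ?_, ?_⟩
      · rw [Scheme.Opens.range_ι]
        rintro ⟨e, rfl⟩
        exact hz (hdisj e)
      · have : i'.ker.comap U.ι = ⊤ := by
          rw [← Scheme.IdealSheafData.ker_fst_of_isClosedImmersion]
          have : IsEmpty ↥(pullback U.ι i') := by
            constructor
            intro x
            have h3 : U.ι (pullback.fst U.ι i' x) = i' (pullback.snd U.ι i' x) := by
              rw [← Scheme.Hom.comp_apply, ← Scheme.Hom.comp_apply, pullback.condition]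
            exact (pullback.fst U.ι i' x).2 ⟨_, h3.symm⟩
          exact Scheme.ker_eq_top_of_isEmpty _
        rw [this]
        exact isEff_top
  refine ⟨heff, ?_⟩
  obtain ⟨e1⟩ := nonempty_pullback_congr hi''.symm (ClSub.idealMod i'.ker)
  obtain ⟨e2⟩ := pullback_idealMod V.ι heff heffV
  obtain ⟨e3⟩ := pullback_idealMod V.ι (hjker ▸ hD') (hk ▸ heffV)
  obtain ⟨e4⟩ := nonempty_pullback_congr hi'' (ClSub.idealMod j.ker)
  obtain ⟨e5⟩ := pullback_idealMod g hD hD'
  obtain ⟨e6⟩ := nonempty_pullback_congr w (ClSub.idealMod i.ker)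
  let PC {A B C : Scheme.{u}} (f : A ⟶ B) (h : B ⟶ C) (M : C.Modules) :
      (Scheme.Modules.pullback f).obj ((Scheme.Modules.pullback h).obj M) ≅ (Scheme.Modules.pullback (f ≫ h)).obj M :=
    (Scheme.Modules.pullbackComp f h).app M
  have hk' : ClSub.idealMod (i'.ker.comap V.ι) = ClSub.idealMod (j.ker.comap V.ι) := by rw [hk]
  have hj' : ClSub.idealMod j.ker = ClSub.idealMod (i.ker.comap g) := by rw [hjker]
  exact ⟨e1 ≪≫ (PC i'' V.ι _).symm ≪≫ (Scheme.Modules.pullback i'').mapIso (e2 ≪≫ eqToIso hk' ≪≫ e3.symm) ≪≫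
    PC i'' V.ι _ ≪≫ e4 ≪≫ (Scheme.Modules.pullback i').mapIso (eqToIso hj' ≪≫ e5.symm) ≪≫ PC i' g _ ≪≫ e6 ≪≫
    (PC p i _).symm⟩

end Groth.Agent.Dix.EtMinA
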