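import Groth.Agent.Dix.EtMinA
import Groth.Agent.S0034
import Groth.Agent.S0024
import Groth.Agent.CohqB.ProjBC
import Groth.Agent.CurvesC.UnitCoh
import Groth.Agent.CurvesA.HHMap
import Groth.Agent.Ega2.QCohLocal
import Groth.Agent.Dix.ProjProper
import Groth.Agent.Fdesc.LocGenPullback

/-!
# Base change of (-1)-curves (helper664, S3260)

`exists_lift`: `E` a (-1)-curve on `X / S`, `T ⟶ S`, `Z = X ×_S T ⟶ X` flat, `Spec κ ⟶ Spec k ×_S T` open and
closed (`k` the field of constants of `E`): the corresponding piece `P^1_κ` of the preimage of `E` is a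
(-1)-curve on `Z`.
-/

set_option autoImplicit false
universe u

open CategoryTheory CategoryTheory.Limits AlgebraicGeometry TopologicalSpace

namespace Groth.Agent.Dix.EtMinB

open Groth.Agent.Dix.EtMinA Groth.Agent.Dix.MinusCurve Groth.Agent.Divis.EffCartier CohB1
open Groth.Agent.Dix.IdealModCartier Groth.Agent.CohqB.ProjBC

/-- Field extensions do not change Euler characteristics. -/
theorem eulerCharLE_bc (k : Type u) [Field k] (X : Scheme.{u}) [X.Over (Spec (CommRingCat.of k))]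
    [CompactSpace X] [QuasiSeparatedSpace X]
    (k' : Type u) [Field k'] (X' : Scheme.{u}) [X'.Over (Spec (CommRingCat.of k'))]
    (g : X' ⟶ X) (s : Spec (CommRingCat.of k') ⟶ Spec (CommRingCat.of k))
    (hpb : IsPullback g (X' ↘ Spec (CommRingCat.of k')) (X ↘ Spec (CommRingCat.of k)) s)
    (F : X.Modules) (hF : Coh.IsQCoh F) (d : ℕ) :
    FGA.eulerCharLE k' X' ((Scheme.Modules.pullback g).obj F) d = FGA.eulerCharLE k X F d := by
  obtain ⟨φ, rfl⟩ : ∃ φ, s = Spec.map φ := ⟨_, (Spec.map_preimage s).symm⟩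
  let _ : Algebra k k' := φ.hom.toAlgebra
  unfold FGA.eulerCharLE
  refine Finset.sum_congr rfl fun i _ => ?_
  obtain ⟨e⟩ := Groth.Agent.S0034.result k k' X X' g hpb F i
  rw [← e.finrank_eq, Module.finrank_baseChange]

theorem eulerCharLE_congr (k : Type u) [Field k] (X : Scheme.{u}) [X.Over (Spec (CommRingCat.of k))]
    {M N : X.Modules} (e : M ≅ N) (d : ℕ) :
    FGA.eulerCharLE k X M d = FGA.eulerCharLE k X N d := by
  unfold FGA.eulerCharLE
  refine Finset.sum_congr rfl fun i _ => ?_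
  rw [(CurvesA.HHMap.equivOver k e i).finrank_eq]

/-- Field extensions do not change degrees. -/
theorem curveDeg_bc (k : Type u) [Field k] (X : Scheme.{u}) [X.Over (Spec (CommRingCat.of k))]
    [CompactSpace X] [QuasiSeparatedSpace X]
    (k' : Type u) [Field k'] (X' : Scheme.{u}) [X'.Over (Spec (CommRingCat.of k'))]
    (g : X' ⟶ X) (s : Spec (CommRingCat.of k') ⟶ Spec (CommRingCat.of k))
    (hpb : IsPullback g (X' ↘ Spec (CommRingCat.of k')) (X ↘ Spec (CommRingCat.of k)) s)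
    (F : X.Modules) (hF : Coh.IsQCoh F) :
    ArSurf.curveDeg k' X' ((Scheme.Modules.pullback g).obj F) = ArSurf.curveDeg k X F := by
  unfold ArSurf.curveDeg
  rw [eulerCharLE_bc k X k' X' g s hpb F hF, ← eulerCharLE_congr k' X' (CurvesA.HHMap.pullbackUnit g),
    eulerCharLE_bc k X k' X' g s hpb _ (CurvesC.UnitCoh.isQCoh_unit X)]

theorem curveDeg_congr (k : Type u) [Field k] (X : Scheme.{u}) [X.Over (Spec (CommRingCat.of k))]
    {M N : X.Modules} (e : M ≅ N) : ArSurf.curveDeg k X M = ArSurf.curveDeg k X N := by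
  unfold ArSurf.curveDeg
  rw [eulerCharLE_congr k X e]

instance isSeparated_P1 (n : ℕ) (k : Type u) [Field k] : (ProjSpace n k).IsSeparated :=
  ⟨by
    have : IsSeparated (ProjSpace.toSpec n k ≫ terminal.from _) := inferInstance
    rwa [show ProjSpace.toSpec n k ≫ terminal.from _ = terminal.from _ from Subsingleton.elim _ _] at this⟩

instance compactSpace_P1 (n : ℕ) (k : Type u) [Field k] : CompactSpace (ProjSpace n k) :=
  QuasiCompact.compactSpace_of_compactSpace (ProjSpace.toSpec n k)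

section lift

variable {X Z S T : Scheme.{u}} (f : X ⟶ S) (f' : Z ⟶ T) (g : Z ⟶ X) (τ : T ⟶ S)
  (h : IsPullback g f' f τ) (E : MinusCurve X) (t : Spec (CommRingCat.of E.k) ⟶ S)
  (ht : ProjSpace.toSpec 1 E.k ≫ t = E.ι ≫ f)

include h ht in
lemma toQ_w : (pullback.snd g E.ι ≫ ProjSpace.toSpec 1 E.k) ≫ t = (pullback.fst g E.ι ≫ f') ≫ τ := by
  rw [Category.assoc, ht, ← pullback.condition_assoc, Category.assoc, h.w]

/-- The projection of the preimage of `E` to `Spec k ×_S T`. -/
noncomputable def toQ : pullback g E.ι ⟶ pullback t τ :=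
  pullback.lift (pullback.snd g E.ι ≫ ProjSpace.toSpec 1 E.k) (pullback.fst g E.ι ≫ f')
    (toQ_w f f' g τ h E t ht)

@[reassoc (attr := simp)]
lemma toQ_fst : toQ f f' g τ h E t ht ≫ pullback.fst t τ = pullback.snd g E.ι ≫ ProjSpace.toSpec 1 E.k :=
  pullback.lift_fst _ _ _

@[reassoc (attr := simp)]
lemma toQ_snd : toQ f f' g τ h E t ht ≫ pullback.snd t τ = pullback.fst g E.ι ≫ f' :=
  pullback.lift_snd _ _ _

lemma isPullback_toQ : IsPullback (pullback.snd g E.ι) (toQ f f' g τ h E t ht)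
    (ProjSpace.toSpec 1 E.k) (pullback.fst t τ) := by
  have h1 : IsPullback (pullback.snd g E.ι) (pullback.fst g E.ι) E.ι g := (IsPullback.of_hasPullback g E.ι).flip
  have h2 := h1.paste_vert h
  rw [← ht, ← toQ_snd f f' g τ h E t ht] at h2
  exact IsPullback.of_bot h2 (toQ_fst f f' g τ h E t ht).symm (IsPullback.of_hasPullback t τ)

theorem exists_lift [Flat g] (κ : Type u) [Field κ]
    (c : Spec (CommRingCat.of κ) ⟶ pullback t τ) [IsOpenImmersion c] [IsClosedImmersion c] :
    ∃ (E' : MinusCurve Z) (p : ProjSpace 1 E'.k ⟶ ProjSpace 1 E.k), p ≫ E.ι = E'.ι ≫ g ∧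
      ∀ z : Z, z ∈ E'.support ↔ ∃ w : ↥(pullback g E.ι), pullback.fst g E.ι w = z ∧
        toQ f f' g τ h E t ht w ∈ Set.range c := by
  obtain ⟨α, hα⟩ : ∃ α : E.k →+* κ, c ≫ pullback.fst t τ = Spec.map (CommRingCat.ofHom α) :=
    ⟨(Spec.preimage (c ≫ pullback.fst t τ)).hom, (Spec.map_preimage _).symm⟩
  have hP := isPullback_pmap α 1
  have hQ := isPullback_toQ f f' g τ h E t ht
  let m : ProjSpace 1 κ ⟶ pullback g E.ι :=
    hQ.lift (pmap α 1) (ProjSpace.toSpec 1 κ ≫ c) (by rw [Category.assoc, hα, hP.w])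
  have hm1 : m ≫ pullback.snd g E.ι = pmap α 1 := hQ.lift_fst _ _ _
  have hm2 : m ≫ toQ f f' g τ h E t ht = ProjSpace.toSpec 1 κ ≫ c := hQ.lift_snd _ _ _
  have hM : IsPullback m (ProjSpace.toSpec 1 κ) (toQ f f' g τ h E t ht) c := by
    refine IsPullback.of_right (h₁₂ := pullback.snd g E.ι) (h₂₂ := pullback.fst t τ)
      (v₁₃ := ProjSpace.toSpec 1 E.k) ?_ hm2 hQ
    rw [hm1, hα]
    exact hP
  have : IsOpenImmersion m := MorphismProperty.of_isPullback hM.flip inferInstance
  have : IsClosedImmersion m := MorphismProperty.of_isPullback hM.flip inferInstance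
  let i' : ProjSpace 1 κ ⟶ Z := m ≫ pullback.fst g E.ι
  have w : i' ≫ g = pmap α 1 ≫ E.ι := by
    rw [Category.assoc, pullback.condition, ← Category.assoc, hm1]
  have hlift : pullback.lift i' (pmap α 1) w = m := by
    apply pullback.hom_ext
    · rw [pullback.lift_fst]
    · rw [pullback.lift_snd, hm1]
  have hD' : BlowUp.IsEffCartierIdeal (E.ι.ker.comap g) := isEff_comap_flat E.eff g
  obtain ⟨heff, ⟨e⟩⟩ := transport E.ι g E.eff hD' i' (pmap α 1) w (by rw [hlift]; infer_instance)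
  have hinv : PicF.IsInvertible ((Scheme.Modules.pullback E.ι).obj (ClSub.idealMod E.ι.ker)) :=
    Fdesc.LocGen.isInvertible_pullback _ (isInvertible_idealMod E.eff)
  have hdeg : ArSurf.curveDeg κ (ProjSpace 1 κ) ((Scheme.Modules.pullback i').obj (ClSub.idealMod i'.ker)) = 1 := by
    rw [curveDeg_congr κ _ e, curveDeg_bc E.k (ProjSpace 1 E.k) κ (ProjSpace 1 κ) (pmap α 1)
      (Spec.map (CommRingCat.ofHom α)) hP _ (Ega2.QCohLocal.isQCoh_of_isInvertible hinv)]
    exact E.deg
  refine ⟨⟨κ, i', heff, hdeg⟩, pmap α 1, w.symm, fun z => ?_⟩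
  change z ∈ Set.range i' ↔ _
  have hr : Set.range m = toQ f f' g τ h E t ht ⁻¹' Set.range c := by
    have := Scheme.image_preimage_eq_of_isPullback hM.flip Set.univ
    simpa using this
  constructor
  · rintro ⟨x, rfl⟩
    refine ⟨m x, rfl, ?_⟩
    have : m x ∈ toQ f f' g τ h E t ht ⁻¹' Set.range c := hr ▸ ⟨x, rfl⟩
    exact this
  · rintro ⟨w, rfl, hw⟩
    have : w ∈ Set.range m := hr ▸ hw
    obtain ⟨x, rfl⟩ := this
    exact ⟨x, rfl⟩

end lift

end Groth.Agent.Dix.EtMinB
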