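import Groth.Agent.CohqA.ChevGen
import Groth.Agent.Picfga.RegLocus
import Mathlib.AlgebraicGeometry.Morphisms.Etale
import Mathlib.RingTheory.Unramified.Field
import Mathlib.RingTheory.Polynomial.IsIntegral

/-!
# Fields of constants of étale covers (helper664, S3260)

`isSeparable_ffMap`: the function field extension of a finite étale cover is separable.
`isSeparable_constants`: the extension of the fields of constants of a finite étale cover of a normal scheme is
separable.
-/

set_option autoImplicit false
universe u

open CategoryTheory CategoryTheory.Limits AlgebraicGeometry TopologicalSpace Polynomial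

namespace Groth.Agent.Dix.EtMinC

open Groth.Agent.CohqA.ChevGen Groth.Agent.Picfga.RegLocus

/-- The fraction field extension of a finite étale extension of domains is separable. -/
theorem isSeparable_frac (A B F L : Type u) [CommRing A] [CommRing B] [Field F] [Field L] [IsDomain A] [IsDomain B]
    [Algebra A B] [Algebra A F] [Algebra B L] [Algebra A L] [Algebra F L] [IsScalarTower A B L]
    [IsScalarTower A F L] [IsFractionRing A F] [IsFractionRing B L] [Module.Finite A B]
    [Algebra.FormallyUnramified A B] : Algebra.IsSeparable F L := by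
  have h1 : FiniteDimensional F L := Groth.Agent.CohqA.ChevAlg.finiteDimensional A B F L
  have h2 : Algebra.FormallyUnramified B L := Algebra.FormallyUnramified.of_isLocalization (nonZeroDivisors B)
  have h3 : Algebra.FormallyUnramified A L := Algebra.FormallyUnramified.comp A B L
  have h4 : Algebra.FormallyUnramified F L := Algebra.FormallyUnramified.of_restrictScalars A F L
  exact (Algebra.FormallyUnramified.iff_isSeparable F L).1 h4

/-- The function field extension of a finite étale cover of integral schemes is separable. -/
theorem isSeparable_ffMap {Y Z : Scheme.{u}} [IsIntegral Y] [IsIntegral Z] (g : Y ⟶ Z) [Surjective g] [IsFinite g]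
    [Etale g] :
    letI : Algebra Z.functionField Y.functionField := (ffMap g).hom.toAlgebra
    Algebra.IsSeparable Z.functionField Y.functionField := by
  let algKL : Algebra Z.functionField Y.functionField := (ffMap g).hom.toAlgebra
  change Algebra.IsSeparable Z.functionField Y.functionField
  obtain ⟨_, ⟨V, hV, rfl⟩, hxV, -⟩ :=
    Z.isBasis_affineOpens.exists_subset_of_mem_open (Set.mem_univ (genericPoint Z)) isOpen_univ
  have : Nonempty V := ⟨⟨_, hxV⟩⟩
  have := nonempty_preimage g V
  have : IsFractionRing Γ(Y, g ⁻¹ᵁ V) Y.functionField :=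
    functionField_isFractionRing_of_isAffineOpen Y _ (hV.preimage g)
  have : IsFractionRing Γ(Z, V) Z.functionField :=
    functionField_isFractionRing_of_isAffineOpen Z _ hV
  let : Algebra Γ(Z, V) Γ(Y, g ⁻¹ᵁ V) := (g.app V).hom.toAlgebra
  let : Algebra Γ(Z, V) Y.functionField :=
    (algebraMap Γ(Y, g ⁻¹ᵁ V) Y.functionField).comp (algebraMap Γ(Z, V) Γ(Y, g ⁻¹ᵁ V)) |>.toAlgebra
  have : IsScalarTower Γ(Z, V) Γ(Y, g ⁻¹ᵁ V) Y.functionField := .of_algebraMap_eq' rfl
  have : IsScalarTower Γ(Z, V) Z.functionField Y.functionField :=
    .of_algebraMap_eq fun x => (ffMap_germ g V x).symm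
  have : Module.Finite Γ(Z, V) Γ(Y, g ⁻¹ᵁ V) := IsFinite.finite_app g V hV
  have : Algebra.FormallyUnramified Γ(Z, V) Γ(Y, g ⁻¹ᵁ V) := by
    have h := Scheme.Hom.formallyUnramified_appLE (f := g) hV (hV.preimage g) le_rfl
    rw [Scheme.Hom.appLE_eq_app] at h
    exact h
  exact isSeparable_frac Γ(Z, V) Γ(Y, g ⁻¹ᵁ V) _ _

/-- On a normal integral scheme, a rational function which is integral over the constants is a global function. -/
theorem mem_range_of_isIntegralElem {X : Scheme.{u}} [IsIntegral X]
    (hN : ∀ x : X, IsIntegrallyClosed (X.presheaf.stalk x)) [Nonempty (⊤ : X.Opens)] (c : X.functionField)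
    (hc : (X.germToFunctionField ⊤).hom.IsIntegralElem c) : c ∈ Set.range (X.germToFunctionField ⊤) := by
  have h : reg c = ⊤ := by
    ext x
    simp only [Opens.coe_top, Set.mem_univ, iff_true]
    have := hN x
    obtain ⟨p, hp, hp'⟩ := hc
    have h1 : _root_.IsIntegral (X.presheaf.stalk x) c := by
      refine ⟨p.map (X.presheaf.germ ⊤ x trivial).hom, hp.map _, ?_⟩
      rw [Polynomial.eval₂_map, ← hp']
      congr 1
      ext a
      exact Scheme.algebraMap_germ_eq_germToFunctionField _ _ _
    exact IsIntegrallyClosed.isIntegral_iff.1 h1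
  obtain ⟨s, hs⟩ := exists_section c
  exact ⟨X.presheaf.map (homOfLE h.ge).op s, by rw [germ_res]; exact hs⟩

/-- The extension of the fields of constants of a finite étale cover of a normal scheme is separable. -/
theorem isSeparable_constants {C E : Scheme.{u}} [IsIntegral C] [IsIntegral E]
    (hN : ∀ x : C, IsIntegrallyClosed (C.presheaf.stalk x)) (π : E ⟶ C) [Surjective π] [IsFinite π] [Etale π]
    (K k : Type u) [Field K] [Field k] [Algebra K k] [Algebra.IsAlgebraic K k]
    (a : K →+* Γ(C, ⊤)) (ha : Function.Surjective a) (b : k →+* Γ(E, ⊤))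
    (w : ∀ x, b (algebraMap K k x) = π.appTop (a x)) : Algebra.IsSeparable K k := by
  have : Nonempty (⊤ : C.Opens) := ⟨⟨genericPoint C, trivial⟩⟩
  have : Nonempty (⊤ : E.Opens) := ⟨⟨genericPoint E, trivial⟩⟩
  let algFL : Algebra C.functionField E.functionField := (ffMap π).hom.toAlgebra
  have hsep : Algebra.IsSeparable C.functionField E.functionField := isSeparable_ffMap π
  let algKF : Algebra K C.functionField := ((C.germToFunctionField ⊤).hom.comp a).toAlgebra
  let algkL : Algebra k E.functionField := ((E.germToFunctionField ⊤).hom.comp b).toAlgebra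
  let algKL : Algebra K E.functionField := ((algebraMap k E.functionField).comp (algebraMap K k)).toAlgebra
  have t1 : IsScalarTower K k E.functionField := .of_algebraMap_eq' rfl
  have t2 : IsScalarTower K C.functionField E.functionField := .of_algebraMap_eq fun x => by
    have : Nonempty (π ⁻¹ᵁ ⊤ : E.Opens) := ⟨⟨genericPoint E, trivial⟩⟩
    change E.germToFunctionField ⊤ (b (algebraMap K k x)) = ffMap π (C.germToFunctionField ⊤ (a x))
    rw [w]
    exact (ffMap_germ π ⊤ (a x)).symm
  refine ⟨fun z => ?_⟩
  set z' : E.functionField := algebraMap k E.functionField z with hz'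
  have hint : IsIntegral K z' := (Algebra.IsIntegral.isIntegral z).map (IsScalarTower.toAlgHom K k E.functionField)
  have hintF : IsIntegral C.functionField z' := hint.tower_top
  set P := minpoly C.functionField z' with hP
  have hPs : P.Separable := Algebra.IsSeparable.isSeparable C.functionField z'
  have hdvd : P ∣ (minpoly K z').map (algebraMap K C.functionField) :=
    minpoly.dvd_map_of_isScalarTower K C.functionField z'
  have hlift : P ∈ Polynomial.lifts (algebraMap K C.functionField) := by
    rw [Polynomial.lifts_iff_coeff_lifts]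
    intro n
    have h1 : IsIntegral K (P.coeff n) := isIntegral_coeff_of_dvd _ _ (minpoly.monic hint) (minpoly.monic hintF) hdvd n
    have h2 : (C.germToFunctionField ⊤).hom.IsIntegralElem (P.coeff n) := by
      obtain ⟨p, hp, hp'⟩ := h1
      exact ⟨p.map a, hp.map _, by rw [Polynomial.eval₂_map]; exact hp'⟩
    obtain ⟨s, hs⟩ := mem_range_of_isIntegralElem hN _ h2
    obtain ⟨t, rfl⟩ := ha s
    exact ⟨t, hs⟩
  obtain ⟨Q, hQ⟩ := (Polynomial.mem_lifts _).1 hlift
  have hQs : Q.Separable := by
    rw [← Polynomial.separable_map (algebraMap K C.functionField), hQ]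
    exact hPs
  have hQz : aeval z Q = 0 := by
    apply (algebraMap k E.functionField).injective
    rw [map_zero, ← aeval_algebraMap_apply, ← hz', ← aeval_map_algebraMap C.functionField, hQ]
    exact minpoly.aeval _ _
  exact hQs.of_dvd (minpoly.dvd K z hQz)

end Groth.Agent.Dix.EtMinC
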