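import Groth.Agent.Dix.DimClosed
import Groth.Agent.Dix.GenFibre
import Groth.Agent.Dix.SmoothFibrePrime
import Groth.Agent.CycB.FinCodimOne
import Mathlib.AlgebraicGeometry.Fiber
import Mathlib.AlgebraicGeometry.Noetherian
import Mathlib.RingTheory.Ideal.KrullsHeightTheorem

/-!
# Minimal points of fibres
-/

set_option autoImplicit false
universe u

open CategoryTheory CategoryTheory.Limits AlgebraicGeometry TopologicalSpace

namespace Groth.Agent.Dix.FibreMin

open Groth.Agent.Dix.SmoothFibrePrime

/-- `x` is a generic point of its fibre. -/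
def IsMinPt {X S : Scheme.{u}} (p : X ⟶ S) (x : X) : Prop := ∀ z, z ⤳ x → p z = p x → z = x

theorem fiberι_map {X S : Scheme.{u}} (p : X ⟶ S) (s : S) (z : p.fiber s) : p (p.fiberι s z) = s := by
  have : p.fiberι s z ∈ Set.range (p.fiberι s) := ⟨z, rfl⟩
  rw [Scheme.Hom.range_fiberι] at this
  exact this

theorem isMinPt_iff {X S : Scheme.{u}} (p : X ⟶ S) (s : S) (z : p.fiber s) :
    IsMinPt p (p.fiberι s z) ↔ ∀ w, w ⤳ z → w = z := by
  constructor
  · intro h w hw
    apply (p.fiberι s).isEmbedding.injective
    exact h _ (hw.map (p.fiberι s).continuous) (by rw [fiberι_map, fiberι_map])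
  · intro h w hw hpw
    rw [fiberι_map] at hpw
    obtain ⟨w', rfl⟩ : w ∈ Set.range (p.fiberι s) := by
      rw [Scheme.Hom.range_fiberι]
      exact hpw
    rw [h w' ((p.fiberι s).isEmbedding.isInducing.specializes_iff.mp hw)]

/-- Every point has a generization in its fibre which is minimal. -/
theorem exists_isMinPt {X S : Scheme.{u}} (p : X ⟶ S) (x : X) :
    ∃ w, w ⤳ x ∧ p w = p x ∧ IsMinPt p w := by
  obtain ⟨z, hz⟩ : ∃ z, p.fiberι (p x) z = x := by
    have : x ∈ Set.range (p.fiberι (p x)) := by
      rw [Scheme.Hom.range_fiberι]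
      rfl
    exact this
  obtain ⟨w, hw⟩ := QuasiSober.sober (S := irreducibleComponent z)
    isIrreducible_irreducibleComponent isClosed_irreducibleComponent
  refine ⟨p.fiberι (p x) w, ?_, ?_, ?_⟩
  · have h1 : w ⤳ z := hw.specializes mem_irreducibleComponent
    have h2 := h1.map (p.fiberι (p x)).continuous
    rwa [hz] at h2
  · exact fiberι_map p (p x) w
  · rw [isMinPt_iff]
    intro v hv
    have h1 : IsIrreducible (closure {v}) := isIrreducible_singleton.closure
    have h2 : irreducibleComponent z ≤ closure {v} := by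
      rw [← hw.def]
      exact (hv.closure_subset)
    have h3 : closure {v} ≤ irreducibleComponent z := by
      exact (irreducibleComponent_mem_irreducibleComponents z).2 h1 h2
    have h4 : w ⤳ v := by
      rw [specializes_iff_mem_closure]
      have h5 : v ∈ irreducibleComponent z := h3 (subset_closure rfl)
      rwa [← hw.def] at h5
    exact (hv.antisymm h4).eq

set_option backward.isDefEq.respectTransparency.types false in
/-- Over finitely many points there are finitely many generic points of fibres. -/
theorem finite_isMinPt {X S : Scheme.{u}} (p : X ⟶ S) [LocallyOfFiniteType p] [QuasiCompact p]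
    (F : Set S) (hF : F.Finite) : {x : X | p x ∈ F ∧ IsMinPt p x}.Finite := by
  have hkey : ∀ s : S, {x : X | p x = s ∧ IsMinPt p x}.Finite := by
    intro s
    have hft : LocallyOfFiniteType (p.fiberToSpecResidueField s) :=
      MorphismProperty.pullback_snd _ _ inferInstance
    have hN : IsLocallyNoetherian (p.fiber s) :=
      LocallyOfFiniteType.isLocallyNoetherian (p.fiberToSpecResidueField s)
    have hC : CompactSpace (p.fiber s) := inferInstance
    have hNn : IsNoetherian (p.fiber s) := ⟨⟩
    have hfin := DimClosed.finite_minimal (F := p.fiber s)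
    refine (hfin.image (p.fiberι s)).subset ?_
    rintro x ⟨hx, hmin⟩
    obtain ⟨z, rfl⟩ : x ∈ Set.range (p.fiberι s) := by
      rw [Scheme.Hom.range_fiberι]
      exact hx
    exact ⟨z, (isMinPt_iff p s z).mp hmin, rfl⟩
  refine (hF.biUnion fun s _ => hkey s).subset ?_
  rintro x ⟨hx1, hx2⟩
  exact Set.mem_biUnion hx1 ⟨rfl, hx2⟩

/-- Krull: the generic point of a special fibre has local ring of dimension at most one. -/
theorem ringKrullDim_stalk_le_one {R : CommRingCat.{u}} [IsDomain R] [Ring.DimensionLEOne R]
    {X : Scheme.{u}} [IsLocallyNoetherian X] (p : X ⟶ Spec R) (x : X) (hx : IsMinPt p x) (r : R)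
    (hr0 : r ≠ 0) (hr : r ∈ (p x).asIdeal) : ringKrullDim (X.presheaf.stalk x) ≤ 1 := by
  have hmem : IsLocalRing.maximalIdeal (X.presheaf.stalk x) ∈
      (Ideal.span {(baseToStalk p x).hom r}).minimalPrimes := by
    have hrx : (baseToStalk p x).hom r ∈ IsLocalRing.maximalIdeal (X.presheaf.stalk x) := by
      have h1 : r ∈ Ideal.comap (baseToStalk p x).hom (IsLocalRing.maximalIdeal _) := by
        rw [comap_baseToStalk_maximalIdeal p x]
        exact hr
      exact h1
    refine ⟨⟨(IsLocalRing.maximalIdeal.isMaximal _).isPrime,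
      (Ideal.span_singleton_le_iff_mem _).mpr hrx⟩, ?_⟩
    rintro Q ⟨hQp, hQ⟩ -
    let P' : PrimeSpectrum (X.presheaf.stalk x) := ⟨Q, hQp⟩
    let w : X := X.fromSpecStalk x P'
    have hw : w ⤳ x := by
      have : w ∈ Set.range (X.fromSpecStalk x) := ⟨P', rfl⟩
      rwa [Scheme.range_fromSpecStalk] at this
    have hpw : p w = p x := by
      have h1 : p w = Spec.map (baseToStalk p x) P' := by
        rw [map_baseToStalk]; rfl
      have h2 : (p w).asIdeal ≤ (p x).asIdeal := (PrimeSpectrum.le_iff_specializes _ _).mpr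
        (hw.map p.continuous)
      have h3 : r ∈ (p w).asIdeal := by
        rw [h1]
        change (baseToStalk p x).hom r ∈ Q
        exact (Ideal.span_singleton_le_iff_mem _).mp hQ
      have h4 : (p w).asIdeal.IsMaximal := by
        have h5 : (p w).asIdeal.IsPrime := (p w).isPrime
        exact h5.isMaximal (fun h0 => hr0 (by rw [h0] at h3; exact h3))
      apply PrimeSpectrum.ext
      exact h4.eq_of_le (p x).isPrime.ne_top h2
    have hwx := hx w hw hpw
    have hP : P' = IsLocalRing.closedPoint (X.presheaf.stalk x) := by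
      apply (X.fromSpecStalk x).isEmbedding.injective
      exact hwx.trans (Scheme.fromSpecStalk_closedPoint (X := X) (x := x)).symm
    exact (congrArg PrimeSpectrum.asIdeal hP).ge
  have h1 := Ideal.height_le_one_of_isPrincipal_of_mem_minimalPrimes _ _ hmem
  rw [← IsLocalRing.maximalIdeal_height_eq_ringKrullDim]
  exact_mod_cast h1

/-- A nonzero element of a Dedekind domain is contained in finitely many primes. -/
theorem finite_primes {R : Type u} [CommRing R] [IsDedekindDomain R] (r : R) (hr : r ≠ 0) :
    {s : PrimeSpectrum R | r ∈ s.asIdeal}.Finite := by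
  have hfin := Ideal.finite_minimalPrimes_of_isNoetherianRing R (Ideal.span {r})
  refine Set.Finite.of_finite_image (f := PrimeSpectrum.asIdeal) (hfin.subset ?_)
    (fun a _ b _ h => PrimeSpectrum.ext h)
  rintro _ ⟨s, hs, rfl⟩
  refine ⟨⟨s.isPrime, (Ideal.span_singleton_le_iff_mem _).mpr hs⟩, ?_⟩
  rintro Q ⟨hQp, hQ⟩ hle
  have hQmax : Q.IsMaximal := hQp.isMaximal (fun h0 => hr (by
    have := (Ideal.span_singleton_le_iff_mem _).mp hQ
    rw [h0] at this
    exact this))
  exact (hQmax.eq_of_le s.isPrime.ne_top hle).ge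

end Groth.Agent.Dix.FibreMin
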