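import Groth.Agent.VarietyA.GeomIrrGen
import Groth.Agent.CurvesA.UfdExtend
import Mathlib.AlgebraicGeometry.Fiber
import Mathlib.AlgebraicGeometry.Morphisms.Proper

/-!
# Geometric irreducibility of the generic fibre of `X ⟶ Spec Γ(X, ⊤)` for `X` normal
-/

set_option autoImplicit false
universe u

open CategoryTheory CategoryTheory.Limits AlgebraicGeometry

namespace Groth.Agent.Dix.GenGeomIrr

/-- The fibre through the generic point is irreducible, with the expected generic point. -/
theorem specializes_asFiber {X Y : Scheme.{u}} (f : X ⟶ Y) (x : X) (hx : ∀ z, x ⤳ z)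
    (z : f.fiber (f x)) : f.asFiber x ⤳ z := by
  rw [← (f.fiberι (f x)).isEmbedding.isInducing.specializes_iff, f.fiberι_asFiber]
  exact hx _

theorem irreducibleSpace_fiber {X Y : Scheme.{u}} (f : X ⟶ Y) (x : X) (hx : ∀ z, x ⤳ z) :
    IrreducibleSpace (f.fiber (f x)) := by
  have h : IsIrreducible (closure {f.asFiber x}) := isIrreducible_singleton.closure
  have h2 : closure {f.asFiber x} = Set.univ :=
    Set.eq_univ_of_forall fun z => specializes_iff_mem_closure.mp (specializes_asFiber f x hx z)
  rw [h2] at h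
  exact (irreducibleSpace_def _).mpr h

/-- If `κ(f x)` is separably closed in `κ(x)`, `x` the generic point of `X`, then the fibre through `x` is
geometrically irreducible. -/
theorem geometricallyIrreducible_fiber {X Y : Scheme.{u}} (f : X ⟶ Y) (x : X) (hx : ∀ z, x ⤳ z)
    (H : ∀ a : X.residueField x, (letI := (f.residueFieldMap x).hom.toAlgebra
      IsSeparable (Y.residueField (f x)) a) → a ∈ (f.residueFieldMap x).hom.range) :
    GeometricallyIrreducible (f.fiberToSpecResidueField (f x)) := by
  have hirr := irreducibleSpace_fiber f x hx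
  let F := f.fiber (f x)
  have hgp : f.asFiber x = genericPoint F := by
    have h1 : genericPoint F ⤳ f.asFiber x := (genericPoint_spec F).specializes trivial
    exact ((specializes_asFiber f x hx _).antisymm h1).eq
  obtain ⟨α, hα⟩ := Spec.map_surjective (F.fromSpecResidueField (genericPoint F) ≫
    f.fiberToSpecResidueField (f x))
  let _ : Algebra (Y.residueField (f x)) (F.residueField (genericPoint F)) := α.hom.toAlgebra
  refine VarietyA.GeomIrr.geometricallyIrreducible_of_sep (Y.residueField (f x))
    (f.fiberToSpecResidueField (f x)) hα.symm (fun a ha => ?_)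
  -- the residue field of the fibre at its generic point maps to the one of `X`
  obtain ⟨θ, hθ⟩ : ∃ θ : F.residueField (genericPoint F) ⟶ X.residueField x,
      Spec.map θ ≫ F.fromSpecResidueField (genericPoint F) = f.asFiberHom x := by
    have h1 : f.asFiberHom x (IsLocalRing.closedPoint (X.residueField x)) = genericPoint F := by
      rw [← hgp]
      exact f.asFiberHom_apply x _
    obtain ⟨⟨z, θ⟩, hzθ⟩ := (Scheme.SpecToEquivOfField (X.residueField x) F).symm.surjective (f.asFiberHom x)
    have hzθ' : Spec.map θ ≫ F.fromSpecResidueField z = f.asFiberHom x := hzθ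
    have hz : z = genericPoint F := by
      rw [← h1, ← hzθ']
      exact (Scheme.fromSpecResidueField_apply z _).symm
    subst hz
    exact ⟨θ, hzθ'⟩
  have hcomp : α ≫ θ = f.residueFieldMap x := by
    apply Spec.map_injective
    rw [Spec.map_comp, hα, ← Category.assoc, hθ, f.asFiberHom_fiberToSpecResidueField]
  have hcomp' : ∀ b, θ.hom (α.hom b) = (f.residueFieldMap x).hom b := fun b => congr($hcomp b)
  have hθinj : Function.Injective θ.hom := θ.hom.injective
  obtain ⟨b, hb⟩ := H (θ.hom a) (by
    let _ : Algebra (Y.residueField (f x)) (X.residueField x) := (f.residueFieldMap x).hom.toAlgebra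
    let θ' : F.residueField (genericPoint F) →ₐ[Y.residueField (f x)] X.residueField x :=
      { θ.hom with commutes' := hcomp' }
    exact ha.map θ' hθinj)
  refine ⟨b, ?_⟩
  apply hθinj
  rw [← hb]
  exact hcomp' b

open Groth.Agent.CurvesA.UfdStalk Groth.Agent.CurvesA.UfdExtend

theorem genPt_top (X : Scheme.{u}) [IsIntegral X] (x : X) (hx : ∀ z, x ⤳ z) :
    GenPt (⊤ : X.Opens) x where
  mem := trivial
  spec := fun y _ => hx y
  inj := fun W _ hW => germ_injective_of_isIntegral X x hW
  field := by
    have h : x = genericPoint X :=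
      ((hx _).antisymm ((genericPoint_spec X).specializes trivial)).eq
    subst h
    exact (inferInstance : Field X.functionField).toIsField

/-- Evaluation of global functions in the residue field. -/
noncomputable def ev (X : Scheme.{u}) (x : X) : Γ(X, ⊤) →+* X.residueField x :=
  (X.residue x).hom.comp (X.presheaf.germ ⊤ x trivial).hom

/-- On a normal integral scheme an element of the residue field of the generic point, algebraic over the global
functions, is a fraction of global functions. -/
theorem exists_fraction_of_isAlgebraic (X : Scheme.{u}) [IsIntegral X] (x : X) (hx : ∀ z, x ⤳ z)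
    (hn : ∀ z : X, IsIntegrallyClosed (X.presheaf.stalk z)) (c : X.residueField x)
    (hc : letI := (ev X x).toAlgebra; IsAlgebraic Γ(X, ⊤) c) :
    ∃ a d : Γ(X, ⊤), ev X x d ≠ 0 ∧ c * ev X x d = ev X x a := by
  have hG := genPt_top X x hx
  have hbij : Function.Bijective (X.residue x).hom := by
    let _ : Field (X.presheaf.stalk x) := hG.field.toField
    exact ⟨(X.residue x).hom.injective, X.residue_surjective x⟩
  let _ : Algebra Γ(X, ⊤) (X.residueField x) := (ev X x).toAlgebra
  have hinj : Function.Injective (algebraMap Γ(X, ⊤) (X.residueField x)) :=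
    hbij.1.comp (germ_injective_of_isIntegral X x (show x ∈ (⊤ : X.Opens) from trivial))
  obtain ⟨d, hd0, hd⟩ := hc.exists_integral_multiple
  obtain ⟨τ, hτ⟩ := hbij.2 (d • c)
  have hreg : ∀ (y : X) (hy : y ∈ (⊤ : X.Opens)), RegPt (hG.spec y hy) τ := by
    intro y hy
    have hfr := hG.isFractionRing hy
    let _ : Algebra (X.presheaf.stalk y) (X.presheaf.stalk x) := (sp (hG.spec y hy)).toAlgebra
    have := hn y
    have hτint : IsIntegral (X.presheaf.stalk y) τ := by
      obtain ⟨P, hP, hP0⟩ := hd
      refine ⟨P.map (X.presheaf.germ ⊤ y trivial).hom, hP.map _, ?_⟩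
      apply hbij.1
      rw [map_zero, ← hP0, Polynomial.eval₂_map, Polynomial.hom_eval₂, hτ]
      congr 1
      ext r
      exact congrArg (X.residue x).hom (sp_germ (hG.spec y hy) hy r)
    let _ : Field (X.presheaf.stalk x) := hG.field.toField
    obtain ⟨w, hw⟩ := (IsIntegrallyClosed.isIntegral_iff (R := X.presheaf.stalk y)
      (K := X.presheaf.stalk x)).mp hτint
    exact ⟨w, hw⟩
  obtain ⟨r, hr⟩ := exists_section_of_regPt hG le_rfl trivial τ hreg
  refine ⟨r, d, ?_, ?_⟩
  · intro h0
    exact hd0 (hinj (by rw [map_zero]; exact h0))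
  · change c * algebraMap Γ(X, ⊤) (X.residueField x) d = _
    rw [mul_comm, ← Algebra.smul_def, ← hτ, ← hr]
    rfl

/-- Elements of residue fields of an affine scheme are fractions of global functions. -/
theorem exists_fraction_residue (Y : Scheme.{u}) [IsAffine Y] (y : Y) (z : Y.residueField y) :
    ∃ a d : Γ(Y, ⊤), ev Y y d ≠ 0 ∧ z * ev Y y d = ev Y y a := by
  obtain ⟨b, rfl⟩ := Y.residue_surjective y z
  have hV : IsAffineOpen (⊤ : Y.Opens) := isAffineOpen_top Y
  let _ : Algebra Γ(Y, ⊤) (Y.presheaf.stalk y) :=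
    TopCat.Presheaf.algebra_section_stalk Y.presheaf (⟨y, trivial⟩ : (⊤ : Y.Opens))
  have hloc : IsLocalization.AtPrime (Y.presheaf.stalk y) (hV.primeIdealOf ⟨y, trivial⟩).asIdeal :=
    hV.isLocalization_stalk ⟨y, trivial⟩
  obtain ⟨⟨a, t⟩, hat⟩ := IsLocalization.surj (hV.primeIdealOf ⟨y, trivial⟩).asIdeal.primeCompl b
  have ht : IsUnit (algebraMap Γ(Y, ⊤) (Y.presheaf.stalk y) t) := IsLocalization.map_units _ t
  refine ⟨a, t, ?_, ?_⟩
  · exact (ht.map (Y.residue y).hom).ne_zero
  · have := congrArg (Y.residue y).hom hat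
    rw [map_mul] at this
    exact this

theorem residueFieldMap_ev {X Y : Scheme.{u}} (f : X ⟶ Y) (x : X) (a : Γ(Y, ⊤)) :
    (f.residueFieldMap x).hom (ev Y (f x) a) = ev X x (f.appTop.hom a) :=
  Scheme.evaluation_naturality_apply f x (V := ⊤) trivial a

/-- The generic fibre of `X ⟶ Spec Γ(X, ⊤)` is geometrically irreducible for `X` integral and normal. -/
theorem geometricallyIrreducible_genericFibre {X Y : Scheme.{u}} [IsIntegral X] [IsAffine Y] (f : X ⟶ Y)
    [IsIso f.appTop] (x : X) (hx : ∀ z, x ⤳ z)
    (hn : ∀ z : X, IsIntegrallyClosed (X.presheaf.stalk z)) :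
    GeometricallyIrreducible (f.fiberToSpecResidueField (f x)) := by
  apply geometricallyIrreducible_fiber f x hx
  intro c hc
  let _ : Algebra (Y.residueField (f x)) (X.residueField x) := (f.residueFieldMap x).hom.toAlgebra
  let _ : Algebra Γ(X, ⊤) (X.residueField x) := (ev X x).toAlgebra
  let _ : Algebra Γ(Y, ⊤) (X.residueField x) := ((ev X x).comp f.appTop.hom).toAlgebra
  let _ : Algebra Γ(Y, ⊤) (Y.residueField (f x)) := (ev Y (f x)).toAlgebra
  let _ : Algebra Γ(Y, ⊤) Γ(X, ⊤) := f.appTop.hom.toAlgebra
  have t1 : IsScalarTower Γ(Y, ⊤) (Y.residueField (f x)) (X.residueField x) :=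
    IsScalarTower.of_algebraMap_eq fun a => (residueFieldMap_ev f x a).symm
  have t2 : IsScalarTower Γ(Y, ⊤) Γ(X, ⊤) (X.residueField x) :=
    IsScalarTower.of_algebraMap_eq fun a => rfl
  have hbij : Function.Bijective f.appTop.hom := (ConcreteCategory.isIso_iff_bijective f.appTop).mp
    inferInstance
  have halgY : Algebra.IsAlgebraic Γ(Y, ⊤) (Y.residueField (f x)) := by
    refine ⟨fun z => ?_⟩
    obtain ⟨a, d, hd, had⟩ := exists_fraction_residue Y (f x) z
    refine ⟨Polynomial.C d * Polynomial.X - Polynomial.C a, ?_, ?_⟩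
    · intro h0
      have h1 := congrArg (fun P => Polynomial.coeff P 1) h0
      simp at h1
      exact hd (by rw [h1, map_zero])
    · simp only [map_sub, map_mul, Polynomial.aeval_C, Polynomial.aeval_X]
      change ev Y (f x) d * z - ev Y (f x) a = 0
      rw [← had]
      ring
  have hc1 : IsAlgebraic (Y.residueField (f x)) c := hc.isIntegral.isAlgebraic
  have hc2 : IsAlgebraic Γ(Y, ⊤) c := hc1.restrictScalars Γ(Y, ⊤)
  have hc3 : IsAlgebraic Γ(X, ⊤) c := by
    refine hc2.extendScalars ?_
    exact hbij.1
  obtain ⟨a, d, hd, had⟩ := exists_fraction_of_isAlgebraic X x hx hn c hc3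
  obtain ⟨a', rfl⟩ := hbij.2 a
  obtain ⟨d', rfl⟩ := hbij.2 d
  rw [← residueFieldMap_ev, ← residueFieldMap_ev] at had
  rw [← residueFieldMap_ev] at hd
  refine ⟨ev Y (f x) a' / ev Y (f x) d', ?_⟩
  rw [map_div₀, ← had, mul_div_cancel_right₀ _ hd]

end Groth.Agent.Dix.GenGeomIrr
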