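import Groth.Agent.Dix.GenGeomIrr
import Groth.Agent.S0419

/-!
# Almost all fibres of a proper normal integral scheme over a domain are disjoint unions of irreducible closed
subsets

`X` integral and normal, `p : X ⟶ Spec R` proper and dominant. There is `0 ≠ r ∈ R` such that in every fibre over
a point of `D(r)` a point which is minimal (for generization) specializes to every point of the fibre having a
common specialization with it.
-/

set_option autoImplicit false
universe u

open CategoryTheory CategoryTheory.Limits AlgebraicGeometry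

namespace Groth.Agent.Dix.GoodFibres

open Groth.Agent.Dix.GenGeomIrr

/-- Points of an irreducible fibre over a point of `V`, for `f ∣_ V` geometrically irreducible. -/
theorem exists_generic_of_geomIrr {X Y : Scheme.{u}} (f : X ⟶ Y) (V : Y.Opens)
    [GeometricallyIrreducible (f ∣_ V)] (y : Y) (hy : y ∈ V) :
    ∃ ξ : X, f ξ = y ∧ ∀ z, f z = y → ξ ⤳ z := by
  let y' : (V : Scheme.{u}) := ⟨y, hy⟩
  let F := (f ∣_ V).fiber y'
  let z₀ : F := genericPoint F
  let ι : F ⟶ X := (f ∣_ V).fiberι y' ≫ (f ⁻¹ᵁ V).ι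
  have hcomm : ∀ z : (f ⁻¹ᵁ V : Scheme.{u}), V.ι ((f ∣_ V) z) = f ((f ⁻¹ᵁ V).ι z) := by
    intro z
    have := congr($(morphismRestrict_ι f V) z)
    exact this
  have hF : ∀ z : F, f (ι z) = y := by
    intro z
    have h1 : (f ∣_ V) ((f ∣_ V).fiberι y' z) = y' := by
      have : (f ∣_ V).fiberι y' z ∈ Set.range ((f ∣_ V).fiberι y') := ⟨z, rfl⟩
      rw [Scheme.Hom.range_fiberι] at this
      exact this
    have h2 := hcomm ((f ∣_ V).fiberι y' z)
    rw [h1] at h2
    exact h2.symm
  refine ⟨ι z₀, hF z₀, fun z hz => ?_⟩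
  have hzV : z ∈ f ⁻¹ᵁ V := by
    change f z ∈ V
    rw [hz]
    exact hy
  let z' : (f ⁻¹ᵁ V : Scheme.{u}) := ⟨z, hzV⟩
  have hz' : (f ∣_ V) z' = y' := by
    apply V.ι.isEmbedding.injective
    rw [hcomm]
    exact hz
  have h1 : z' ∈ Set.range ((f ∣_ V).fiberι y') := by
    rw [Scheme.Hom.range_fiberι]
    exact hz'
  obtain ⟨z'', hz''⟩ := h1
  have h2 : z₀ ⤳ z'' := (genericPoint_spec F).specializes trivial
  have h3 : ι z₀ ⤳ ι z'' := h2.map ι.continuous
  have h4 : ι z'' = z := by
    change (f ⁻¹ᵁ V).ι ((f ∣_ V).fiberι y' z'') = z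
    rw [hz'']
    rfl
  rwa [h4] at h3

theorem exists_good {R : CommRingCat.{u}} [IsDomain R] {X : Scheme.{u}} [IsIntegral X]
    (p : X ⟶ Spec R) [IsProper p]
    (hn : ∀ z : X, IsIntegrallyClosed (X.presheaf.stalk z)) :
    ∃ r : R, r ≠ 0 ∧ ∀ e w x' : X, p w = p e → p x' = p e → r ∉ (p e).asIdeal → w ⤳ e → x' ⤳ e →
      (∀ z, z ⤳ x' → p z = p e → z = x') → x' ⤳ w := by
  let φ := X.toSpecΓ
  let ψ : R ⟶ Γ(X, ⊤) := (Scheme.ΓSpecIso R).inv ≫ p.appTop
  have hp : φ ≫ Spec.map ψ = p := by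
    rw [Spec.map_comp, ← Category.assoc, ← Scheme.toSpecΓ_naturality, Category.assoc,
      toSpecΓ_SpecMap_ΓSpecIso_inv, Category.comp_id]
  have hint : ψ.hom.IsIntegral := by
    have h1 := isIntegral_appTop_of_universallyClosed p
    have h2 : (Scheme.ΓSpecIso R).inv.hom.IsIntegral :=
      RingHom.isIntegral_of_surjective _ ((ConcreteCategory.isIso_iff_bijective
        (Scheme.ΓSpecIso R).inv).mp inferInstance).2
    exact RingHom.IsIntegral.trans _ _ h2 h1
  have hφlft : LocallyOfFiniteType φ := by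
    have : LocallyOfFiniteType (φ ≫ Spec.map ψ) := by rw [hp]; infer_instance
    exact locallyOfFiniteType_of_comp φ (Spec.map ψ)
  have hφqc : QuasiCompact φ := by
    have : QuasiCompact (φ ≫ Spec.map ψ) := by rw [hp]; infer_instance
    exact QuasiCompact.of_comp φ (Spec.map ψ)
  have hdom : IsDomain Γ(X, ⊤) := inferInstance
  have hpφ : ∀ z, p z = Spec.map ψ (φ z) := fun z => by rw [← hp]; rfl
  have hη' : ∀ z : X, genericPoint X ⤳ z := fun z => (genericPoint_spec X).specializes trivial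
  -- the image of the generic point is the generic point
  have hgen : φ (genericPoint X) = genericPoint (Spec Γ(X, ⊤)) := by
    have hη0 : (φ (genericPoint X)).asIdeal = ⊥ := by
      rw [eq_bot_iff]
      intro a ha
      have h1 : (X.presheaf.Γgerm (genericPoint X)).hom a ∈
        IsLocalRing.maximalIdeal (X.presheaf.stalk (genericPoint X)) := ha
      have h2 : (X.presheaf.Γgerm (genericPoint X)).hom a = 0 := by
        by_contra h0
        obtain ⟨b, hb⟩ := (genPt_top X (genericPoint X) hη').field.mul_inv_cancel h0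
        exact (IsLocalRing.mem_maximalIdeal _).mp h1 (IsUnit.of_mul_eq_one b hb)
      have h3 := germ_injective_of_isIntegral X (genericPoint X)
        (show genericPoint X ∈ (⊤ : X.Opens) from trivial)
      have h4 : a = 0 := h3 (h2.trans (map_zero _).symm)
      rw [h4]
      exact Submodule.zero_mem _
    have h1 : φ (genericPoint X) ⤳ genericPoint (Spec Γ(X, ⊤)) := by
      refine (PrimeSpectrum.le_iff_specializes _ _).mp ?_
      change (φ (genericPoint X)).asIdeal ≤ _
      rw [hη0]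
      exact bot_le
    exact (h1.antisymm ((genericPoint_spec _).specializes trivial)).eq
  have hgeom : GeometricallyIrreducible (φ.fiberToSpecResidueField (genericPoint (Spec Γ(X, ⊤)))) := by
    rw [← hgen]
    have : IsIso φ.appTop := by
      rw [Scheme.toSpecΓ_appTop]
      infer_instance
    exact geometricallyIrreducible_genericFibre φ (genericPoint X) hη' hn
  obtain ⟨V, hVne, hV⟩ := S0419.result φ hgeom
  -- a basic open set inside `V`
  obtain ⟨a, ha0, haV⟩ : ∃ a : Γ(X, ⊤), a ≠ 0 ∧ ∀ z : Spec Γ(X, ⊤), a ∉ z.asIdeal → z ∈ V := by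
    have hmem : genericPoint (Spec Γ(X, ⊤)) ∈ V := by
      obtain ⟨v, hv⟩ := hVne
      exact ((genericPoint_spec (Spec Γ(X, ⊤))).specializes trivial).mem_open V.isOpen hv
    obtain ⟨_, ⟨_, ⟨a, rfl⟩, rfl⟩, h1, h2⟩ := PrimeSpectrum.isBasis_basic_opens.exists_subset_of_mem_open
      hmem V.isOpen
    refine ⟨a, ?_, fun z hz => h2 hz⟩
    rintro rfl
    exact h1 (Submodule.zero_mem _)
  let _ : Algebra R Γ(X, ⊤) := ψ.hom.toAlgebra
  obtain ⟨r, hr, hr0⟩ := Submodule.exists_mem_ne_zero_of_ne_bot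
    (Ideal.comap_ne_bot_of_integral_mem (R := R) ha0 (Ideal.mem_span_singleton_self a) (hint a))
  refine ⟨r, hr0, ?_⟩
  intro e w x' hw hx' hre hwe hx'e hmin
  -- the image in `Spec Γ(X, ⊤)`
  have hφeV : φ e ∈ V := by
    apply haV
    intro hae
    apply hre
    rw [hpφ]
    change ψ.hom r ∈ (φ e).asIdeal
    have h1 : algebraMap R Γ(X, ⊤) r ∈ Ideal.span {a} := hr
    exact (Ideal.span_singleton_le_iff_mem _).mpr hae h1
  have hsame : ∀ z, z ⤳ e → p z = p e → φ z = φ e := by
    intro z hz hpz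
    have h1 : (φ z).asIdeal ≤ (φ e).asIdeal := (PrimeSpectrum.le_iff_specializes _ _).mpr
      (hz.map φ.continuous)
    have h2 : (φ z).asIdeal.comap (algebraMap R Γ(X, ⊤)) = (φ e).asIdeal.comap (algebraMap R Γ(X, ⊤)) := by
      have h3 := hpz
      rw [hpφ, hpφ] at h3
      exact congrArg PrimeSpectrum.asIdeal h3
    have : Algebra.IsIntegral R Γ(X, ⊤) := ⟨hint⟩
    apply PrimeSpectrum.ext
    by_contra hne
    have h3 : (φ z).asIdeal < (φ e).asIdeal := lt_of_le_of_ne h1 hne
    have : (φ z).asIdeal.IsPrime := (φ z).isPrime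
    exact (Ideal.IsIntegral.comap_lt_comap (R := R) h3).ne h2
  obtain ⟨ξ, hξ, hξs⟩ := exists_generic_of_geomIrr φ V (φ e) hφeV
  have h1 : ξ ⤳ x' := hξs x' (hsame x' hx'e hx')
  have h2 : ξ ⤳ w := hξs w (hsame w hwe hw)
  have h3 : ξ = x' := hmin ξ h1 (by rw [hpφ, hpφ e, hξ])
  rwa [h3] at h2

end Groth.Agent.Dix.GoodFibres
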