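import Mathlib.CategoryTheory.Monoidal.Cartesian.Grp

/-!
# Group objects from group objects in the image of a functor

Let `F : C ⥤ D` be a functor between cartesian monoidal categories and `N` an object of `C` such that
`F.obj N` is a group object. If `F` is injective on morphisms from the powers of `N` to `N` and the structure
morphisms of `F.obj N` come from `C`, then `N` is a group object.
-/

set_option autoImplicit false

universe v₁ v₂ u₁ u₂

open CategoryTheory MonoidalCategory CartesianMonoidalCategory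
open scoped MonObj

namespace Groth.Agent.Dix.GrpReflect

variable {C : Type u₁} {D : Type u₂} [Category.{v₁} C] [Category.{v₂} D] [CartesianMonoidalCategory C]
  [CartesianMonoidalCategory D] (F : C ⥤ D) (N : C) [GrpObj (F.obj N)]

theorem map_lift_comp (mul : N ⊗ N ⟶ N)
    (hmul : F.map mul = (F.map (fst N N) * F.map (snd N N) : F.obj (N ⊗ N) ⟶ F.obj N))
    {Y : C} (u v : Y ⟶ N) :
    F.map (lift u v ≫ mul) = (F.map u * F.map v : F.obj Y ⟶ F.obj N) := by
  rw [F.map_comp, hmul, MonObj.comp_mul, ← F.map_comp, ← F.map_comp, lift_fst, lift_snd]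

theorem exists_grpObj (P : C → Prop) (h1 : P (𝟙_ C)) (hN : P N) (h2 : ∀ A B, P A → P B → P (A ⊗ B))
    (hinj : ∀ Y, P Y → ∀ g g' : Y ⟶ N, F.map g = F.map g' → g = g')
    (one : 𝟙_ C ⟶ N) (hone : F.map one = (1 : F.obj (𝟙_ C) ⟶ F.obj N))
    (mul : N ⊗ N ⟶ N)
    (hmul : F.map mul = (F.map (fst N N) * F.map (snd N N) : F.obj (N ⊗ N) ⟶ F.obj N))
    (inv : N ⟶ N) (hinv : F.map inv = ((𝟙 (F.obj N))⁻¹ : F.obj N ⟶ F.obj N)) :
    Nonempty (GrpObj N) := by
  have key := @map_lift_comp _ _ _ _ _ _ F N _ mul hmul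
  have hone' : ∀ {Y : C} (t : Y ⟶ 𝟙_ C), F.map (t ≫ one) = (1 : F.obj Y ⟶ F.obj N) := by
    intro Y t
    rw [F.map_comp, hone, MonObj.comp_one]
  have hinv' : ∀ {Y : C} (t : Y ⟶ N), F.map (t ≫ inv) = ((F.map t)⁻¹ : F.obj Y ⟶ F.obj N) := by
    intro Y t
    rw [F.map_comp, hinv, GrpObj.comp_inv, Category.comp_id]
  refine ⟨{ one := one, mul := mul, inv := inv, one_mul := ?_, mul_one := ?_, mul_assoc := ?_,
            left_inv := ?_, right_inv := ?_ }⟩
  · apply hinj _ (h2 _ _ h1 hN)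
    have : (one ▷ N) = lift (fst (𝟙_ C) N ≫ one) (snd (𝟙_ C) N) := by ext <;> simp
    rw [this, key, hone', _root_.one_mul, leftUnitor_hom]
  · apply hinj _ (h2 _ _ hN h1)
    have : (N ◁ one) = lift (fst N (𝟙_ C)) (snd N (𝟙_ C) ≫ one) := by ext <;> simp
    rw [this, key, hone', _root_.mul_one, rightUnitor_hom]
  · apply hinj _ (h2 _ _ (h2 _ _ hN hN) hN)
    have e1 : (mul ▷ N) = lift (fst (N ⊗ N) N ≫ mul) (snd (N ⊗ N) N) := by ext <;> simp
    have e2 : (α_ N N N).hom ≫ N ◁ mul = lift (fst (N ⊗ N) N ≫ fst N N)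
        (lift (fst (N ⊗ N) N ≫ snd N N) (snd (N ⊗ N) N) ≫ mul) := by
      ext
      · simp
      · simp only [Category.assoc, whiskerLeft_snd, lift_snd]
        rw [← Category.assoc]
        congr 1
        ext <;> simp
    rw [e1, key, ← Category.assoc, e2, key, key]
    have e3 : fst (N ⊗ N) N = lift (fst (N ⊗ N) N ≫ fst N N) (fst (N ⊗ N) N ≫ snd N N) := by
      ext <;> simp
    conv_lhs => rw [e3]
    rw [key, _root_.mul_assoc]
  · apply hinj _ hN
    have : inv = 𝟙 N ≫ inv := (Category.id_comp _).symm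
    rw [key, hone', this, hinv', inv_mul_cancel]
  · apply hinj _ hN
    have : inv = 𝟙 N ≫ inv := (Category.id_comp _).symm
    rw [key, hone', this, hinv', mul_inv_cancel]

end Groth.Agent.Dix.GrpReflect
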