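import Groth.Prelude.Def_Neron
import Groth.Agent.CalgA.RegBasic
import Groth.Agent.Flat2D.FiberStalk
import Groth.Agent.Smoothlim.SmoothLocusBC
import Groth.Agent.VarietyA.SmoothReg
import Groth.Agent.Dix.SmoothFibrePrime
import Groth.Agent.Dix.GenFibre

/-!
# Regular total space and sections: points of the smooth locus over a discrete valuation ring
-/

set_option autoImplicit false

universe u

open CategoryTheory CategoryTheory.Limits AlgebraicGeometry IsLocalRing

namespace Groth.Agent.Dix.NeronEllA

open Groth.Agent.Dix.SmoothFibrePrime Groth.Agent.Flat2D.FiberStalk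

theorem perfectField_residueField {R : Type u} [CommRing R] [IsLocalRing R]
    [PerfectField (ResidueField R)] (s : Spec (CommRingCat.of R)) (hs : s = closedPoint R) :
    PerfectField ((Spec (CommRingCat.of R)).residueField s) := by
  subst hs
  let e1 : (Spec (CommRingCat.of R)).presheaf.stalk (closedPoint R) ≃+* R :=
    (stalkClosedPointIso (CommRingCat.of R)).commRingCatIsoToRingEquiv
  exact PerfectField.of_ringEquiv (ResidueField.mapEquiv e1.symm)

/-- Pointwise fibre criterion: a flat morphism locally of finite presentation is smooth at `x` if the local ring of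
the fibre through `x` is regular and the residue field of the base point is perfect. -/
theorem mem_smoothLocus_of_fibre {X S : Scheme.{u}} (f : X ⟶ S) [LocallyOfFinitePresentation f] [Flat f]
    (x : X) [PerfectField (S.residueField (f x))]
    (h : IsRegularLocalRing (X.presheaf.stalk x ⧸ fibreIdeal f x)) : x ∈ f.smoothLocus := by
  have hpb : IsPullback (f.fiberι (f x)) (f.fiberToSpecResidueField (f x)) f
      (S.fromSpecResidueField (f x)) := IsPullback.of_hasPullback f (S.fromSpecResidueField (f x))
  have hlfp : LocallyOfFinitePresentation (f.fiberToSpecResidueField (f x)) :=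
    MorphismProperty.of_isPullback hpb inferInstance
  have h1 := Groth.Agent.Smoothlim.SmoothLocusBC.mem_smoothLocus_iff_of_isPullback hpb
    (f.asFiber x) (Or.inl (Flat.stalkMap f _))
  rw [f.fiberι_asFiber x] at h1
  rw [← h1]
  have h2 := Groth.Agent.VarietyA.SmoothReg.mem_smoothLocus_iff_of_perfectField
    (k := S.residueField (f x)) (f.fiberToSpecResidueField (f x)) (f.asFiber x)
  rw [h2]
  obtain ⟨e⟩ := nonempty_asFiber_stalkEquiv f x
  exact IsRegularLocalRing.of_ringEquiv e


theorem toStalk_stalkMap {X : Scheme.{u}} {R : CommRingCat.{u}} (f : X ⟶ Spec R) (x : X) :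
    StructureSheaf.toStalk R (f x) ≫ f.stalkMap x = baseToStalk f x := by
  apply Spec.map_injective
  rw [Spec.map_comp, map_baseToStalk, ← Spec.fromSpecStalk_eq']
  exact Scheme.SpecMap_stalkMap_fromSpecStalk f

theorem fibreIdeal_eq {X : Scheme.{u}} {R : CommRingCat.{u}} (f : X ⟶ Spec R) (x : X) :
    fibreIdeal f x = (f x).asIdeal.map (baseToStalk f x).hom := by
  rw [fibreIdeal_def, ← toStalk_stalkMap, CommRingCat.hom_comp, ← Ideal.map_map]
  congr 1
  let _ : Algebra R ((Spec R).presheaf.stalk (f x)) := StructureSheaf.stalkAlgebra R (f x)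
  have : IsLocalization.AtPrime ((Spec R).presheaf.stalk (f x)) (f x).asIdeal :=
    StructureSheaf.IsLocalization.to_stalk R (f x)
  exact (IsLocalization.AtPrime.map_eq_maximalIdeal (f x).asIdeal _).symm

/-- Pointwise fibre criterion, without assumption on the residue field of the base: a flat morphism locally of
finite presentation is smooth at `x` if the local ring of the fibre through `x` is regular and the residue
field extension at `x` is trivial. -/
theorem mem_smoothLocus_of_fibre_of_surjective {X S : Scheme.{u}} (f : X ⟶ S)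
    [LocallyOfFinitePresentation f] [Flat f] (x : X)
    (hs : Function.Surjective (f.residueFieldMap x).hom)
    (h : IsRegularLocalRing (X.presheaf.stalk x ⧸ fibreIdeal f x)) : x ∈ f.smoothLocus := by
  have hpb : IsPullback (f.fiberι (f x)) (f.fiberToSpecResidueField (f x)) f
      (S.fromSpecResidueField (f x)) := IsPullback.of_hasPullback f (S.fromSpecResidueField (f x))
  have hlfp : LocallyOfFinitePresentation (f.fiberToSpecResidueField (f x)) :=
    MorphismProperty.of_isPullback hpb inferInstance
  have h1 := Groth.Agent.Smoothlim.SmoothLocusBC.mem_smoothLocus_iff_of_isPullback hpb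
    (f.asFiber x) (Or.inl (Flat.stalkMap f _))
  rw [f.fiberι_asFiber x] at h1
  rw [← h1]
  let k := S.residueField (f x)
  let _ : (f.fiber (f x)).Over (Spec (CommRingCat.of k)) := ⟨f.fiberToSpecResidueField (f x)⟩
  obtain ⟨e⟩ := nonempty_asFiber_stalkEquiv f x
  have hlfp' : LocallyOfFinitePresentation ((f.fiber (f x)) ↘ Spec (CommRingCat.of k)) := hlfp
  refine Groth.Agent.VarietyA.SmoothReg.mem_smoothLocus_of_isRegularLocalRing k (f.fiber (f x))
    (f.asFiber x) ?_ (IsRegularLocalRing.of_ringEquiv e)
  have key : CommRingCat.ofHom (Curv2.resMap k (f.fiber (f x)) (f.asFiber x)) =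
      (S.residueFieldCongr (congrArg f (f.fiberι_asFiber x))).inv ≫
        f.residueFieldMap (f.fiberι (f x) (f.asFiber x)) ≫
          (f.fiberι (f x)).residueFieldMap (f.asFiber x) := by
    apply Spec.map_injective
    rw [← cancel_mono (S.fromSpecResidueField (f x))]
    have e1 : Spec.map (CommRingCat.ofHom (Curv2.resMap k (f.fiber (f x)) (f.asFiber x))) =
        (f.fiber (f x)).fromSpecResidueField (f.asFiber x) ≫ f.fiberToSpecResidueField (f x) := by
      have e2 := Groth.Agent.VarietyA.StalkBC.fromSpecStalk_comp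
        (R := k) (f.fiberToSpecResidueField (f x)) (f.asFiber x)
      rw [Scheme.fromSpecResidueField, Category.assoc]
      refine Eq.trans ?_ (congrArg (Spec.map ((f.fiber (f x)).residue (f.asFiber x)) ≫ ·) e2).symm
      exact Spec.map_comp _ _
    rw [e1, Spec.map_comp, Spec.map_comp, Category.assoc, Category.assoc, Category.assoc, ← hpb.w]
    have e3 : Spec.map (S.residueFieldCongr (congrArg f (f.fiberι_asFiber x))).inv ≫
        S.fromSpecResidueField (f x) =
        S.fromSpecResidueField (f (f.fiberι (f x) (f.asFiber x))) :=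
      Scheme.residueFieldCongr_fromSpecResidueField (congrArg f (f.fiberι_asFiber x)).symm
    rw [e3, Scheme.Hom.SpecMap_residueFieldMap_fromSpecResidueField,
      Scheme.Hom.SpecMap_residueFieldMap_fromSpecResidueField_assoc]
  have hsurj : Function.Surjective (Curv2.resMap k (f.fiber (f x)) (f.asFiber x)) := by
    have h2 : ∀ x' : X, x' = x → Function.Surjective (f.residueFieldMap x').hom := by
      rintro _ rfl; exact hs
    have h3 : Function.Surjective ((f.fiberι (f x)).residueFieldMap (f.asFiber x)).hom := by
      have h4 := stalkMap_fiberι_surjective f (f x) (f.asFiber x)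
      intro a
      obtain ⟨b, rfl⟩ := IsLocalRing.residue_surjective a
      obtain ⟨c, rfl⟩ := h4 b
      exact ⟨IsLocalRing.residue _ c, rfl⟩
    have h5 := congrArg CommRingCat.Hom.hom key
    have h6 : Curv2.resMap k (f.fiber (f x)) (f.asFiber x) =
      ((f.fiberι (f x)).residueFieldMap (f.asFiber x)).hom.comp
        ((f.residueFieldMap (f.fiberι (f x) (f.asFiber x))).hom.comp
          (S.residueFieldCongr (congrArg f (f.fiberι_asFiber x))).inv.hom) := h5
    rw [h6]
    refine h3.comp ((h2 _ (f.fiberι_asFiber x)).comp ?_)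
    exact (S.residueFieldCongr (congrArg f (f.fiberι_asFiber x))).symm.commRingCatIsoToRingEquiv.surjective
  let _ := Curv2.resAlgebra k (f.fiber (f x)) (f.asFiber x)
  have e4 : k ≃ₐ[k] (f.fiber (f x)).residueField (f.asFiber x) :=
    AlgEquiv.ofBijective (Algebra.ofId _ _)
      ⟨(Curv2.resMap k (f.fiber (f x)) (f.asFiber x)).injective, hsurj⟩
  exact Algebra.FormallySmooth.of_equiv e4

theorem isRegularLocalRing_quotient {R : Type u} [CommRing R] [IsDomain R] [IsDiscreteValuationRing R]
    {X : Scheme.{u}} (f : X ⟶ Spec (CommRingCat.of R)) (x : X) (hx : f x = closedPoint R)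
    (hreg : IsRegularLocalRing (X.presheaf.stalk x)) {ϖ : R} (hϖ : Irreducible ϖ)
    (h : (baseToStalk f x).hom ϖ ∉ maximalIdeal (X.presheaf.stalk x) ^ 2) :
    IsRegularLocalRing (X.presheaf.stalk x ⧸ fibreIdeal f x) := by
  have h1 : fibreIdeal f x = Ideal.span {(baseToStalk f x).hom ϖ} := by
    rw [fibreIdeal_eq, hx]
    change (maximalIdeal R).map _ = _
    rw [hϖ.maximalIdeal_eq, Ideal.map_span, Set.image_singleton]
  rw [h1]
  refine (Groth.Agent.CalgA.RegBasic.quotient_of_notMem_sq _ ?_ h).1
  have h2 := fibreIdeal_le f x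
  rw [h1] at h2
  exact h2 (Ideal.mem_span_singleton_self _)

/-- `X → Spec R` flat and locally of finite presentation over a discrete valuation ring with perfect residue
field, `x` a point of the closed fibre at which `X` is regular and at which a uniformizer of `R` is not in the
square of the maximal ideal: then `X → Spec R` is smooth at `x`. -/
theorem mem_smoothLocus {R : Type u} [CommRing R] [IsDomain R] [IsDiscreteValuationRing R]
    [PerfectField (ResidueField R)] {X : Scheme.{u}} (f : X ⟶ Spec (CommRingCat.of R))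
    [LocallyOfFinitePresentation f] [Flat f] (x : X) (hx : f x = closedPoint R)
    (hreg : IsRegularLocalRing (X.presheaf.stalk x)) {ϖ : R} (hϖ : Irreducible ϖ)
    (h : (baseToStalk f x).hom ϖ ∉ maximalIdeal (X.presheaf.stalk x) ^ 2) : x ∈ f.smoothLocus := by
  have : PerfectField ((Spec (CommRingCat.of R)).residueField (f x)) :=
    perfectField_residueField (f x) hx
  exact mem_smoothLocus_of_fibre f x (isRegularLocalRing_quotient f x hx hreg hϖ h)

/-- a point dominated by a local ring in which the uniformizer stays outside the square of the maximal ideal -/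
theorem notMem_sq_of_dominates {R : Type u} [CommRing R] [IsDomain R] [IsDiscreteValuationRing R]
    {X : Scheme.{u}} (f : X ⟶ Spec (CommRingCat.of R))
    {R' : Type u} [CommRing R'] [IsLocalRing R'] (φ : R →+* R')
    (σ : Spec (CommRingCat.of R') ⟶ X) (hσ : σ ≫ f = Spec.map (CommRingCat.ofHom φ))
    {ϖ : R} (hϖ : Irreducible ϖ) (hm : φ ϖ ∈ maximalIdeal R') (h : φ ϖ ∉ maximalIdeal R' ^ 2) :
    f (σ (closedPoint R')) = closedPoint R ∧ (baseToStalk f (σ (closedPoint R'))).hom ϖ ∉
      maximalIdeal (X.presheaf.stalk (σ (closedPoint R'))) ^ 2 := by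
  have hcomp : baseToStalk f (σ (closedPoint R')) ≫ Scheme.stalkClosedPointTo σ =
      CommRingCat.ofHom φ := by
    apply Spec.map_injective
    rw [Spec.map_comp, map_baseToStalk, Scheme.Spec_stalkClosedPointTo_fromSpecStalk_assoc, hσ]
  have hx : f (σ (closedPoint R')) = closedPoint R := by
    have h1 : f (σ (closedPoint R')) = Spec.map (CommRingCat.ofHom φ) (closedPoint R') :=
      congr($hσ (closedPoint R'))
    rw [h1]
    apply PrimeSpectrum.ext
    symm
    apply (maximalIdeal.isMaximal R).eq_of_le (Ideal.IsPrime.ne_top (PrimeSpectrum.isPrime _))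
    rw [hϖ.maximalIdeal_eq, Ideal.span_singleton_le_iff_mem]
    exact hm
  refine ⟨hx, fun h2 => h ?_⟩
  have h3 : (Scheme.stalkClosedPointTo σ).hom ((baseToStalk f (σ (closedPoint R'))).hom ϖ) = φ ϖ := by
    have := congr(($hcomp).hom ϖ)
    exact this
  rw [← h3]
  have h4 : (maximalIdeal (X.presheaf.stalk (σ (closedPoint R')))).map
      (Scheme.stalkClosedPointTo σ).hom ≤ maximalIdeal R' :=
    ((IsLocalRing.local_hom_TFAE (Scheme.stalkClosedPointTo σ).hom).out 0 2).mp
      (Scheme.isLocalHom_stalkClosedPointTo' σ)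
  have h5 := Ideal.mem_map_of_mem (Scheme.stalkClosedPointTo σ).hom h2
  rw [Ideal.map_pow] at h5
  exact Ideal.pow_right_mono h4 2 h5

/-- a point of a regular scheme, flat over a discrete valuation ring with perfect residue field, which is
dominated by a local ring in which the uniformizer stays outside the square of the maximal ideal, lies in
the smooth locus. -/
theorem closedPoint_mem_smoothLocus {R : Type u} [CommRing R] [IsDomain R] [IsDiscreteValuationRing R]
    [PerfectField (ResidueField R)] {X : Scheme.{u}} (f : X ⟶ Spec (CommRingCat.of R))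
    [LocallyOfFinitePresentation f] [Flat f]
    {R' : Type u} [CommRing R'] [IsLocalRing R'] (φ : R →+* R')
    (σ : Spec (CommRingCat.of R') ⟶ X) (hσ : σ ≫ f = Spec.map (CommRingCat.ofHom φ))
    (hreg : IsRegularLocalRing (X.presheaf.stalk (σ (closedPoint R'))))
    {ϖ : R} (hϖ : Irreducible ϖ) (hm : φ ϖ ∈ maximalIdeal R') (h : φ ϖ ∉ maximalIdeal R' ^ 2) :
    σ (closedPoint R') ∈ f.smoothLocus := by
  obtain ⟨hx, h2⟩ := notMem_sq_of_dominates f φ σ hσ hϖ hm h
  exact mem_smoothLocus f _ hx hreg hϖ h2

/-- every point of the spectrum of a local ring goes to `U` as soon as the closed point does -/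
theorem range_subset_of_closedPoint {X : Scheme.{u}} {R' : Type u} [CommRing R'] [IsLocalRing R']
    (σ : Spec (CommRingCat.of R') ⟶ X) (U : X.Opens) (h : σ (closedPoint R') ∈ U)
    (s : Spec (CommRingCat.of R')) : σ s ∈ U := by
  have h1 : σ ⁻¹ᵁ U = ⊤ := (IsLocalRing.closed_point_mem_iff (U := σ ⁻¹ᵁ U)).mp h
  have h2 : s ∈ σ ⁻¹ᵁ U := by rw [h1]; trivial
  exact h2

theorem exists_lift_smoothLocus {R : Type u} [CommRing R] [IsDomain R] [IsDiscreteValuationRing R]
    [PerfectField (ResidueField R)] {X : Scheme.{u}} (f : X ⟶ Spec (CommRingCat.of R))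
    [LocallyOfFinitePresentation f] [Flat f]
    {R' : Type u} [CommRing R'] [IsLocalRing R'] (φ : R →+* R')
    (σ : Spec (CommRingCat.of R') ⟶ X) (hσ : σ ≫ f = Spec.map (CommRingCat.ofHom φ))
    (hreg : IsRegularLocalRing (X.presheaf.stalk (σ (closedPoint R'))))
    {ϖ : R} (hϖ : Irreducible ϖ) (hm : φ ϖ ∈ maximalIdeal R') (h : φ ϖ ∉ maximalIdeal R' ^ 2) :
    ∃ τ : Spec (CommRingCat.of R') ⟶ f.smoothLocus, τ ≫ f.smoothLocus.ι = σ := by
  refine ⟨IsOpenImmersion.lift f.smoothLocus.ι σ ?_, IsOpenImmersion.lift_fac _ _ _⟩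
  rintro _ ⟨s, rfl⟩
  rw [Scheme.Opens.range_ι]
  exact range_subset_of_closedPoint σ f.smoothLocus
    (closedPoint_mem_smoothLocus f φ σ hσ hreg hϖ hm h) s

/-- The sections of a regular scheme, flat and locally of finite presentation over a discrete valuation ring,
go to the smooth locus. -/
theorem section_mem_smoothLocus (R : Type u) [CommRing R] [IsDomain R] [IsDiscreteValuationRing R]
    {X : Scheme.{u}} (q : X ⟶ Spec (CommRingCat.of R)) [LocallyOfFinitePresentation q] [Flat q]
    (hreg : ∀ x : X, IsRegularLocalRing (X.presheaf.stalk x))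
    (a : Spec (CommRingCat.of R) ⟶ X) (ha : a ≫ q = 𝟙 _) (s : Spec (CommRingCat.of R)) :
    a s ∈ q.smoothLocus := by
  apply range_subset_of_closedPoint
  obtain ⟨ϖ, hϖ⟩ := IsDiscreteValuationRing.exists_irreducible R
  have hm : ϖ ∈ maximalIdeal R := by
    rw [hϖ.maximalIdeal_eq]; exact Ideal.mem_span_singleton_self _
  have hm2 : ϖ ∉ maximalIdeal R ^ 2 := by
    rw [hϖ.maximalIdeal_eq, Ideal.span_singleton_pow, Ideal.mem_span_singleton]
    rintro ⟨c, hc⟩
    have h1 : ϖ * 1 = ϖ * (ϖ * c) := by rw [mul_one, ← mul_assoc, ← pow_two]; exact hc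
    have h2 := mul_left_cancel₀ hϖ.ne_zero h1
    exact hϖ.not_isUnit (IsUnit.of_mul_eq_one c h2.symm)
  obtain ⟨hx, h2⟩ := notMem_sq_of_dominates q (RingHom.id R) a
    (by rw [ha]; exact (Spec.map_id _).symm) hϖ hm hm2
  apply mem_smoothLocus_of_fibre_of_surjective q
  · have h3 : IsIso (a ≫ q) := by rw [ha]; infer_instance
    have h4 : IsIso ((a ≫ q).residueFieldMap (closedPoint R)) := inferInstance
    have h5 : (a ≫ q).residueFieldMap (closedPoint R) = q.residueFieldMap (a (closedPoint R)) ≫
      a.residueFieldMap (closedPoint R) := Scheme.residueFieldMap_comp _ _ _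
    intro y
    have h6 : Function.Surjective ((a ≫ q).residueFieldMap (closedPoint R)).hom :=
      (asIso ((a ≫ q).residueFieldMap (closedPoint R))).commRingCatIsoToRingEquiv.surjective
    obtain ⟨z, hz⟩ := h6 ((a.residueFieldMap (closedPoint R)).hom y)
    have h7 := congr(($h5).hom z)
    exact ⟨z, (a.residueFieldMap (closedPoint R)).hom.injective (h7.symm.trans hz)⟩
  · exact isRegularLocalRing_quotient q _ hx (hreg _) hϖ h2

section Over

open Groth.Agent.Dix.GenFibre

/-- the inclusion of the smooth part -/
noncomputable def smoothPartι (R : Type u) [CommRing R] [IsDomain R]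
    (X : Over (Spec (CommRingCat.of R))) [LocallyOfFinitePresentation X.hom] :
    Neron.smoothPart R X ⟶ X :=
  Over.homMk (X.hom.smoothLocus).ι rfl

theorem smoothPartι_left (R : Type u) [CommRing R] [IsDomain R]
    (X : Over (Spec (CommRingCat.of R))) [LocallyOfFinitePresentation X.hom] :
    (smoothPartι R X).left = (X.hom.smoothLocus).ι := rfl

instance isOpenImmersion_smoothPartι (R : Type u) [CommRing R] [IsDomain R]
    (X : Over (Spec (CommRingCat.of R))) [LocallyOfFinitePresentation X.hom] :
    IsOpenImmersion (smoothPartι R X).left :=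
  inferInstanceAs (IsOpenImmersion (X.hom.smoothLocus).ι)

theorem range_smoothPartι (R : Type u) [CommRing R] [IsDomain R]
    (X : Over (Spec (CommRingCat.of R))) [LocallyOfFinitePresentation X.hom] :
    Set.range (smoothPartι R X).left = X.hom.smoothLocus :=
  Scheme.Opens.range_ι _

instance mono_smoothPartι (R : Type u) [CommRing R] [IsDomain R]
    (X : Over (Spec (CommRingCat.of R))) [LocallyOfFinitePresentation X.hom] :
    Mono (smoothPartι R X) :=
  (Over.forget _).mono_of_mono_map (inferInstanceAs (Mono (smoothPartι R X).left))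

instance smooth_smoothPart (R : Type u) [CommRing R] [IsDomain R]
    (X : Over (Spec (CommRingCat.of R))) [LocallyOfFinitePresentation X.hom] :
    Smooth (Neron.smoothPart R X).hom := by
  change Smooth ((X.hom.smoothLocus).ι ≫ X.hom)
  rw [← Scheme.Hom.smoothLocus_eq_top_iff, ← Scheme.Hom.preimage_smoothLocus_eq]
  exact Scheme.Opens.ι_preimage_self _

/-- a morphism with image in the smooth locus factors through the smooth part -/
theorem exists_lift_smoothPart (R : Type u) [CommRing R] [IsDomain R]
    {X Y : Over (Spec (CommRingCat.of R))} [LocallyOfFinitePresentation X.hom]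
    (g : Y ⟶ X) (h : ∀ y : Y.left, g.left y ∈ X.hom.smoothLocus) :
    ∃ t : Y ⟶ Neron.smoothPart R X, t ≫ smoothPartι R X = g := by
  have h1 : Set.range g.left ⊆ Set.range (smoothPartι R X).left := by
    rw [range_smoothPartι]
    rintro _ ⟨y, rfl⟩
    exact h y
  refine ⟨Over.homMk (IsOpenImmersion.lift (smoothPartι R X).left g.left h1) ?_, ?_⟩
  · rw [← Over.w (smoothPartι R X), IsOpenImmersion.lift_fac_assoc]
    exact Over.w g
  · ext1
    exact IsOpenImmersion.lift_fac _ _ _

/-- The sections of a regular flat model factor uniquely through its smooth part. -/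
theorem existsUnique_section_lift (R : Type u) [CommRing R] [IsDomain R] [IsDiscreteValuationRing R]
    (X : Over (Spec (CommRingCat.of R))) [LocallyOfFinitePresentation X.hom] [Flat X.hom]
    (hreg : ∀ x : X.left, IsRegularLocalRing (X.left.presheaf.stalk x))
    (s : Over.mk (𝟙 (Spec (CommRingCat.of R))) ⟶ X) :
    ∃! t : Over.mk (𝟙 (Spec (CommRingCat.of R))) ⟶ Neron.smoothPart R X, t ≫ smoothPartι R X = s := by
  obtain ⟨t, ht⟩ := exists_lift_smoothPart R s
    (section_mem_smoothLocus R X.hom hreg s.left (Over.w s))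
  exact ⟨t, ht, fun t' ht' => (cancel_mono (smoothPartι R X)).mp (ht'.trans ht.symm)⟩

/-- Morphisms of generic fibres are base changes. -/
theorem isPullback_genericFibre_map {R : Type u} [CommRing R] [IsDomain R]
    {X Y : Over (Spec (CommRingCat.of R))} (g : X ⟶ Y) :
    IsPullback ((Neron.genericFibre R).map g).left (genι X) (genι Y) g.left := by
  refine IsPullback.of_right (h₁₂ := ((Neron.genericFibre R).obj Y).hom) (h₂₂ := Y.hom)
    (v₁₃ := Neron.genPt R) ?_ (genι_naturality g) (isPullback_genι Y).flip
  have h1 := (isPullback_genι X).flip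
  rw [← Over.w g, ← Over.w ((Neron.genericFibre R).map g)] at h1
  exact h1

/-- The points of `X_K` are smooth iff their images in `X` are. -/
theorem genι_mem_smoothLocus_iff {R : Type u} [CommRing R] [IsDomain R]
    (X : Over (Spec (CommRingCat.of R))) [LocallyOfFinitePresentation X.hom]
    (z : ((Neron.genericFibre R).obj X).left) :
    haveI : LocallyOfFinitePresentation ((Neron.genericFibre R).obj X).hom :=
      MorphismProperty.of_isPullback (isPullback_genι X) inferInstance
    genι X z ∈ X.hom.smoothLocus ↔ z ∈ ((Neron.genericFibre R).obj X).hom.smoothLocus := by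
  have : LocallyOfFinitePresentation ((Neron.genericFibre R).obj X).hom :=
    MorphismProperty.of_isPullback (isPullback_genι X) inferInstance
  exact (Groth.Agent.Smoothlim.SmoothLocusBC.mem_smoothLocus_iff_of_isPullback
    (isPullback_genι X) z (Or.inr inferInstance)).symm

/-- If the generic fibre of `X` is smooth, it is also the generic fibre of the smooth part. -/
theorem isIso_genericFibre_ι (R : Type u) [CommRing R] [IsDomain R]
    (X : Over (Spec (CommRingCat.of R))) [LocallyOfFinitePresentation X.hom]
    [Smooth ((Neron.genericFibre R).obj X).hom] :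
    IsIso ((Neron.genericFibre R).map (smoothPartι R X)) := by
  have hpb := isPullback_genericFibre_map (smoothPartι R X)
  have h1 : IsOpenImmersion ((Neron.genericFibre R).map (smoothPartι R X)).left :=
    MorphismProperty.of_isPullback hpb.flip inferInstance
  have h2 : Surjective ((Neron.genericFibre R).map (smoothPartι R X)).left := by
    refine ⟨fun z => ?_⟩
    have h3 : genι X z ∈ X.hom.smoothLocus := by
      rw [genι_mem_smoothLocus_iff]
      rw [Scheme.Hom.smoothLocus_eq_top]; trivial
    obtain ⟨w, hw⟩ : genι X z ∈ Set.range (smoothPartι R X).left := by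
      rw [range_smoothPartι]; exact h3
    obtain ⟨v, hv, -⟩ := Scheme.exists_preimage_of_isPullback hpb z w hw.symm
    exact ⟨v, hv⟩
  have h3 : IsIso ((Neron.genericFibre R).map (smoothPartι R X)).left :=
    (isIso_iff_isOpenImmersion_and_surjective _).mpr ⟨h1, h2⟩
  exact @isIso_of_reflects_iso _ _ _ _ _ _ _ (Over.forget _) h3 _

end Over

end Groth.Agent.Dix.NeronEllA
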