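import Groth.Agent.Dix.NeronEllA

/-!
# Sections of a regular flat scheme over a discrete valuation ring go to the smooth locus
-/

set_option autoImplicit false

universe u

open CategoryTheory CategoryTheory.Limits AlgebraicGeometry

namespace Groth.Agent.Dix.NeronEllSec

theorem section_mem_smoothLocus (R : Type u) [CommRing R] [IsDomain R] [IsDiscreteValuationRing R]
    {X : Scheme.{u}} (q : X ⟶ Spec (CommRingCat.of R)) [LocallyOfFinitePresentation q] [Flat q]
    (hreg : ∀ x : X, IsRegularLocalRing (X.presheaf.stalk x))
    (a : Spec (CommRingCat.of R) ⟶ X) (ha : a ≫ q = 𝟙 _) (s : Spec (CommRingCat.of R)) :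
    a s ∈ q.smoothLocus :=
  Groth.Agent.Dix.NeronEllA.section_mem_smoothLocus R q hreg a ha s

end Groth.Agent.Dix.NeronEllSec
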