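import Groth.Agent.Dix.QFSurfaceAlg
import Groth.Agent.Dix.SmoothFibrePrime

/-!
# Birational morphisms from a smooth proper surface over a Dedekind domain contract nothing

`X → Spec R` smooth proper, `X` integral of dimension at most two, `g : X → Y` a closed birational
morphism over `R` to an integral scheme; then there is no proper specialization inside a fibre of `g`
over a point lying over a closed point of `Spec R`.
-/

set_option autoImplicit false
universe u

open CategoryTheory CategoryTheory.Limits AlgebraicGeometry

namespace Groth.Agent.Dix.QFSurface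

open Groth.Agent.Dix.ValCenter Groth.Agent.Dix.SmoothFibrePrime Groth.Agent.Dix.QFSurfaceAlg

/-- The pull-back to `O_{X,e}` of an element of `O_{Y,g x}` for `x ⤳ e` with `g e ⤳ g x`. -/
theorem stalkSpecializes_stalkMap_lift {X Y : Scheme.{u}} (g : X ⟶ Y) {x e : X} (h : x ⤳ e)
    (h' : g e ⤳ g x) (f : Y.presheaf.stalk (g x)) :
    (X.presheaf.stalkSpecializes h).hom
      ((g.stalkMap e).hom ((Y.presheaf.stalkSpecializes h').hom f)) = (g.stalkMap x).hom f := by
  have h1 := Scheme.Hom.stalkSpecializes_stalkMap g x e h
  have h2 : Y.presheaf.stalkSpecializes h' ≫ g.stalkMap e ≫ X.presheaf.stalkSpecializes h =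
      g.stalkMap x := by
    rw [← h1, ← Category.assoc, TopCat.Presheaf.stalkSpecializes_comp,
      TopCat.Presheaf.stalkSpecializes_refl, Category.id_comp]
  exact congr($h2 f)

theorem eq_of_specializes_of_eq {R : CommRingCat.{u}} [IsDedekindDomain R] {X Y : Scheme.{u}}
    (p : X ⟶ Spec R) [IsProper p] [Smooth p] [IsIntegral X] [IsIntegral Y] [IsLocallyNoetherian X]
    (hdim : topologicalKrullDim X ≤ 2) (g : X ⟶ Y) (q : Y ⟶ Spec R) (hgq : g ≫ q = p)
    (hg : IsClosedMap g) (hgen : g (genericPoint X) = genericPoint Y)
    (hbir : IsIso (g.stalkMap (genericPoint X))) (hη : (p (genericPoint X)).asIdeal = ⊥)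
    {x x' : X} (h : x' ⤳ x) (hs0 : (p x).asIdeal ≠ ⊥) (hxx' : g x' = g x) : x' = x := by
  by_contra hne
  have hpg : ∀ z : X, p z = q (g z) := fun z => by rw [← hgq]; rfl
  have hpx' : p x' = p x := by rw [hpg, hpg, hxx']
  have hmax : (p x).asIdeal.IsMaximal := (p x).isPrime.isMaximal hs0
  have hηspec : ∀ z : X, genericPoint X ⤳ z := fun z => (genericPoint_spec X).specializes trivial
  have hηne : ∀ z : X, p z = p x → genericPoint X ≠ z := by
    rintro z hz rfl
    exact hs0 (by rw [← hz]; exact hη)
  -- `x` is a closed point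
  have hxcl : ∀ w, x ⤳ w → w = x := by
    intro w hw
    by_contra hwne
    exact false_of_chain hdim (hηspec x') h hw (hηne x' hpx') hne (fun h => hwne h.symm)
  have hxclosed : IsClosed ({x} : Set X) := by
    rw [← closure_eq_iff_isClosed]
    apply Set.Subset.antisymm
    · intro w hw
      exact hxcl w (specializes_iff_mem_closure.mpr hw)
    · exact subset_closure
  have hyclosed : IsClosed ({g x} : Set Y) := by
    have := hg _ hxclosed
    rwa [Set.image_singleton] at this
  -- all specializations of `x'` map to `g x`
  have hspec : ∀ e, x' ⤳ e → g e = g x := by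
    intro e he
    have h1 : g x' ⤳ g e := he.map g.continuous
    rw [hxx'] at h1
    have h2 : g e ∈ closure ({g x} : Set Y) := specializes_iff_mem_closure.mp h1
    rwa [hyclosed.closure_eq] at h2
  have hpspec : ∀ e, x' ⤳ e → p e = p x := by
    intro e he
    rw [hpg, hpg, hspec e he]
  -- `x'` is minimal in its fibre
  have hmin : ∀ w, w ⤳ x' → p w = p x → w = x' := by
    intro w hw hpw
    by_contra hwne
    exact false_of_chain hdim (hηspec w) hw h (hηne w hpw) hwne hne
  -- the ideal of the closed point of the base
  let s : Ideal R := (p x).asIdeal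
  have hsprime : s.IsPrime := (p x).isPrime
  have hsmap : ∀ e, x' ⤳ e → (s.map (baseToStalk p e).hom).IsPrime := by
    intro e he
    have h1 := isPrime_map_baseToStalk p e (by rw [hpspec e he]; exact hmax)
    rwa [hpspec e he] at h1
  -- `s` generates the maximal ideal of the local ring at `x'`
  have hsB : s.map (baseToStalk p x').hom = IsLocalRing.maximalIdeal (X.presheaf.stalk x') := by
    have hprime := hsmap x' specializes_rfl
    let P : PrimeSpectrum (X.presheaf.stalk x') := ⟨_, hprime⟩
    let w : X := X.fromSpecStalk x' P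
    have hw : w ⤳ x' := by
      have : w ∈ Set.range (X.fromSpecStalk x') := ⟨P, rfl⟩
      rwa [Scheme.range_fromSpecStalk] at this
    have hpw : p w = p x := by
      have h1 : p w = Spec.map (baseToStalk p x') P := by
        rw [map_baseToStalk]; rfl
      have h2 : s ≤ (Spec.map (baseToStalk p x') P).asIdeal := by
        change s ≤ Ideal.comap (baseToStalk p x').hom (s.map (baseToStalk p x').hom)
        exact Ideal.le_comap_map
      rw [h1]
      apply PrimeSpectrum.ext
      exact (hmax.eq_of_le (Spec.map (baseToStalk p x') P).isPrime.ne_top h2).symm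
    have hwx := hmin w hw hpw
    have hinj : Function.Injective (X.fromSpecStalk x') := (X.fromSpecStalk x').isEmbedding.injective
    have hP : P = IsLocalRing.closedPoint (X.presheaf.stalk x') := by
      apply hinj
      exact hwx.trans (Scheme.fromSpecStalk_closedPoint (X := X) (x := x')).symm
    exact congrArg PrimeSpectrum.asIdeal hP
  obtain ⟨π, hπs, hπ⟩ := exists_local_generator R s hs0
  -- `π` generates `s` in the local rings
  have hgen' : ∀ e, x' ⤳ e → s.map (baseToStalk p e).hom = Ideal.span {(baseToStalk p e).hom π} := by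
    intro e he
    apply le_antisymm
    · rw [Ideal.map_le_iff_le_comap]
      intro t ht
      obtain ⟨r, hr, c, hc⟩ := hπ t ht
      have hru : IsUnit ((baseToStalk p e).hom r) := by
        by_contra hcon
        have h1 : (baseToStalk p e).hom r ∈ IsLocalRing.maximalIdeal (X.presheaf.stalk e) :=
          (IsLocalRing.mem_maximalIdeal _).mpr hcon
        apply hr
        have h2 := comap_baseToStalk_maximalIdeal p e
        rw [hpspec e he] at h2
        change r ∈ (p x).asIdeal
        rw [← h2]
        exact h1
      rw [Ideal.mem_comap, ← Ideal.unit_mul_mem_iff_mem _ hru, ← map_mul, hc, map_mul]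
      exact Ideal.mul_mem_right _ _ (Ideal.mem_span_singleton_self _)
    · rw [Ideal.span_singleton_le_iff_mem]
      exact Ideal.mem_map_of_mem _ hπs
  -- the base injects in the local rings
  have hinjbase : ∀ e, Function.Injective (baseToStalk p e).hom := by
    intro e
    rw [injective_iff_map_eq_zero]
    intro r hr
    have h1 := baseToStalk_stalkSpecializes p (hηspec e)
    have h2 : (baseToStalk p (genericPoint X)).hom r = 0 := by
      rw [← h1]
      change (X.presheaf.stalkSpecializes _).hom ((baseToStalk p e).hom r) = 0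
      rw [hr, map_zero]
    have h3 := comap_baseToStalk_maximalIdeal p (genericPoint X)
    rw [hη] at h3
    have h4 : r ∈ (⊥ : Ideal R) := by
      rw [← h3, Ideal.mem_comap, h2]
      exact zero_mem _
    exact h4
  have hπ0 : π ≠ 0 := by
    rintro rfl
    apply hs0
    rw [eq_bot_iff]
    intro t ht
    obtain ⟨r, hr, c, hc⟩ := hπ t ht
    rw [zero_mul] at hc
    rcases mul_eq_zero.mp hc with h1 | h1
    · exact absurd (h1 ▸ s.zero_mem) hr
    · exact h1
  have hπprime : ∀ e, x' ⤳ e → Prime ((baseToStalk p e).hom π) := by
    intro e he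
    have h1 := hsmap e he
    rw [hgen' e he, Ideal.span_singleton_prime] at h1
    · exact h1
    · rw [← map_zero (baseToStalk p e).hom]
      exact fun h => hπ0 (hinjbase e h)
  have hmaxB : IsLocalRing.maximalIdeal (X.presheaf.stalk x') =
      Ideal.span {(baseToStalk p x').hom π} := by
    rw [← hsB, hgen' x' specializes_rfl]
  -- key integrality claim
  have key : ∀ (f : Y.presheaf.stalk (g x')) (i : ℕ) (w : X.presheaf.stalk x'), IsUnit w →
      (g.stalkMap x').hom f = (baseToStalk p x').hom π ^ i * w →
      (baseToResidue p x').hom.IsIntegralElem ((X.residue x').hom w) := by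
    intro f i w hw hf
    apply isIntegralElem_of_forall_specializes
    intro e he
    have he' : g e ⤳ g x' := by
      rw [hspec e he, hxx']
    have h1 := stalkSpecializes_stalkMap_lift g he he' f
    have hbs : (X.presheaf.stalkSpecializes he).hom ((baseToStalk p e).hom π) =
        (baseToStalk p x').hom π := by
      rw [← baseToStalk_stalkSpecializes p he]
      rfl
    have hCdom : IsNoetherianRing (X.presheaf.stalk e) := inferInstance
    obtain ⟨c, hc⟩ := exists_preimage_of_eq_pow_mul_unit (X.presheaf.stalkSpecializes he).hom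
      (stalkSpecializes_injective he) (stalkSpecializes_surj he) ((baseToStalk p e).hom π)
      (hπprime e he) (by rw [hbs]; exact hmaxB)
      ((g.stalkMap e).hom ((Y.presheaf.stalkSpecializes he').hom f)) i w hw
      (by rw [h1, hbs]; exact hf)
    exact ⟨c, congrArg _ hc⟩
  -- the residue field at `x'` is an algebraic extension of `k := R / s`
  let _ : Field (R ⧸ s) := Ideal.Quotient.field s
  have hsker : ∀ r ∈ s, (baseToResidue p x').hom r = 0 := by
    intro r hr
    rw [← baseToStalk_residue]
    change (X.residue x').hom ((baseToStalk p x').hom r) = 0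
    have : (baseToStalk p x').hom r ∈ IsLocalRing.maximalIdeal (X.presheaf.stalk x') := by
      rw [← hsB]; exact Ideal.mem_map_of_mem _ hr
    exact (IsLocalRing.residue_eq_zero_iff _).mpr this
  let j : R ⧸ s →+* X.residueField x' := Ideal.Quotient.lift s (baseToResidue p x').hom hsker
  let _ : Algebra (R ⧸ s) (X.residueField x') := j.toAlgebra
  have hint : ∀ z : X.residueField x', (baseToResidue p x').hom.IsIntegralElem z →
      IsIntegral (R ⧸ s) z := by
    rintro z ⟨P, hP, hPz⟩
    refine ⟨P.map (Ideal.Quotient.mk s), hP.map _, ?_⟩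
    rw [Polynomial.eval₂_map]
    exact hPz
  have halg : ∀ z : X.residueField x', IsIntegral (R ⧸ s) z := by
    intro z
    obtain ⟨b, rfl⟩ := Ideal.Quotient.mk_surjective z
    change IsIntegral (R ⧸ s) ((X.residue x').hom b)
    by_cases hb : IsUnit b
    swap
    · have : (X.residue x').hom b = 0 :=
        (IsLocalRing.residue_eq_zero_iff _).mpr ((IsLocalRing.mem_maximalIdeal _).mpr hb)
      rw [this]
      exact isIntegral_zero
    -- write `b` as a fraction of elements of the local ring of `Y`
    obtain ⟨a₁, a₂, ha₁, ha₂⟩ : ∃ a₁ a₂ : Y.presheaf.stalk (g x'), (g.stalkMap x').hom a₁ ≠ 0 ∧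
        b * (g.stalkMap x').hom a₁ = (g.stalkMap x').hom a₂ := by
      let bη := (X.presheaf.stalkSpecializes (hηspec x')).hom b
      let t := (inv (g.stalkMap (genericPoint X))).hom bη
      have ht : (g.stalkMap (genericPoint X)).hom t = bη := by
        have := congr($(IsIso.inv_hom_id (g.stalkMap (genericPoint X))) bη)
        exact this
      have hY : g (genericPoint X) ⤳ g x' := (hηspec x').map g.continuous
      obtain ⟨a₁, a₂, h1, h2⟩ := exists_fraction hgen hY t
      have hnat : ∀ a : Y.presheaf.stalk (g x'),
          (g.stalkMap (genericPoint X)).hom ((Y.presheaf.stalkSpecializes hY).hom a) =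
          (X.presheaf.stalkSpecializes (hηspec x')).hom ((g.stalkMap x').hom a) := fun a =>
        Scheme.Hom.stalkSpecializes_stalkMap_apply g _ _ (hηspec x') a
      have hinjg : Function.Injective (g.stalkMap (genericPoint X)).hom :=
        ((ConcreteCategory.isIso_iff_bijective _).mp hbir).1
      refine ⟨a₁, a₂, ?_, ?_⟩
      · intro h3
        apply h1
        apply stalkSpecializes_injective hY
        apply hinjg
        rw [hnat, h3]
        simp
      · apply stalkSpecializes_injective (hηspec x')
        rw [map_mul, ← hnat, ← hnat, ← h2, map_mul, ht]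
    have ha₂' : (g.stalkMap x').hom a₂ ≠ 0 := by
      rw [← ha₂]
      exact mul_ne_zero hb.ne_zero ha₁
    obtain ⟨i₁, w₁, hw₁, e₁⟩ := exists_eq_pow_mul_unit ((baseToStalk p x').hom π) hmaxB _ ha₁
    obtain ⟨i₂, w₂, hw₂, e₂⟩ := exists_eq_pow_mul_unit ((baseToStalk p x').hom π) hmaxB _ ha₂'
    have k₁ := hint _ (key a₁ i₁ w₁ hw₁ e₁)
    -- `b * w₁` has the same form
    have e₃ : (g.stalkMap x').hom a₂ = (baseToStalk p x').hom π ^ i₁ * (b * w₁) := by
      rw [← ha₂, e₁]; ring
    have k₂ := hint _ (key a₂ i₁ (b * w₁) (hb.mul hw₁) e₃)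
    have hw₁0 : (X.residue x').hom w₁ ≠ 0 := (hw₁.map (X.residue x').hom).ne_zero
    have : (X.residue x').hom b = (X.residue x').hom (b * w₁) * ((X.residue x').hom w₁)⁻¹ := by
      rw [map_mul, mul_assoc, mul_inv_cancel₀ hw₁0, mul_one]
    rw [this]
    exact k₂.mul k₁.inv
  -- hence the local ring at `x` maps locally to the one at `x'`
  let χ : X.presheaf.stalk x →+* X.residueField x' :=
    (X.residue x').hom.comp (X.presheaf.stalkSpecializes h).hom
  have hχ : ∀ r : R, χ ((baseToStalk p x).hom r) = (baseToResidue p x').hom r := by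
    intro r
    rw [← baseToStalk_residue, ← baseToStalk_stalkSpecializes p h]
    rfl
  have hlocal : ∀ c : X.presheaf.stalk x, c ∈ IsLocalRing.maximalIdeal (X.presheaf.stalk x) →
      (X.presheaf.stalkSpecializes h).hom c ∈ IsLocalRing.maximalIdeal (X.presheaf.stalk x') := by
    intro c hc
    by_contra hcon
    have hz0 : χ c ≠ 0 := fun h0 => hcon ((IsLocalRing.residue_eq_zero_iff _).mp h0)
    have hz := (halg (χ c)).inv_mem_adjoin
    let D : Subalgebra (R ⧸ s) (X.residueField x') :=
      { χ.range with
        algebraMap_mem' := by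
          intro r
          obtain ⟨r, rfl⟩ := Ideal.Quotient.mk_surjective r
          exact ⟨(baseToStalk p x).hom r, hχ r⟩ }
    have hD : Algebra.adjoin (R ⧸ s) {χ c} ≤ D :=
      Algebra.adjoin_le (Set.singleton_subset_iff.mpr ⟨c, rfl⟩)
    obtain ⟨d, hd⟩ := hD hz
    have hd' : χ d = (χ c)⁻¹ := hd
    have h1 : χ (c * d - 1) = 0 := by
      rw [map_sub, map_mul, hd', mul_inv_cancel₀ hz0, map_one, sub_self]
    have h2 : IsUnit (c * d - 1) := by
      by_contra hnu
      have h3 : c * d - 1 ∈ IsLocalRing.maximalIdeal (X.presheaf.stalk x) :=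
        (IsLocalRing.mem_maximalIdeal _).mpr hnu
      have h4 : c * d ∈ IsLocalRing.maximalIdeal (X.presheaf.stalk x) :=
        Ideal.mul_mem_right _ _ hc
      have h5 : (1 : X.presheaf.stalk x) ∈ IsLocalRing.maximalIdeal (X.presheaf.stalk x) := by
        have h6 := Ideal.sub_mem _ h4 h3
        rwa [sub_sub_cancel] at h6
      exact (IsLocalRing.mem_maximalIdeal _).mp h5 isUnit_one
    exact (h2.map χ).ne_zero h1
  apply hne
  -- conclude
  have hcp : Spec.map (X.presheaf.stalkSpecializes h)
      (IsLocalRing.closedPoint (X.presheaf.stalk x')) =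
        IsLocalRing.closedPoint (X.presheaf.stalk x) := by
    apply PrimeSpectrum.ext
    change Ideal.comap (X.presheaf.stalkSpecializes h).hom
      (IsLocalRing.maximalIdeal (X.presheaf.stalk x')) = IsLocalRing.maximalIdeal _
    symm
    refine (IsLocalRing.maximalIdeal.isMaximal _).eq_of_le ?_ (fun c hc => hlocal c hc)
    exact (Ideal.IsPrime.comap _).ne_top
  have h1 : X.fromSpecStalk x (Spec.map (X.presheaf.stalkSpecializes h)
      (IsLocalRing.closedPoint (X.presheaf.stalk x'))) = x' := by
    have h2 := Scheme.SpecMap_stalkSpecializes_fromSpecStalk h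
    have h3 : (Spec.map (X.presheaf.stalkSpecializes h) ≫ X.fromSpecStalk x)
      (IsLocalRing.closedPoint (X.presheaf.stalk x')) = x' := by
      rw [h2]
      exact Scheme.fromSpecStalk_closedPoint
    exact h3
  rw [← h1, hcp]
  exact Scheme.fromSpecStalk_closedPoint

end Groth.Agent.Dix.QFSurface
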