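import Mathlib.AlgebraicGeometry.FunctionField
import Mathlib.RingTheory.DedekindDomain.PID
import Mathlib.RingTheory.DedekindDomain.Basic
import Mathlib.RingTheory.UniqueFactorizationDomain.Multiplicity
import Mathlib.Topology.KrullDimension

/-!
# Algebraic and topological preliminaries for morphisms of arithmetic surfaces
-/

set_option autoImplicit false
universe u

open CategoryTheory CategoryTheory.Limits AlgebraicGeometry

namespace Groth.Agent.Dix.QFSurfaceAlg

section Top

open TopologicalSpace

/-- In a `T0` space of Krull dimension at most two there is no chain of four distinct points. -/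
theorem false_of_chain {X : Type*} [TopologicalSpace X] [T0Space X]
    (hdim : topologicalKrullDim X ≤ 2) {a b c d : X} (hab : a ⤳ b) (hbc : b ⤳ c) (hcd : c ⤳ d)
    (nab : a ≠ b) (nbc : b ≠ c) (ncd : c ≠ d) : False := by
  let Z : X → IrreducibleCloseds X := fun x => ⟨closure {x}, isIrreducible_singleton.closure, isClosed_closure⟩
  have hlt : ∀ {x y : X}, x ⤳ y → x ≠ y → Z y < Z x := by
    intro x y h hne
    refine lt_of_le_of_ne ?_ ?_
    · exact h.closure_subset
    · intro he
      have he' : closure {y} = closure {x} := congrArg (fun z : IrreducibleCloseds X => (z : Set X)) he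
      exact hne (inseparable_iff_closure_eq.mpr he').eq.symm
  let q : LTSeries (IrreducibleCloseds X) :=
    { length := 3
      toFun := ![Z d, Z c, Z b, Z a]
      step := by
        intro i
        fin_cases i
        · exact hlt hcd ncd
        · exact hlt hbc nbc
        · exact hlt hab nab }
  have h1 := Order.LTSeries.length_le_krullDim q
  have h2 : ((3 : ℕ) : WithBot ℕ∞) ≤ 2 := h1.trans hdim
  have h3 : (3 : ℕ) ≤ 2 := by exact_mod_cast h2
  omega

end Top

section Alg

/-- In a Noetherian local domain with principal nonzero maximal ideal every nonzero element is a power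
of the generator times a unit. -/
theorem exists_eq_pow_mul_unit {B : Type*} [CommRing B] [IsDomain B] [IsLocalRing B]
    [IsNoetherianRing B] (ϖ : B) (hmax : IsLocalRing.maximalIdeal B = Ideal.span {ϖ})
    (b : B) (hb : b ≠ 0) : ∃ (n : ℕ) (u : B), IsUnit u ∧ b = ϖ ^ n * u := by
  have hnu : ¬ IsUnit ϖ := by
    have : ϖ ∈ IsLocalRing.maximalIdeal B := by rw [hmax]; exact Ideal.mem_span_singleton_self _
    exact (IsLocalRing.mem_maximalIdeal _).mp this
  obtain ⟨n, c, hc, hbc⟩ := WfDvdMonoid.max_power_factor' hb hnu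
  refine ⟨n, c, ?_, hbc⟩
  by_contra hcu
  have : c ∈ IsLocalRing.maximalIdeal B := (IsLocalRing.mem_maximalIdeal _).mpr hcu
  rw [hmax, Ideal.mem_span_singleton] at this
  exact hc this

/-- Lifting units: `C → B` an injective localization-like map, `π` a prime of `C` generating the
maximal ideal of `B`; if `ψ f = ψ π ^ i * u` with `u` a unit, then `u` lies in the image of `C`. -/
theorem exists_preimage_of_eq_pow_mul_unit {C B : Type*} [CommRing C] [IsDomain C]
    [IsNoetherianRing C] [CommRing B] [IsDomain B] [IsLocalRing B] (ψ : C →+* B)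
    (hinj : Function.Injective ψ) (hsurj : ∀ b, ∃ a t, IsUnit (ψ t) ∧ b * ψ t = ψ a)
    (π : C) (hπ : Prime π) (hmax : IsLocalRing.maximalIdeal B = Ideal.span {ψ π})
    (f : C) (i : ℕ) (u : B) (hu : IsUnit u) (hf : ψ f = ψ π ^ i * u) : ∃ c : C, ψ c = u := by
  have hπB : ¬ IsUnit (ψ π) := by
    have : ψ π ∈ IsLocalRing.maximalIdeal B := by rw [hmax]; exact Ideal.mem_span_singleton_self _
    exact (IsLocalRing.mem_maximalIdeal _).mp this
  have hπ0 : ψ π ≠ 0 := by
    rw [← map_zero ψ]
    exact fun h => hπ.ne_zero (hinj h)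
  have hunit : ∀ c : C, ¬ π ∣ c → IsUnit (ψ c) := by
    intro c hc
    by_contra hcu
    have h1 : ψ c ∈ IsLocalRing.maximalIdeal B := (IsLocalRing.mem_maximalIdeal _).mpr hcu
    rw [hmax, Ideal.mem_span_singleton] at h1
    obtain ⟨b, hb⟩ := h1
    obtain ⟨a, t, ht, hat⟩ := hsurj b
    have h2 : ψ (c * t) = ψ (π * a) := by
      rw [map_mul, map_mul, hb, ← hat, mul_assoc]
    have h3 := hinj h2
    have h4 : π ∣ c * t := ⟨a, h3⟩
    rcases hπ.dvd_or_dvd h4 with h5 | h5
    · exact hc h5
    · obtain ⟨d, rfl⟩ := h5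
      rw [map_mul] at ht
      exact hπB (isUnit_of_mul_isUnit_left ht)
  have hf0 : f ≠ 0 := by
    rintro rfl
    rw [map_zero] at hf
    exact (mul_ne_zero (pow_ne_zero i hπ0) hu.ne_zero) hf.symm
  obtain ⟨n, c, hc, hfc⟩ := WfDvdMonoid.max_power_factor' hf0 hπ.not_isUnit
  have hcu := hunit c hc
  rw [hfc, map_mul, map_pow] at hf
  refine ⟨c, ?_⟩
  rcases lt_trichotomy n i with hlt | heq | hgt
  · exfalso
    obtain ⟨k, rfl⟩ := Nat.exists_eq_add_of_lt hlt
    rw [show n + k + 1 = n + (k + 1) by ring, pow_add, mul_assoc] at hf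
    have := mul_left_cancel₀ (pow_ne_zero n hπ0) hf
    rw [this, pow_succ', mul_assoc] at hcu
    exact hπB (isUnit_of_mul_isUnit_left hcu)
  · subst heq
    exact mul_left_cancel₀ (pow_ne_zero n hπ0) hf
  · exfalso
    obtain ⟨k, rfl⟩ := Nat.exists_eq_add_of_lt hgt
    rw [show i + k + 1 = i + (k + 1) by ring, pow_add, mul_assoc] at hf
    have := mul_left_cancel₀ (pow_ne_zero i hπ0) hf
    rw [← this, pow_succ', mul_assoc] at hu
    exact hπB (isUnit_of_mul_isUnit_left hu)

/-- A nonzero prime of a Dedekind domain is locally generated by one element. -/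
theorem exists_local_generator (R : Type*) [CommRing R] [IsDedekindDomain R]
    (s : Ideal R) [hs : s.IsPrime] (h0 : s ≠ ⊥) :
    ∃ π ∈ s, ∀ t ∈ s, ∃ r, r ∉ s ∧ ∃ c, r * t = π * c := by
  have hdvr := IsLocalization.AtPrime.isDiscreteValuationRing_of_dedekind_domain R h0
    (Localization.AtPrime s)
  obtain ⟨ϖ, hϖ⟩ := (IsPrincipalIdealRing.principal
    (IsLocalRing.maximalIdeal (Localization.AtPrime s))).principal
  obtain ⟨⟨a, t⟩, hat⟩ := IsLocalization.surj s.primeCompl ϖ
  have hat' : ϖ * algebraMap R (Localization.AtPrime s) t = algebraMap R _ a := hat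
  have ht : IsUnit (algebraMap R (Localization.AtPrime s) t) := IsLocalization.map_units _ t
  have hmem : ∀ x : R, algebraMap R (Localization.AtPrime s) x ∈
      IsLocalRing.maximalIdeal (Localization.AtPrime s) ↔ x ∈ s := fun x =>
    IsLocalization.AtPrime.to_map_mem_maximal_iff (Localization.AtPrime s) s x
  refine ⟨a, ?_, ?_⟩
  · rw [← hmem, ← hat', hϖ]
    exact Ideal.mul_mem_right _ _ (Submodule.mem_span_singleton_self ϖ)
  · intro x hx
    rw [← hmem, hϖ] at hx
    obtain ⟨y, hy⟩ := Submodule.mem_span_singleton.mp hx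
    obtain ⟨⟨b, r⟩, hbr⟩ := IsLocalization.surj s.primeCompl y
    have hbr' : y * algebraMap R (Localization.AtPrime s) r = algebraMap R _ b := hbr
    have h1 : algebraMap R (Localization.AtPrime s) (r * t * x) =
        algebraMap R (Localization.AtPrime s) (a * b) := by
      rw [map_mul, map_mul, map_mul, ← hat', ← hbr', ← hy, smul_eq_mul]
      ring
    obtain ⟨w, hw⟩ := (IsLocalization.eq_iff_exists s.primeCompl _).mp h1
    refine ⟨w * (r * t), ?_, w * b, ?_⟩
    · exact (w * (r * t)).2
    · have := hw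
      rw [mul_assoc, this]
      ring

end Alg

section Stalk

/-- Generization maps of stalks on an integral scheme are injective. -/
theorem stalkSpecializes_injective {X : Scheme.{u}} [IsIntegral X] {x y : X} (h : x ⤳ y) :
    Function.Injective (X.presheaf.stalkSpecializes h).hom := by
  have h1 : Function.Injective (algebraMap (X.presheaf.stalk y) X.functionField) :=
    IsFractionRing.injective _ _
  have h2 : algebraMap (X.presheaf.stalk y) X.functionField =
      (algebraMap (X.presheaf.stalk x) X.functionField).comp (X.presheaf.stalkSpecializes h).hom := by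
    change (X.presheaf.stalkSpecializes _).hom = _
    rw [← X.presheaf.stalkSpecializes_comp (h := (genericPoint_spec X).specializes trivial) (h' := h)]
    rfl
  rw [h2] at h1
  exact Function.Injective.of_comp h1

/-- Every element of the stalk at a generization is a fraction. -/
theorem stalkSpecializes_surj {X : Scheme.{u}} {x y : X} (h : x ⤳ y) (b : X.presheaf.stalk x) :
    ∃ a t : X.presheaf.stalk y, IsUnit ((X.presheaf.stalkSpecializes h).hom t) ∧
      b * (X.presheaf.stalkSpecializes h).hom t = (X.presheaf.stalkSpecializes h).hom a := by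
  obtain ⟨_, ⟨V, hV', rfl⟩, hyV, -⟩ :=
    X.isBasis_affineOpens.exists_subset_of_mem_open (Set.mem_univ y) isOpen_univ
  have hV : IsAffineOpen V := hV'
  have hxV : x ∈ V := h.mem_open V.isOpen hyV
  let _ : Algebra Γ(X, V) (X.presheaf.stalk x) :=
    TopCat.Presheaf.algebra_section_stalk X.presheaf (⟨x, hxV⟩ : V)
  have hloc : IsLocalization.AtPrime (X.presheaf.stalk x) (hV.primeIdealOf ⟨x, hxV⟩).asIdeal :=
    hV.isLocalization_stalk ⟨x, hxV⟩
  obtain ⟨⟨a, t⟩, hat⟩ := IsLocalization.surj (hV.primeIdealOf ⟨x, hxV⟩).asIdeal.primeCompl b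
  have ht : IsUnit (algebraMap Γ(X, V) (X.presheaf.stalk x) t) := IsLocalization.map_units _ t
  have hg : ∀ z : Γ(X, V), (X.presheaf.stalkSpecializes h).hom (X.presheaf.germ V y hyV z) =
      algebraMap Γ(X, V) (X.presheaf.stalk x) z := by
    intro z
    have := congr($(X.presheaf.germ_stalkSpecializes hyV h) z)
    exact this
  refine ⟨X.presheaf.germ V y hyV a, X.presheaf.germ V y hyV t, ?_, ?_⟩
  · rw [hg]; exact ht
  · rw [hg, hg]; exact hat

/-- Elements of the stalk at the generic point are fractions of elements of any stalk. -/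
theorem exists_fraction {Y : Scheme.{u}} [IsIntegral Y] {y₀ y : Y} (h0 : y₀ = genericPoint Y)
    (h : y₀ ⤳ y) (z : Y.presheaf.stalk y₀) :
    ∃ a₁ a₂ : Y.presheaf.stalk y, a₁ ≠ 0 ∧
      z * (Y.presheaf.stalkSpecializes h).hom a₁ = (Y.presheaf.stalkSpecializes h).hom a₂ := by
  subst h0
  obtain ⟨⟨a, t⟩, hat⟩ := IsLocalization.surj (nonZeroDivisors (Y.presheaf.stalk y))
    (show Y.functionField from z)
  exact ⟨t, a, nonZeroDivisors.ne_zero t.2, hat⟩

end Stalk

end Groth.Agent.Dix.QFSurfaceAlg
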