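import Mathlib.RingTheory.UniqueFactorizationDomain.Multiplicity
import Mathlib.RingTheory.UniqueFactorizationDomain.Kaplansky
import Mathlib.RingTheory.UniqueFactorizationDomain.Basic
import Mathlib.RingTheory.LocalRing.MaximalIdeal.Basic

/-!
# Lifting units along a localization of a UFD at a height one prime

`C` a Noetherian UFD, `ψ : C → B` injective to a local domain, `π ∈ C` with `ψ π` a non-unit such that every prime
divisor `q` of `π` divides every `c` with `ψ c` a non-unit (that is: `(q)` is the prime of `B`).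
If `ψ F = ψ π ^ i * w`, `w` a unit, then `w` lies in the image of `ψ`.
-/

set_option autoImplicit false

namespace Groth.Agent.Dix.UfdLift

theorem exists_preimage {C B : Type*} [CommRing C] [IsDomain C] [UniqueFactorizationMonoid C]
    [CommRing B] [IsDomain B] [IsLocalRing B] (ψ : C →+* B) (hinj : Function.Injective ψ)
    (π : C) (hπ0 : π ≠ 0) (hπ : ¬ IsUnit (ψ π))
    (hq : ∀ q, Prime q → q ∣ π → ∀ c, ¬ IsUnit (ψ c) → q ∣ c)
    (F : C) (i : ℕ) (w : B) (hw : IsUnit w) (hF : ψ F = ψ π ^ i * w) : ∃ c : C, ψ c = w := by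
  -- the prime ideal of `B` in `C`
  let P : Ideal C := (IsLocalRing.maximalIdeal B).comap ψ
  have hP : P.IsPrime := Ideal.comap_isPrime _ _
  have hmem : ∀ c, c ∈ P ↔ ¬ IsUnit (ψ c) := fun c => by
    change ψ c ∈ IsLocalRing.maximalIdeal B ↔ _
    rw [IsLocalRing.mem_maximalIdeal, mem_nonunits_iff]
  have hP0 : P ≠ ⊥ := by
    intro h
    have : π ∈ P := (hmem π).mpr hπ
    rw [h] at this
    exact hπ0 this
  obtain ⟨q, hqP, hqprime⟩ := UniqueFactorizationMonoid.iff_exists_prime_mem_of_isPrime.mp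
    (inferInstanceAs (UniqueFactorizationMonoid C)) P hP0 hP
  have hqu : ¬ IsUnit (ψ q) := (hmem q).mp hqP
  have hψ0 : ∀ c, c ≠ 0 → ψ c ≠ 0 := fun c hc h => hc (hinj (h.trans (map_zero ψ).symm))
  have hassoc : ∀ q', Prime q' → q' ∣ π → Associated q' q := fun q' h1 h2 =>
    h1.associated_of_dvd hqprime (hq q' h1 h2 q hqu)
  have hπu : ¬ IsUnit π := fun h => hπ (h.map ψ)
  obtain ⟨q', hq'irr, hq'π⟩ := WfDvdMonoid.exists_irreducible_factor hπu hπ0
  have hq'prime := UniqueFactorizationMonoid.irreducible_iff_prime.mp hq'irr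
  have hqπ : q ∣ π := (hassoc q' hq'prime hq'π).symm.dvd.trans hq'π
  have hunit : ∀ c : C, ¬ q ∣ c → IsUnit (ψ c) := fun c hc => by
    by_contra h
    exact hc (hq q hqprime hqπ c h)
  obtain ⟨n, v, hv, hπv⟩ := WfDvdMonoid.max_power_factor' hπ0 hqprime.not_isUnit
  have hvu : IsUnit v := by
    by_contra h
    have hv0 : v ≠ 0 := by
      rintro rfl
      exact hv (dvd_zero q)
    obtain ⟨q'', h1, h2⟩ := WfDvdMonoid.exists_irreducible_factor h hv0
    have h3 := UniqueFactorizationMonoid.irreducible_iff_prime.mp h1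
    have h4 : q'' ∣ π := by rw [hπv]; exact h2.mul_left _
    exact hv ((hassoc q'' h3 h4).symm.dvd.trans h2)
  have hF0 : F ≠ 0 := by
    rintro rfl
    rw [map_zero] at hF
    exact mul_ne_zero (pow_ne_zero i (hψ0 π hπ0)) hw.ne_zero hF.symm
  obtain ⟨a, c, hc, hFc⟩ := WfDvdMonoid.max_power_factor' hF0 hqprime.not_isUnit
  have hcu := hunit c hc
  have hq0 : ψ q ≠ 0 := hψ0 q hqprime.ne_zero
  obtain ⟨v', hv'⟩ := hvu
  -- compare
  have h1 : ψ q ^ a * ψ c = ψ q ^ (n * i) * (ψ v ^ i * w) := by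
    have h2 := hF
    rw [hFc, hπv, map_mul, map_pow, map_mul, map_pow, mul_pow, ← pow_mul] at h2
    rw [h2, mul_assoc]
  have hu2 : IsUnit (ψ v ^ i * w) := (((v'.isUnit.map ψ).pow i).mul hw) |> fun h => by
    rwa [hv'] at h
  have hai : a = n * i := by
    rcases lt_trichotomy a (n * i) with hlt | heq | hgt
    · exfalso
      obtain ⟨k, hk⟩ := Nat.exists_eq_add_of_lt hlt
      rw [hk, show a + k + 1 = a + (k + 1) by ring, pow_add, mul_assoc] at h1
      have h3 := mul_left_cancel₀ (pow_ne_zero a hq0) h1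
      rw [h3, pow_succ', mul_assoc] at hcu
      exact hqu (isUnit_of_mul_isUnit_left hcu)
    · exact heq
    · exfalso
      obtain ⟨k, hk⟩ := Nat.exists_eq_add_of_lt hgt
      rw [hk, show n * i + k + 1 = n * i + (k + 1) by ring, pow_add, mul_assoc] at h1
      have h3 := mul_left_cancel₀ (pow_ne_zero (n * i) hq0) h1
      rw [← h3, pow_succ', mul_assoc] at hu2
      exact hqu (isUnit_of_mul_isUnit_left hu2)
  rw [hai] at h1
  have h4 := mul_left_cancel₀ (pow_ne_zero (n * i) hq0) h1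
  refine ⟨(↑v'⁻¹ : C) ^ i * c, ?_⟩
  rw [map_mul, h4, map_pow, ← mul_assoc, ← mul_pow, ← map_mul, ← hv', Units.inv_mul, map_one, one_pow,
    one_mul]

end Groth.Agent.Dix.UfdLift
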