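import Groth.Agent.Dix.QFSurface
import Groth.Agent.Dix.RegTwoDim
import Groth.Agent.Dix.UfdLift
import Groth.Agent.CurvesB.DimPts

/-!
# Birational morphisms of arithmetic surfaces do not contract isolated components

`X → Spec R` proper, `X` integral regular of dimension at most two, `g : X → Y` a closed birational
morphism over `R` to an integral scheme. If `x' ⤳ x` is a proper specialization inside a fibre of `g` over a
point lying over a closed point of `Spec R`, then the closure of `x'` is not a union of connected components of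
its fibre over `Spec R`: there is a `w` of this fibre, not in the closure of `x'`, specializing to a point of the
closure of `x'`.
-/

set_option autoImplicit false
universe u

open CategoryTheory CategoryTheory.Limits AlgebraicGeometry

namespace Groth.Agent.Dix.QFSurfaceGen

open Groth.Agent.Dix.ValCenter Groth.Agent.Dix.SmoothFibrePrime Groth.Agent.Dix.QFSurfaceAlg
  Groth.Agent.Dix.QFSurface

theorem eq_of_specializes_of_eq {R : CommRingCat.{u}} [IsDedekindDomain R] {X Y : Scheme.{u}}
    (p : X ⟶ Spec R) [IsProper p] [IsIntegral X] [IsIntegral Y] [IsLocallyNoetherian X]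
    (hreg : ∀ x : X, IsRegularLocalRing (X.presheaf.stalk x))
    (hdim : topologicalKrullDim X ≤ 2) (g : X ⟶ Y) (q : Y ⟶ Spec R) (hgq : g ≫ q = p)
    (hg : IsClosedMap g) (hgen : g (genericPoint X) = genericPoint Y)
    (hbir : IsIso (g.stalkMap (genericPoint X))) (hη : (p (genericPoint X)).asIdeal = ⊥)
    {x x' : X} (h : x' ⤳ x) (hs0 : (p x).asIdeal ≠ ⊥) (hxx' : g x' = g x)
    (huniq : ∀ e w, x' ⤳ e → w ⤳ e → p w = p x → x' ⤳ w) : x' = x := by
  by_contra hne
  have hpg : ∀ z : X, p z = q (g z) := fun z => by rw [← hgq]; rfl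
  have hpx' : p x' = p x := by rw [hpg, hpg, hxx']
  have hmax : (p x).asIdeal.IsMaximal := (p x).isPrime.isMaximal hs0
  have hηspec : ∀ z : X, genericPoint X ⤳ z := fun z => (genericPoint_spec X).specializes trivial
  have hηne : ∀ z : X, p z = p x → genericPoint X ≠ z := by
    rintro z hz rfl
    exact hs0 (by rw [← hz]; exact hη)
  -- `x` is a closed point
  have hxcl : ∀ w, x ⤳ w → w = x := by
    intro w hw
    by_contra hwne
    exact false_of_chain hdim (hηspec x') h hw (hηne x' hpx') hne (fun h => hwne h.symm)
  have hxclosed : IsClosed ({x} : Set X) := by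
    rw [← closure_eq_iff_isClosed]
    apply Set.Subset.antisymm
    · intro w hw
      exact hxcl w (specializes_iff_mem_closure.mpr hw)
    · exact subset_closure
  have hyclosed : IsClosed ({g x} : Set Y) := by
    have := hg _ hxclosed
    rwa [Set.image_singleton] at this
  -- all specializations of `x'` map to `g x`
  have hspec : ∀ e, x' ⤳ e → g e = g x := by
    intro e he
    have h1 : g x' ⤳ g e := he.map g.continuous
    rw [hxx'] at h1
    have h2 : g e ∈ closure ({g x} : Set Y) := specializes_iff_mem_closure.mp h1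
    rwa [hyclosed.closure_eq] at h2
  have hpspec : ∀ e, x' ⤳ e → p e = p x := by
    intro e he
    rw [hpg, hpg, hspec e he]
  -- the local ring at `x'` is a discrete valuation ring
  have hB1 : ringKrullDim (X.presheaf.stalk x') ≤ 1 := by
    have hdimle : Ring.KrullDimLE 1 (X.presheaf.stalk x') := by
      rw [Ring.krullDimLE_one_iff_of_noZeroDivisors]
      intro P hP0 hPprime
      let P' : PrimeSpectrum (X.presheaf.stalk x') := ⟨P, hPprime⟩
      let w : X := X.fromSpecStalk x' P'
      have hw : w ⤳ x' := by
        have : w ∈ Set.range (X.fromSpecStalk x') := ⟨P', rfl⟩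
        rwa [Scheme.range_fromSpecStalk] at this
      have hinj : Function.Injective (X.fromSpecStalk x') := (X.fromSpecStalk x').isEmbedding.injective
      by_cases hwx : w = x'
      · have hP : P' = IsLocalRing.closedPoint (X.presheaf.stalk x') := by
          apply hinj
          exact hwx.trans (Scheme.fromSpecStalk_closedPoint (X := X) (x := x')).symm
        have h1 : P = IsLocalRing.maximalIdeal (X.presheaf.stalk x') :=
          congrArg PrimeSpectrum.asIdeal hP
        rw [h1]
        exact IsLocalRing.maximalIdeal.isMaximal _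
      · exfalso
        have hwη : genericPoint X ≠ w := by
          intro hηw
          apply hP0
          let Q : PrimeSpectrum (X.presheaf.stalk x') := ⟨⊥, Ideal.isPrime_bot⟩
          have h1 : X.fromSpecStalk x' Q ⤳ w := by
            have h2 : Q ⤳ P' := (PrimeSpectrum.le_iff_specializes _ _).mp bot_le
            exact h2.map (X.fromSpecStalk x').continuous
          have h3 : X.fromSpecStalk x' Q = w :=
            (h1.antisymm (hηw ▸ hηspec _)).eq
          exact (congrArg PrimeSpectrum.asIdeal (hinj h3)).symm
        exact false_of_chain hdim (hηspec w) hw h hwη hwx hne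
    exact Ring.krullDimLE_iff.mp hdimle
  have hregB := hreg x'
  have hPIR := RegTwoDim.isPrincipalIdealRing (X.presheaf.stalk x') hB1
  obtain ⟨ϖ, hϖ⟩ := (hPIR.principal (IsLocalRing.maximalIdeal (X.presheaf.stalk x'))).principal
  replace hϖ : IsLocalRing.maximalIdeal (X.presheaf.stalk x') = Ideal.span {ϖ} := hϖ
  -- the ideal of the closed point of the base
  let s : Ideal R := (p x).asIdeal
  have hsprime : s.IsPrime := (p x).isPrime
  obtain ⟨π, hπs, hπ⟩ := exists_local_generator R s hs0
  -- `π` generates `s` in the local rings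
  have hgen' : ∀ e, x' ⤳ e → s.map (baseToStalk p e).hom = Ideal.span {(baseToStalk p e).hom π} := by
    intro e he
    apply le_antisymm
    · rw [Ideal.map_le_iff_le_comap]
      intro t ht
      obtain ⟨r, hr, c, hc⟩ := hπ t ht
      have hru : IsUnit ((baseToStalk p e).hom r) := by
        by_contra hcon
        have h1 : (baseToStalk p e).hom r ∈ IsLocalRing.maximalIdeal (X.presheaf.stalk e) :=
          (IsLocalRing.mem_maximalIdeal _).mpr hcon
        apply hr
        have h2 := comap_baseToStalk_maximalIdeal p e
        rw [hpspec e he] at h2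
        change r ∈ (p x).asIdeal
        rw [← h2]
        exact h1
      rw [Ideal.mem_comap, ← Ideal.unit_mul_mem_iff_mem _ hru, ← map_mul, hc, map_mul]
      exact Ideal.mul_mem_right _ _ (Ideal.mem_span_singleton_self _)
    · rw [Ideal.span_singleton_le_iff_mem]
      exact Ideal.mem_map_of_mem _ hπs
  -- the base injects in the local rings
  have hinjbase : ∀ e, Function.Injective (baseToStalk p e).hom := by
    intro e
    rw [injective_iff_map_eq_zero]
    intro r hr
    have h1 := baseToStalk_stalkSpecializes p (hηspec e)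
    have h2 : (baseToStalk p (genericPoint X)).hom r = 0 := by
      rw [← h1]
      change (X.presheaf.stalkSpecializes _).hom ((baseToStalk p e).hom r) = 0
      rw [hr, map_zero]
    have h3 := comap_baseToStalk_maximalIdeal p (genericPoint X)
    rw [hη] at h3
    have h4 : r ∈ (⊥ : Ideal R) := by
      rw [← h3, Ideal.mem_comap, h2]
      exact zero_mem _
    exact h4
  have hπ0 : π ≠ 0 := by
    rintro rfl
    apply hs0
    rw [eq_bot_iff]
    intro t ht
    obtain ⟨r, hr, c, hc⟩ := hπ t ht
    rw [zero_mul] at hc
    rcases mul_eq_zero.mp hc with h1 | h1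
    · exact absurd (h1 ▸ s.zero_mem) hr
    · exact h1
  have hπe0 : ∀ e, (baseToStalk p e).hom π ≠ 0 := fun e h0 =>
    hπ0 (hinjbase e (h0.trans (map_zero _).symm))
  have hπB : ¬ IsUnit ((baseToStalk p x').hom π) := by
    have h1 : π ∈ Ideal.comap (baseToStalk p x').hom (IsLocalRing.maximalIdeal _) := by
      rw [comap_baseToStalk_maximalIdeal p x', hpx']
      exact hπs
    exact (IsLocalRing.mem_maximalIdeal _).mp h1
  -- prime divisors of `π` in the local rings at the specializations of `x'`
  have hprimes : ∀ e (he : x' ⤳ e), ∀ c₀ : X.presheaf.stalk e, Prime c₀ →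
      c₀ ∣ (baseToStalk p e).hom π → ∀ c, ¬ IsUnit ((X.presheaf.stalkSpecializes he).hom c) → c₀ ∣ c := by
    intro e he c₀ hc₀ hdvd c hc
    let P' : PrimeSpectrum (X.presheaf.stalk e) :=
      ⟨Ideal.span {c₀}, (Ideal.span_singleton_prime hc₀.ne_zero).mpr hc₀⟩
    let w : X := X.fromSpecStalk e P'
    have hw : w ⤳ e := by
      have : w ∈ Set.range (X.fromSpecStalk e) := ⟨P', rfl⟩
      rwa [Scheme.range_fromSpecStalk] at this
    have hpw : p w = p x := by
      have h1 : p w = Spec.map (baseToStalk p e) P' := by
        rw [map_baseToStalk]; rfl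
      have h2 : s ≤ (Spec.map (baseToStalk p e) P').asIdeal := by
        change s ≤ Ideal.comap (baseToStalk p e).hom (Ideal.span {c₀})
        rw [← Ideal.map_le_iff_le_comap, hgen' e he, Ideal.span_singleton_le_iff_mem,
          Ideal.mem_span_singleton]
        exact hdvd
      rw [h1]
      apply PrimeSpectrum.ext
      exact (hmax.eq_of_le (Spec.map (baseToStalk p e) P').isPrime.ne_top h2).symm
    have hx'w : x' ⤳ w := huniq e w he hw hpw
    -- translate to prime ideals
    let Q : PrimeSpectrum (X.presheaf.stalk e) :=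
      Spec.map (X.presheaf.stalkSpecializes he) (IsLocalRing.closedPoint (X.presheaf.stalk x'))
    have hQ : X.fromSpecStalk e Q = x' := by
      have h3 : (Spec.map (X.presheaf.stalkSpecializes he) ≫ X.fromSpecStalk e)
        (IsLocalRing.closedPoint (X.presheaf.stalk x')) = x' := by
        rw [Scheme.SpecMap_stalkSpecializes_fromSpecStalk he]
        exact Scheme.fromSpecStalk_closedPoint
      exact h3
    have hQP : Q ⤳ P' := by
      have h4 : X.fromSpecStalk e Q ⤳ X.fromSpecStalk e P' := by
        rw [hQ]
        exact hx'w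
      exact (X.fromSpecStalk e).isEmbedding.isInducing.specializes_iff.mp h4
    have hle : Q.asIdeal ≤ P'.asIdeal := (PrimeSpectrum.le_iff_specializes _ _).mpr hQP
    have hcQ : c ∈ Q.asIdeal := by
      change (X.presheaf.stalkSpecializes he).hom c ∈ IsLocalRing.maximalIdeal _
      exact (IsLocalRing.mem_maximalIdeal _).mpr hc
    exact Ideal.mem_span_singleton.mp (hle hcQ)
  obtain ⟨m, u₀, hu₀, hπm⟩ := exists_eq_pow_mul_unit ϖ hϖ _ (hπe0 x')
  have hm0 : m ≠ 0 := by
    rintro rfl
    rw [pow_zero, one_mul] at hπm
    exact hπB (hπm ▸ hu₀)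
  -- key integrality claim
  have key : ∀ (f : Y.presheaf.stalk (g x')) (i : ℕ) (w : X.presheaf.stalk x'), IsUnit w →
      (g.stalkMap x').hom f ^ m = (baseToStalk p x').hom π ^ i * w →
      (baseToResidue p x').hom.IsIntegralElem ((X.residue x').hom w) := by
    intro f i w hw hf
    apply isIntegralElem_of_forall_specializes
    intro e he
    have he' : g e ⤳ g x' := by
      rw [hspec e he, hxx']
    have h1 := stalkSpecializes_stalkMap_lift g he he' f
    have hbs : (X.presheaf.stalkSpecializes he).hom ((baseToStalk p e).hom π) =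
        (baseToStalk p x').hom π := by
      rw [← baseToStalk_stalkSpecializes p he]
      rfl
    have hrege := hreg e
    have hufd : UniqueFactorizationMonoid (X.presheaf.stalk e) :=
      RegTwoDim.ufd ((CurvesB.DimPts.ringKrullDim_stalk_le e).trans hdim)
    obtain ⟨c, hc⟩ := UfdLift.exists_preimage (X.presheaf.stalkSpecializes he).hom
      (stalkSpecializes_injective he) ((baseToStalk p e).hom π) (hπe0 e) (by rw [hbs]; exact hπB)
      (hprimes e he)
      ((g.stalkMap e).hom ((Y.presheaf.stalkSpecializes he').hom f) ^ m) i w hw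
      (by rw [map_pow, h1, hbs]; exact hf)
    exact ⟨c, congrArg _ hc⟩
  -- the residue field at `x'` is an algebraic extension of `k := R / s`
  let _ : Field (R ⧸ s) := Ideal.Quotient.field s
  have hsker : ∀ r ∈ s, (baseToResidue p x').hom r = 0 := by
    intro r hr
    rw [← baseToStalk_residue]
    change (X.residue x').hom ((baseToStalk p x').hom r) = 0
    have : (baseToStalk p x').hom r ∈ IsLocalRing.maximalIdeal (X.presheaf.stalk x') := by
      have h1 : r ∈ Ideal.comap (baseToStalk p x').hom (IsLocalRing.maximalIdeal _) := by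
        rw [comap_baseToStalk_maximalIdeal p x', hpx']
        exact hr
      exact h1
    exact (IsLocalRing.residue_eq_zero_iff _).mpr this
  let j : R ⧸ s →+* X.residueField x' := Ideal.Quotient.lift s (baseToResidue p x').hom hsker
  let _ : Algebra (R ⧸ s) (X.residueField x') := j.toAlgebra
  have hint : ∀ z : X.residueField x', (baseToResidue p x').hom.IsIntegralElem z →
      IsIntegral (R ⧸ s) z := by
    rintro z ⟨P, hP, hPz⟩
    refine ⟨P.map (Ideal.Quotient.mk s), hP.map _, ?_⟩
    rw [Polynomial.eval₂_map]
    exact hPz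
  have halg : ∀ z : X.residueField x', IsIntegral (R ⧸ s) z := by
    intro z
    obtain ⟨b, rfl⟩ := Ideal.Quotient.mk_surjective z
    change IsIntegral (R ⧸ s) ((X.residue x').hom b)
    by_cases hb : IsUnit b
    swap
    · have : (X.residue x').hom b = 0 :=
        (IsLocalRing.residue_eq_zero_iff _).mpr ((IsLocalRing.mem_maximalIdeal _).mpr hb)
      rw [this]
      exact isIntegral_zero
    -- write `b` as a fraction of elements of the local ring of `Y`
    obtain ⟨a₁, a₂, ha₁, ha₂⟩ : ∃ a₁ a₂ : Y.presheaf.stalk (g x'), (g.stalkMap x').hom a₁ ≠ 0 ∧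
        b * (g.stalkMap x').hom a₁ = (g.stalkMap x').hom a₂ := by
      let bη := (X.presheaf.stalkSpecializes (hηspec x')).hom b
      let t := (inv (g.stalkMap (genericPoint X))).hom bη
      have ht : (g.stalkMap (genericPoint X)).hom t = bη := by
        have := congr($(IsIso.inv_hom_id (g.stalkMap (genericPoint X))) bη)
        exact this
      have hY : g (genericPoint X) ⤳ g x' := (hηspec x').map g.continuous
      obtain ⟨a₁, a₂, h1, h2⟩ := exists_fraction hgen hY t
      have hnat : ∀ a : Y.presheaf.stalk (g x'),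
          (g.stalkMap (genericPoint X)).hom ((Y.presheaf.stalkSpecializes hY).hom a) =
          (X.presheaf.stalkSpecializes (hηspec x')).hom ((g.stalkMap x').hom a) := fun a =>
        Scheme.Hom.stalkSpecializes_stalkMap_apply g _ _ (hηspec x') a
      have hinjg : Function.Injective (g.stalkMap (genericPoint X)).hom :=
        ((ConcreteCategory.isIso_iff_bijective _).mp hbir).1
      refine ⟨a₁, a₂, ?_, ?_⟩
      · intro h3
        apply h1
        apply stalkSpecializes_injective hY
        apply hinjg
        rw [hnat, h3]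
        simp
      · apply stalkSpecializes_injective (hηspec x')
        rw [map_mul, ← hnat, ← hnat, ← h2, map_mul, ht]
    have ha₂' : (g.stalkMap x').hom a₂ ≠ 0 := by
      rw [← ha₂]
      exact mul_ne_zero hb.ne_zero ha₁
    obtain ⟨i, w, hw, e₁⟩ := exists_eq_pow_mul_unit ϖ hϖ _ ha₁
    obtain ⟨u₁, hu₁⟩ := hu₀
    -- `(a₁)^m = π^i * (u₁⁻¹)^i * w^m`
    have e₂ : (g.stalkMap x').hom a₁ ^ m =
        (baseToStalk p x').hom π ^ i * ((↑u₁⁻¹ : X.presheaf.stalk x') ^ i * w ^ m) := by
      rw [e₁, hπm, ← hu₁]
      have : (u₁ : X.presheaf.stalk x') ^ i * (↑u₁⁻¹ : X.presheaf.stalk x') ^ i = 1 := by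
        rw [← mul_pow, Units.mul_inv, one_pow]
      calc (ϖ ^ i * w) ^ m = (ϖ ^ m) ^ i * (1 * w ^ m) := by ring
        _ = _ := by rw [← this]; ring
    have e₃ : (g.stalkMap x').hom a₂ ^ m =
        (baseToStalk p x').hom π ^ i * (b ^ m * ((↑u₁⁻¹ : X.presheaf.stalk x') ^ i * w ^ m)) := by
      rw [← ha₂, mul_pow, e₂]; ring
    have hU : IsUnit ((↑u₁⁻¹ : X.presheaf.stalk x') ^ i * w ^ m) :=
      ((u₁⁻¹).isUnit.pow i).mul (hw.pow m)
    have k₁ := hint _ (key a₁ i _ hU e₂)
    have k₂ := hint _ (key a₂ i _ ((hb.pow m).mul hU) e₃)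
    have hw₁0 : (X.residue x').hom ((↑u₁⁻¹ : X.presheaf.stalk x') ^ i * w ^ m) ≠ 0 :=
      (hU.map (X.residue x').hom).ne_zero
    have : (X.residue x').hom b ^ m =
        (X.residue x').hom (b ^ m * ((↑u₁⁻¹ : X.presheaf.stalk x') ^ i * w ^ m)) *
        ((X.residue x').hom ((↑u₁⁻¹ : X.presheaf.stalk x') ^ i * w ^ m))⁻¹ := by
      rw [map_mul, mul_assoc, mul_inv_cancel₀ hw₁0, mul_one, map_pow]
    have k₃ : IsIntegral (R ⧸ s) ((X.residue x').hom b ^ m) := by
      rw [this]
      exact k₂.mul k₁.inv
    exact k₃.of_pow (Nat.pos_of_ne_zero hm0)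
  -- hence the local ring at `x` maps locally to the one at `x'`
  let χ : X.presheaf.stalk x →+* X.residueField x' :=
    (X.residue x').hom.comp (X.presheaf.stalkSpecializes h).hom
  have hχ : ∀ r : R, χ ((baseToStalk p x).hom r) = (baseToResidue p x').hom r := by
    intro r
    rw [← baseToStalk_residue, ← baseToStalk_stalkSpecializes p h]
    rfl
  have hlocal : ∀ c : X.presheaf.stalk x, c ∈ IsLocalRing.maximalIdeal (X.presheaf.stalk x) →
      (X.presheaf.stalkSpecializes h).hom c ∈ IsLocalRing.maximalIdeal (X.presheaf.stalk x') := by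
    intro c hc
    by_contra hcon
    have hz0 : χ c ≠ 0 := fun h0 => hcon ((IsLocalRing.residue_eq_zero_iff _).mp h0)
    have hz := (halg (χ c)).inv_mem_adjoin
    let D : Subalgebra (R ⧸ s) (X.residueField x') :=
      { χ.range with
        algebraMap_mem' := by
          intro r
          obtain ⟨r, rfl⟩ := Ideal.Quotient.mk_surjective r
          exact ⟨(baseToStalk p x).hom r, hχ r⟩ }
    have hD : Algebra.adjoin (R ⧸ s) {χ c} ≤ D :=
      Algebra.adjoin_le (Set.singleton_subset_iff.mpr ⟨c, rfl⟩)
    obtain ⟨d, hd⟩ := hD hz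
    have hd' : χ d = (χ c)⁻¹ := hd
    have h1 : χ (c * d - 1) = 0 := by
      rw [map_sub, map_mul, hd', mul_inv_cancel₀ hz0, map_one, sub_self]
    have h2 : IsUnit (c * d - 1) := by
      by_contra hnu
      have h3 : c * d - 1 ∈ IsLocalRing.maximalIdeal (X.presheaf.stalk x) :=
        (IsLocalRing.mem_maximalIdeal _).mpr hnu
      have h4 : c * d ∈ IsLocalRing.maximalIdeal (X.presheaf.stalk x) :=
        Ideal.mul_mem_right _ _ hc
      have h5 : (1 : X.presheaf.stalk x) ∈ IsLocalRing.maximalIdeal (X.presheaf.stalk x) := by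
        have h6 := Ideal.sub_mem _ h4 h3
        rwa [sub_sub_cancel] at h6
      exact (IsLocalRing.mem_maximalIdeal _).mp h5 isUnit_one
    exact (h2.map χ).ne_zero h1
  apply hne
  -- conclude
  have hcp : Spec.map (X.presheaf.stalkSpecializes h)
      (IsLocalRing.closedPoint (X.presheaf.stalk x')) =
        IsLocalRing.closedPoint (X.presheaf.stalk x) := by
    apply PrimeSpectrum.ext
    change Ideal.comap (X.presheaf.stalkSpecializes h).hom
      (IsLocalRing.maximalIdeal (X.presheaf.stalk x')) = IsLocalRing.maximalIdeal _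
    symm
    refine (IsLocalRing.maximalIdeal.isMaximal _).eq_of_le ?_ (fun c hc => hlocal c hc)
    exact (Ideal.IsPrime.comap _).ne_top
  have h1 : X.fromSpecStalk x (Spec.map (X.presheaf.stalkSpecializes h)
      (IsLocalRing.closedPoint (X.presheaf.stalk x'))) = x' := by
    have h2 := Scheme.SpecMap_stalkSpecializes_fromSpecStalk h
    have h3 : (Spec.map (X.presheaf.stalkSpecializes h) ≫ X.fromSpecStalk x)
      (IsLocalRing.closedPoint (X.presheaf.stalk x')) = x' := by
      rw [h2]
      exact Scheme.fromSpecStalk_closedPoint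
    exact h3
  rw [← h1, hcp]
  exact Scheme.fromSpecStalk_closedPoint

end Groth.Agent.Dix.QFSurfaceGen
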