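import Mathlib.Algebra.MvPolynomial.Equiv
import Mathlib.Algebra.MvPolynomial.Variables
import Mathlib.Algebra.Polynomial.Div
import Mathlib.RingTheory.Smooth.Basic
import Mathlib.RingTheory.Polynomial.Basic
import Mathlib.RingTheory.Localization.Away.Basic
import Mathlib.RingTheory.Localization.Algebra
import Mathlib.Tactic

/-!
# Algebraic preliminaries for charts `N ← N₁ → 𝔸¹_S` of smooth schemes over a field

* `exists_coord`: if `φ : k[x_i] → K` is not injective, one of the variables is a root of a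
  polynomial over the polynomial ring in the others whose leading coefficient does not vanish in
  `K`.
* `exists_good`: one can moreover find a constant `c ∈ {0, 1}` at which the polynomial does not
  vanish in `K`.
* `exists_ring`: after a localization of the ring of the other variables, these are units.
-/

set_option autoImplicit false
universe u v

open Polynomial

namespace Groth.Agent.Dix.SpChart582A

section Good

variable {R : Type u} {K : Type v} [CommRing R] [IsDomain R] [Field K] (ψ : R[X] →+* K)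

/-- The minimal degree argument. -/
theorem exists_good (h : ∃ Q : R[X], ψ Q = 0 ∧ ψ (C Q.leadingCoeff) ≠ 0) :
    ∃ (Q : R[X]) (c : R), ψ Q = 0 ∧ ψ (C Q.leadingCoeff) ≠ 0 ∧ ψ (C (Q.eval c)) ≠ 0 := by
  classical
  have h' : ∃ n : ℕ, ∃ Q : R[X], Q.natDegree = n ∧ ψ Q = 0 ∧ ψ (C Q.leadingCoeff) ≠ 0 := by
    obtain ⟨Q, h1, h2⟩ := h
    exact ⟨_, Q, rfl, h1, h2⟩
  obtain ⟨Q, hn, hQ, hlc⟩ := Nat.find_spec h'
  have hmin : ∀ Q' : R[X], ψ Q' = 0 → ψ (C Q'.leadingCoeff) ≠ 0 → Q.natDegree ≤ Q'.natDegree := by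
    intro Q' h1 h2
    rw [hn]
    exact Nat.find_min' h' ⟨Q', rfl, h1, h2⟩
  obtain ⟨c, hc⟩ : ∃ c : R, ψ X ≠ ψ (C c) := by
    by_cases h0 : ψ X = ψ (C 0)
    · refine ⟨1, ?_⟩
      rw [h0, C_0, C_1, map_zero, map_one]
      exact zero_ne_one
    · exact ⟨0, h0⟩
  refine ⟨Q, c, hQ, hlc, fun h0 => ?_⟩
  have hdeg : Q.natDegree ≠ 0 := by
    intro hd
    apply hlc
    rw [natDegree_eq_zero] at hd
    obtain ⟨a, rfl⟩ := hd
    rw [leadingCoeff_C]
    exact hQ
  have e1 := modByMonic_add_div Q (X - C c)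
  rw [modByMonic_X_sub_C_eq_C_eval] at e1
  have e2 := congrArg ψ e1
  rw [map_add, h0, zero_add, map_mul, hQ, mul_eq_zero, map_sub, sub_eq_zero] at e2
  have e3 : ψ (Q /ₘ (X - C c)) = 0 := e2.resolve_left hc
  have e4 : (Q /ₘ (X - C c)).leadingCoeff = Q.leadingCoeff :=
    leadingCoeff_divByMonic_X_sub_C Q (fun h => hdeg (natDegree_eq_zero_iff_degree_le_zero.2 h.le)) c
  have e5 := hmin _ e3 (by rw [e4]; exact hlc)
  rw [natDegree_divByMonic _ (monic_X_sub_C c), natDegree_X_sub_C] at e5
  omega

end Good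

section Coord

variable {k : Type u} [Field k] {σ : Type u} [DecidableEq σ] {K : Type v} [Field K]

/-- Separating one variable. -/
noncomputable def E (k : Type u) [Field k] (i : σ) :
    MvPolynomial σ k ≃ₐ[k] (MvPolynomial {j // j ≠ i} k)[X] :=
  (MvPolynomial.renameEquiv k (Equiv.optionSubtypeNe i).symm).trans
    (MvPolynomial.optionEquivLeft k _)

lemma E_symm_C (i : σ) (p : MvPolynomial {j // j ≠ i} k) :
    (E k i).symm (C p) = MvPolynomial.rename Subtype.val p := by
  apply (E k i).injective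
  rw [AlgEquiv.apply_symm_apply]
  induction p using MvPolynomial.induction_on with
  | C a => simp [E]
  | add p q hp hq => rw [C_add, map_add, map_add, ← hp, ← hq]
  | mul_X p j hp =>
    rw [C_mul, map_mul, map_mul, ← hp]
    congr 1
    simp [E, Equiv.optionSubtypeNe_symm_of_ne j.2]

theorem exists_coord (φ : MvPolynomial σ k →+* K) (hφ : ¬ Function.Injective φ) :
    ∃ (i : σ) (Q : (MvPolynomial {j // j ≠ i} k)[X]), φ ((E k i).symm Q) = 0 ∧
      φ ((E k i).symm (C Q.leadingCoeff)) ≠ 0 := by
  classical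
  have h' : ∃ n : ℕ, ∃ F : MvPolynomial σ k, F.totalDegree = n ∧ F ≠ 0 ∧ φ F = 0 := by
    rw [injective_iff_map_eq_zero] at hφ
    push Not at hφ
    obtain ⟨F, h1, h2⟩ := hφ
    exact ⟨_, F, rfl, h2, h1⟩
  obtain ⟨F, hn, hF, hφF⟩ := Nat.find_spec h'
  have hmin : ∀ G : MvPolynomial σ k, G ≠ 0 → φ G = 0 → F.totalDegree ≤ G.totalDegree := by
    intro G h1 h2
    rw [hn]
    exact Nat.find_min' h' ⟨G, rfl, h1, h2⟩
  have hd : F.totalDegree ≠ 0 := by
    intro hd
    rw [MvPolynomial.totalDegree_eq_zero_iff_eq_C] at hd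
    rw [hd] at hφF hF
    have h1 : MvPolynomial.coeff 0 F ≠ 0 := fun h => hF (by rw [h, map_zero])
    have h2 : IsUnit (φ (MvPolynomial.C (MvPolynomial.coeff 0 F))) :=
      ((isUnit_iff_ne_zero.2 h1).map (MvPolynomial.C (σ := σ))).map φ
    rw [hφF] at h2
    exact not_isUnit_zero h2
  obtain ⟨i, hi⟩ : ∃ i : σ, F.degreeOf i ≠ 0 := by
    by_contra hcon
    push Not at hcon
    apply hd
    rw [MvPolynomial.totalDegree, ← Nat.le_zero]
    refine Finset.sup_le fun m hm => ?_
    have hm0 : m = 0 := by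
      ext i
      exact Nat.le_zero.1 ((MvPolynomial.monomial_le_degreeOf i hm).trans_eq (hcon i))
    rw [hm0, Finsupp.sum_zero_index]
  refine ⟨i, E k i F, by rw [AlgEquiv.symm_apply_apply]; exact hφF, fun h0 => ?_⟩
  set G : MvPolynomial (Option {j // j ≠ i}) k :=
    MvPolynomial.rename (Equiv.optionSubtypeNe i).symm F with hG
  have hEG : E k i F = MvPolynomial.optionEquivLeft k _ G := rfl
  have hGd : G.totalDegree = F.totalDegree := by
    rw [hG]
    exact MvPolynomial.totalDegree_renameEquiv (Equiv.optionSubtypeNe i).symm F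
  have hnd : (E k i F).natDegree = F.degreeOf i := by
    rw [hEG, MvPolynomial.natDegree_optionEquivLeft, hG]
    have := MvPolynomial.degreeOf_rename_of_injective (p := F)
      (Equiv.optionSubtypeNe i).symm.injective i
    rwa [Equiv.optionSubtypeNe_symm_self] at this
  have hQ0 : E k i F ≠ 0 := by
    rw [Ne, map_eq_zero_iff _ (E k i).injective]
    exact hF
  have hle : F.degreeOf i ≤ F.totalDegree := MvPolynomial.degreeOf_le_totalDegree F i
  have h1 := MvPolynomial.totalDegree_coeff_optionEquivLeft_add_le k _ G (F.degreeOf i)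
    (by rw [hGd]; exact hle)
  rw [← hEG, hGd] at h1
  have h2 : (E k i F).leadingCoeff = (E k i F).coeff (F.degreeOf i) := by
    rw [leadingCoeff, hnd]
  have h3 : (E k i).symm (C (E k i F).leadingCoeff) ≠ 0 := by
    rw [Ne, map_eq_zero_iff _ (E k i).symm.injective, C_eq_zero, leadingCoeff_eq_zero]
    exact hQ0
  have h4 := hmin _ h3 h0
  rw [E_symm_C] at h4
  have h5 := h4.trans (MvPolynomial.totalDegree_rename_le _ _)
  rw [h2] at h5
  omega

end Coord

section Ring

variable {k : Type u} [Field k] {σ : Type u} [Finite σ] {K : Type v} [Field K]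

attribute [local instance] Polynomial.algebra Polynomial.isLocalization in
/-- The chart, on the level of rings. -/
theorem exists_ring (φ : MvPolynomial σ k →+* K) (hφ : ¬ Function.Injective φ) :
    ∃ (R T : Type u) (_ : CommRing R) (_ : CommRing T) (_ : Algebra k T) (_ : Algebra R T) (g : R)
      (_ : IsLocalization.Away g T) (_ : Algebra.Smooth k T)
      (e : MvPolynomial σ k ≃+* R[X]) (φ' : T[X] →+* K) (Q : T[X]) (c : T),
      (mapRingHom (algebraMap R T)).comp (e.toRingHom.comp MvPolynomial.C) =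
        Polynomial.C.comp (algebraMap k T) ∧
      φ'.comp ((mapRingHom (algebraMap R T)).comp e.toRingHom) = φ ∧ φ' Q = 0 ∧
      IsUnit Q.leadingCoeff ∧ IsUnit (Q.eval c) := by
  classical
  obtain ⟨i, Q₀, h1, h2⟩ := exists_coord φ hφ
  let R := MvPolynomial {j // j ≠ i} k
  let ψ : R[X] →+* K := φ.comp (E k i).symm.toRingEquiv.toRingHom
  obtain ⟨Q, c, h3, h4, h5⟩ := exists_good ψ ⟨Q₀, h1, h2⟩
  let g : R := Q.leadingCoeff * Q.eval c
  let T := Localization.Away g
  have hg : ψ (C g) ≠ 0 := by
    rw [C_mul, map_mul]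
    exact mul_ne_zero h4 h5
  let ρ : R →+* K := ψ.comp C
  have hgu : IsUnit (ρ g) := isUnit_iff_ne_zero.2 hg
  let ρ' : T →+* K := IsLocalization.Away.lift g hgu
  have hρ' : ρ'.comp (algebraMap R T) = ρ := IsLocalization.Away.lift_comp g hgu
  let φ' : T[X] →+* K := eval₂RingHom ρ' (ψ X)
  have hφ' : φ'.comp (mapRingHom (algebraMap R T)) = ψ := by
    apply Polynomial.ringHom_ext
    · intro a
      simp only [φ', RingHom.comp_apply, coe_mapRingHom, map_C, coe_eval₂RingHom, eval₂_C]
      exact congrArg (fun f => f a) hρ'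
    · simp only [φ', RingHom.comp_apply, coe_mapRingHom, map_X, coe_eval₂RingHom, eval₂_X]
  have hsm : Algebra.Smooth k T := by
    have h1 : Algebra.FormallySmooth k (MvPolynomial {j // j ≠ i} k) := inferInstance
    have h2 : Algebra.FinitePresentation k (MvPolynomial {j // j ≠ i} k) :=
      Algebra.FinitePresentation.mvPolynomial k k _
    have : Algebra.Smooth k R := ⟨h1, h2⟩
    have : Algebra.Smooth R T := Algebra.Smooth.of_isLocalization_Away g
    exact Algebra.Smooth.comp k R T
  have hunit : IsUnit (algebraMap R T g) := IsLocalization.Away.algebraMap_isUnit g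
  have hu : IsUnit (algebraMap R T Q.leadingCoeff) ∧ IsUnit (algebraMap R T (Q.eval c)) := by
    rw [map_mul] at hunit
    exact ⟨isUnit_of_mul_isUnit_left hunit, isUnit_of_mul_isUnit_right hunit⟩
  have hnt : Nontrivial T := ρ'.domain_nontrivial
  refine ⟨R, T, inferInstance, inferInstance, inferInstance, inferInstance, g, inferInstance, hsm,
    (E k i).toRingEquiv, φ', Q.map (algebraMap R T), algebraMap R T c, ?_, ?_, ?_, ?_, ?_⟩
  · refine RingHom.ext fun a => ?_
    change map (algebraMap R T) (E k i (MvPolynomial.C a)) = C (algebraMap k T a)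
    have : E k i (MvPolynomial.C a) = C (MvPolynomial.C a) := by
      simp [E]
    rw [this, map_C]
    rfl
  · rw [← RingHom.comp_assoc, hφ']
    ext x
    · change φ ((E k i).symm (E k i (MvPolynomial.C x))) = _
      rw [AlgEquiv.symm_apply_apply]
      rfl
    · change φ ((E k i).symm (E k i (MvPolynomial.X x))) = _
      rw [AlgEquiv.symm_apply_apply]
  · have := congrArg (fun f => f Q) hφ'
    exact this.trans h3
  · rw [leadingCoeff_map_of_leadingCoeff_ne_zero _ hu.1.ne_zero]
    exact hu.1
  · rw [eval_map, eval₂_at_apply]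
    exact hu.2

end Ring

end Groth.Agent.Dix.SpChart582A
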