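import Groth.Agent.Dix.SpChart582A
import Groth.Agent.UnramB.SmoothLoc
import Groth.Agent.Sga4B.Line
import Groth.Agent.Desc.LQF
import Groth.Agent.Etbase.EtaleStalk
import Groth.Agent.Ega4B.DimFT2

/-!
# Charts `N ← N₁ → 𝔸¹_S` of smooth schemes over a field
-/

set_option autoImplicit false
universe u

open CategoryTheory CategoryTheory.Limits AlgebraicGeometry Opposite TopologicalSpace

namespace Groth.Agent.Dix.SpChart582B

open Groth.Agent.Dix.SpChart582A

/-- étale maps: a generization with the same image is trivial -/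
theorem eq_of_specializes_of_etale {X Y : Scheme.{u}} (f : X ⟶ Y) [Etale f] {a b : X} (h : a ⤳ b)
    (hf : f a = f b) : a = b := by
  have := Groth.Agent.Desc.LQF.of_etale f
  have hd := f.isDiscrete_preimage_singleton (f b)
  obtain ⟨O, hO, hOu⟩ := isDiscrete_iff_forall_mem_exists_isOpen.1 hd b rfl
  have hb : b ∈ O := (hOu.symm ▸ Set.mem_singleton b : b ∈ O ∩ f ⁻¹' {f b}).1
  have ha : a ∈ O := h.mem_open hO hb
  have : a ∈ O ∩ f ⁻¹' {f b} := ⟨ha, hf⟩
  rw [hOu] at this
  exact this

/-- Shrinking an étale morphism around a point such that the preimage of the closure of the image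
is the closure of the point. -/
theorem exists_shrink {N A : Scheme.{u}} (φ : N ⟶ A) [Etale φ] [QuasiCompact φ] (v : N) :
    ∃ O : N.Opens, v ∈ O ∧ ∀ x ∈ O, φ v ⤳ φ x → v ⤳ x := by
  have := Groth.Agent.Desc.LQF.of_etale φ
  have hfin := φ.finite_preimage_singleton (φ v)
  let Z : Set N := ⋃ z ∈ (φ ⁻¹' {φ v}) \ {v}, closure {z}
  have hZ : IsClosed Z := (hfin.subset Set.sdiff_subset).isClosed_biUnion fun _ _ => isClosed_closure
  refine ⟨⟨Zᶜ, hZ.isOpen_compl⟩, ?_, ?_⟩
  · intro hv
    obtain ⟨z, ⟨hz1, hz2⟩, hz⟩ := Set.mem_iUnion₂.1 hv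
    exact hz2 (eq_of_specializes_of_etale φ (specializes_iff_mem_closure.2 hz) hz1)
  · intro x hx h
    obtain ⟨z, hz1, hz2⟩ := Flat.generalizingMap φ h
    by_cases hzv : z = v
    · rwa [hzv] at hz1
    · exact absurd (Set.mem_iUnion₂.2 ⟨z, ⟨hz2, hzv⟩, specializes_iff_mem_closure.1 hz1⟩) hx

/-- Étale coordinates of a smooth scheme over a field. -/
theorem exists_coordinates {k : Type u} [Field k] {N : Scheme.{u}}
    (f : N ⟶ Spec (CommRingCat.of k)) [Smooth f] (v : N) :
    ∃ (V : N.Opens) (n : ℕ)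
      (w : (V : Scheme.{u}) ⟶ Spec (CommRingCat.of (MvPolynomial (ULift.{u} (Fin n)) k))),
      IsAffineOpen V ∧ v ∈ V ∧ Etale w ∧
        w ≫ Spec.map (CommRingCat.ofHom MvPolynomial.C) = V.ι ≫ f := by
  obtain ⟨U, V, e, n, g, hv, hU, hV, hg, hgf⟩ :=
    Groth.Agent.UnramB.SmoothLoc.exists_etale_affineSpace f v
  have hVt : V = ⊤ := by
    ext x
    have hx : x = f v := Subsingleton.elim _ _
    simp only [Opens.coe_top, Set.mem_univ, iff_true]
    rw [hx]
    exact e hv
  have hVι : IsIso V.ι := by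
    subst hVt
    exact inferInstanceAs (IsIso (Scheme.topIso (Spec (CommRingCat.of k))).hom)
  have := Groth.Agent.UnramB.SmoothLoc.isIso_affineSpace_map (ULift.{u} (Fin n)) V.ι
  refine ⟨U, n, g ≫ AffineSpace.map _ V.ι ≫
    (AffineSpace.SpecIso (ULift.{u} (Fin n)) (CommRingCat.of k)).hom, hU, hv, inferInstance, ?_⟩
  have h1 : (AffineSpace.SpecIso (ULift.{u} (Fin n)) (CommRingCat.of k)).hom ≫
      Spec.map (CommRingCat.ofHom MvPolynomial.C) =
      𝔸(ULift.{u} (Fin n); Spec (CommRingCat.of k)) ↘ Spec (CommRingCat.of k) := by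
    rw [← AffineSpace.SpecIso_inv_over, Iso.hom_inv_id_assoc]
  rw [Category.assoc, Category.assoc, h1, AffineSpace.map_over, ← Category.assoc, hgf,
    Scheme.Hom.resLE_comp_ι]

/-- The affine line over an affine scheme. -/
theorem isLine_Spec (T : Type u) [CommRing T] :
    Groth.Agent.Sga4B.Line.IsLine
      (Spec.map (CommRingCat.ofHom (Polynomial.C : T →+* Polynomial T))) := by
  let e : MvPolynomial (ULift.{u} (Fin 1)) T ≃ₐ[T] Polynomial T :=
    MvPolynomial.uniqueAlgEquiv T (ULift.{u} (Fin 1))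
  have he : IsIso (Spec.map (CommRingCat.ofHom e.toRingEquiv.toRingHom)) :=
    inferInstanceAs (IsIso (Spec.map e.toRingEquiv.toCommRingCatIso.hom))
  refine ⟨Spec.map (CommRingCat.ofHom e.toRingEquiv.toRingHom) ≫
    (AffineSpace.SpecIso (ULift.{u} (Fin 1)) (CommRingCat.of T)).inv, inferInstance, ?_⟩
  rw [Category.assoc, AffineSpace.SpecIso_inv_over, ← Spec.map_comp, ← CommRingCat.ofHom_comp]
  congr 2
  refine RingHom.ext fun a => ?_
  exact e.commutes a

attribute [local instance] Polynomial.algebra Polynomial.isLocalization in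
theorem isOpenImmersion_mapRingHom {R T : Type u} [CommRing R] [CommRing T] [Algebra R T] (g : R)
    [IsLocalization.Away g T] :
    IsOpenImmersion (Spec.map (CommRingCat.ofHom (Polynomial.mapRingHom (algebraMap R T)))) := by
  have h1 : IsLocalization.Away (Polynomial.C g) (Polynomial T) := by
    have h2 : IsLocalization ((Submonoid.powers g).map Polynomial.C) (Polynomial T) :=
      inferInstance
    rwa [Submonoid.map_powers] at h2
  exact IsOpenImmersion.of_isLocalization (R := Polynomial R) (S := Polynomial T) (Polynomial.C g)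

open Polynomial in
theorem finite_quotient {T : Type u} [CommRing T] (I : Ideal T[X]) (Q : T[X]) (hQ : Q ∈ I)
    (hlc : IsUnit Q.leadingCoeff) : Module.Finite T (T[X] ⧸ I) := by
  obtain ⟨a, ha⟩ := hlc.exists_left_inv
  have hm : (C a * Q).Monic := monic_C_mul_of_mul_leadingCoeff_eq_one ha
  have h1 := hm.finite_quotient
  have h2 : Ideal.span {C a * Q} ≤ I := by
    rw [Ideal.span_singleton_le_iff_mem]
    exact I.mul_mem_left _ hQ
  exact Module.Finite.of_surjective (Ideal.Quotient.factorₐ T h2).toLinearMap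
    (Ideal.Quotient.factor_surjective h2)

open Polynomial in
/-- Charts of smooth schemes over a field by affine lines over smooth schemes. -/
theorem exists_chart {k : Type u} [Field k] {N : Scheme.{u}} (f : N ⟶ Spec (CommRingCat.of k))
    [Smooth f] (v : N) (hv : 1 ≤ ringKrullDim (N.presheaf.stalk v)) :
    ∃ (S A N₁ B : Scheme.{u}) (s : S ⟶ Spec (CommRingCat.of k)) (π : A ⟶ S) (h : N₁ ⟶ N)
      (φ : N₁ ⟶ A) (i : B ⟶ A) (σ : S ⟶ A) (v₁ : N₁), Smooth s ∧ IsAffine S ∧
      Groth.Agent.Sga4B.Line.IsLine π ∧ Etale h ∧ Etale φ ∧ h ≫ f = φ ≫ π ≫ s ∧ h v₁ = v ∧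
      IsClosedImmersion i ∧ IsFinite (i ≫ π) ∧ Set.range i = closure {φ v₁} ∧ σ ≫ π = 𝟙 S ∧
      Disjoint (Set.range σ) (Set.range i) ∧
      h ⁻¹' closure {v} = φ ⁻¹' closure {φ v₁} := by
  obtain ⟨V, n, w, hVa, hvV, hw, hwf⟩ := exists_coordinates f v
  let P := MvPolynomial (ULift.{u} (Fin n)) k
  let v' : (V : Scheme.{u}) := ⟨v, hvV⟩
  let b₀ : Spec (CommRingCat.of P) := w v'
  let φ₀ : P →+* b₀.asIdeal.ResidueField := algebraMap P b₀.asIdeal.ResidueField
  have hker : RingHom.ker φ₀ = b₀.asIdeal := Ideal.ker_algebraMap_residueField _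
  have hN : IsLocallyNoetherian N := LocallyOfFiniteType.isLocallyNoetherian f
  have hb₀ : b₀.asIdeal ≠ ⊥ := by
    intro h
    let _ : Algebra P ((Spec (CommRingCat.of P)).presheaf.stalk b₀) :=
      StructureSheaf.stalkAlgebra P b₀
    have : IsLocalization.AtPrime ((Spec (CommRingCat.of P)).presheaf.stalk b₀) b₀.asIdeal :=
      StructureSheaf.IsLocalization.to_stalk P b₀
    have h1 := Groth.Agent.Etbase.EtaleStalk.ringKrullDim_stalk w v'
    have h2 : ringKrullDim ((V : Scheme.{u}).presheaf.stalk v') =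
        ringKrullDim (N.presheaf.stalk v) :=
      Groth.Agent.Etbase.EtaleStalk.ringKrullDim_stalk V.ι v'
    have h3 : ringKrullDim ((Spec (CommRingCat.of P)).presheaf.stalk b₀) = b₀.asIdeal.height :=
      IsLocalization.AtPrime.ringKrullDim_eq_height b₀.asIdeal _
    have h4 : b₀.asIdeal.height = 0 := by
      rw [h]
      exact Ideal.height_bot
    rw [h2] at h1
    change _ = ringKrullDim ((Spec (CommRingCat.of P)).presheaf.stalk b₀) at h1
    rw [h3, h4] at h1
    rw [h1] at hv
    exact absurd hv (by norm_num)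
  have hφ₀ : ¬ Function.Injective φ₀ := by
    rw [RingHom.injective_iff_ker_eq_bot, hker]
    exact hb₀
  obtain ⟨R, T, _, _, _, _, g, hgT, hsm, e, φ', Q, c, hC, hφ', hQ, hlc, hev⟩ :=
    exists_ring φ₀ hφ₀
  let S : Scheme.{u} := Spec (CommRingCat.of T)
  let A : Scheme.{u} := Spec (CommRingCat.of T[X])
  let m : A ⟶ Spec (CommRingCat.of P) :=
    Spec.map (CommRingCat.ofHom ((mapRingHom (algebraMap R T)).comp e.toRingHom))
  have he : IsIso (Spec.map (CommRingCat.ofHom e.toRingHom)) :=
    inferInstanceAs (IsIso (Spec.map e.toCommRingCatIso.hom))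
  have hm1 := isOpenImmersion_mapRingHom (R := R) (T := T) g
  have hm : IsOpenImmersion m := by
    have h1 : m = Spec.map (CommRingCat.ofHom (mapRingHom (algebraMap R T))) ≫
        Spec.map (CommRingCat.ofHom e.toRingHom) := by
      rw [← Spec.map_comp, ← CommRingCat.ofHom_comp]
    rw [h1]
    infer_instance
  let s : S ⟶ Spec (CommRingCat.of k) := Spec.map (CommRingCat.ofHom (algebraMap k T))
  let π : A ⟶ S := Spec.map (CommRingCat.ofHom Polynomial.C)
  have hms : m ≫ Spec.map (CommRingCat.ofHom MvPolynomial.C) = π ≫ s := by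
    rw [← Spec.map_comp, ← Spec.map_comp, ← CommRingCat.ofHom_comp, ← CommRingCat.ofHom_comp,
      RingHom.comp_assoc, hC]
  have hqp : (RingHom.ker φ').IsPrime := RingHom.ker_isPrime φ'
  let b : A := (⟨RingHom.ker φ', hqp⟩ : PrimeSpectrum T[X])
  have hmb : m b = b₀ := by
    apply PrimeSpectrum.ext
    change (RingHom.ker φ').comap ((mapRingHom (algebraMap R T)).comp e.toRingHom) = b₀.asIdeal
    refine Eq.trans ?_ hker
    rw [RingHom.comap_ker, hφ']
  obtain ⟨v₀, hv₁, hv₂⟩ := Scheme.Pullback.exists_preimage_pullback (f := w) (g := m) v' b hmb.symm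
  let p : pullback w m ⟶ (V : Scheme.{u}) := pullback.fst w m
  let φ₁ : pullback w m ⟶ A := pullback.snd w m
  have hVa' : IsAffine (V : Scheme.{u}) := hVa
  obtain ⟨O, hO, hOx⟩ := exists_shrink φ₁ v₀
  let B : Scheme.{u} := Spec (CommRingCat.of (T[X] ⧸ RingHom.ker φ'))
  let i : B ⟶ A := Spec.map (CommRingCat.ofHom (Ideal.Quotient.mk (RingHom.ker φ')))
  let σ : S ⟶ A := Spec.map (CommRingCat.ofHom (evalRingHom c))
  have hbv : φ₁ v₀ = b := hv₂
  have hvv : p v₀ = v' := hv₁
  have hi : Set.range i = closure {b} := by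
    refine (range_comap_of_surjective _ _ Ideal.Quotient.mk_surjective).trans ?_
    rw [Ideal.mk_ker]
    exact (PrimeSpectrum.closure_singleton (R := T[X]) b).symm
  have hib : ∀ y : A, y ∈ closure {b} → RingHom.ker φ' ≤ PrimeSpectrum.asIdeal (R := T[X]) y := by
    intro y hy
    have h1 := PrimeSpectrum.closure_singleton (R := T[X]) b
    exact (PrimeSpectrum.mem_zeroLocus _ _).1 (h1.le hy)
  refine ⟨S, A, O, B, s, π, O.ι ≫ p ≫ V.ι, O.ι ≫ φ₁, i, σ, ⟨v₀, hO⟩, ?_, inferInstance,
    isLine_Spec T, inferInstance, inferInstance, ?_, ?_, ?_, ?_, ?_, ?_, ?_, ?_⟩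
  · rw [HasRingHomProperty.Spec_iff (P := @Smooth)]
    change (algebraMap k T).Smooth
    rw [RingHom.smooth_algebraMap]
    exact hsm
  · rw [Category.assoc, Category.assoc, Category.assoc, ← hwf, ← hms, pullback.condition_assoc]
  · rw [Scheme.Hom.comp_apply, Scheme.Hom.comp_apply]
    change V.ι (p v₀) = v
    rw [hvv]
    rfl
  · exact IsClosedImmersion.spec_of_surjective _ Ideal.Quotient.mk_surjective
  · rw [← Spec.map_comp, IsFinite.SpecMap_iff]
    have h1 := finite_quotient (RingHom.ker φ') Q hQ hlc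
    change (algebraMap T (T[X] ⧸ RingHom.ker φ')).Finite
    exact RingHom.finite_algebraMap.2 h1
  · rw [hi, Scheme.Hom.comp_apply]
    change _ = closure {φ₁ v₀}
    rw [hbv]
  · rw [← Spec.map_comp, ← CommRingCat.ofHom_comp]
    have : (evalRingHom c).comp (C : T →+* T[X]) = RingHom.id T := by
      ext x
      simp
    rw [this]
    exact Spec.map_id _
  · rw [hi, Set.disjoint_left]
    rintro _ ⟨y, rfl⟩ hy
    have h1 : Q ∈ PrimeSpectrum.asIdeal (R := T[X]) (σ y) := hib _ hy hQ
    have h2 : evalRingHom c Q ∈ PrimeSpectrum.asIdeal (R := T) y := h1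
    exact (PrimeSpectrum.isPrime (R := T) y).ne_top (Ideal.eq_top_of_isUnit_mem _ h2 hev)
  · ext x
    rw [Set.mem_preimage, Set.mem_preimage, ← specializes_iff_mem_closure,
      ← specializes_iff_mem_closure]
    have hh : (O.ι ≫ p ≫ V.ι) ⟨v₀, hO⟩ = v := by
      rw [Scheme.Hom.comp_apply, Scheme.Hom.comp_apply]
      change V.ι (p v₀) = v
      rw [hvv]
      rfl
    constructor
    · intro hx
      rw [← hh, (O.ι ≫ p ≫ V.ι).isOpenEmbedding.isInducing.specializes_iff] at hx
      exact hx.map (O.ι ≫ φ₁).continuous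
    · intro hx
      have h1 := hOx (O.ι x) x.2 hx
      rw [← hh]
      exact h1.map (p ≫ V.ι).continuous

section Dim

lemma ringKrullDim_stalk_Spec {R : Type u} [CommRing R] (y : Spec (CommRingCat.of R)) :
    ringKrullDim ((Spec (CommRingCat.of R)).presheaf.stalk y) =
      (PrimeSpectrum.asIdeal (R := R) y).height := by
  let _ : Algebra R ((Spec (CommRingCat.of R)).presheaf.stalk y) :=
    StructureSheaf.stalkAlgebra R y
  have : IsLocalization.AtPrime ((Spec (CommRingCat.of R)).presheaf.stalk y)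
      (PrimeSpectrum.asIdeal (R := R) y) :=
    StructureSheaf.IsLocalization.to_stalk R y
  exact IsLocalization.AtPrime.ringKrullDim_eq_height (PrimeSpectrum.asIdeal (R := R) y) _

open Polynomial in
/-- Dimensions of local rings on the affine line over a Noetherian ring. -/
lemma dim_Spec {R : Type u} [CommRing R] [IsNoetherianRing R]
    (y : Spec (CommRingCat.of R[X])) :
    ringKrullDim ((Spec (CommRingCat.of R[X])).presheaf.stalk y) ≤
      ringKrullDim ((Spec (CommRingCat.of R)).presheaf.stalk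
        (Spec.map (CommRingCat.ofHom (C : R →+* R[X])) y)) + 1 ∧
    ringKrullDim ((Spec (CommRingCat.of R)).presheaf.stalk
        (Spec.map (CommRingCat.ofHom (C : R →+* R[X])) y)) ≤
      ringKrullDim ((Spec (CommRingCat.of R[X])).presheaf.stalk y) := by
  rw [ringKrullDim_stalk_Spec, ringKrullDim_stalk_Spec]
  let P : Ideal R[X] := PrimeSpectrum.asIdeal (R := R[X]) y
  let p : Ideal R := P.comap C
  have hP : P.IsPrime := PrimeSpectrum.isPrime (R := R[X]) y
  have hp : p.IsPrime := inferInstance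
  have hPp : P.LiesOver p := ⟨rfl⟩
  change ((P.height : ℕ∞) : WithBot ℕ∞) ≤ ((p.height : ℕ∞) : WithBot ℕ∞) + 1 ∧
    ((p.height : ℕ∞) : WithBot ℕ∞) ≤ ((P.height : ℕ∞) : WithBot ℕ∞)
  constructor
  · obtain ⟨a, -, ha⟩ := Groth.Agent.Ega4B.DimFT2.exists_height_add_trdeg_polynomial p P
    have h1 : P.height ≤ p.height + 1 := by
      rw [← ha]
      exact le_self_add
    exact_mod_cast h1
  · have h1 := Ideal.height_eq_height_add_of_liesOver_of_hasGoingDown p P
    have h2 : p.height ≤ P.height := by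
      rw [h1]
      exact le_self_add
    exact_mod_cast h2

/-- Dimensions of local rings on a relative affine line. -/
theorem dim_line {A S : Scheme.{u}} [IsLocallyNoetherian S] {π : A ⟶ S}
    (hπ : Groth.Agent.Sga4B.Line.IsLine π) (y : A) :
    ringKrullDim (A.presheaf.stalk y) ≤ ringKrullDim (S.presheaf.stalk (π y)) + 1 ∧
      ringKrullDim (S.presheaf.stalk (π y)) ≤ ringKrullDim (A.presheaf.stalk y) := by
  have hsm : Smooth π := hπ.smooth
  have hA : IsLocallyNoetherian A := LocallyOfFiniteType.isLocallyNoetherian π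
  obtain ⟨R, u, hu, hsub⟩ := Scheme.exists_affine_mem_range_and_range_subset
    (show π y ∈ (⊤ : S.Opens) from trivial)
  obtain ⟨t, ht⟩ := Set.mem_range.1 hsub.1
  obtain ⟨z, hz1, hz2⟩ := Scheme.Pullback.exists_preimage_pullback (f := π) (g := u) y t ht.symm
  have hR : IsLocallyNoetherian (Spec R) := isLocallyNoetherian_of_isOpenImmersion u
  have hRn : IsNoetherianRing R := isLocallyNoetherian_Spec.1 hR
  obtain ⟨e, he, hew⟩ := hπ.of_isPullback (IsPullback.of_hasPullback π u)
  obtain ⟨e', he', hew'⟩ := isLine_Spec R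
  let ε : pullback π u ⟶ Spec (CommRingCat.of (Polynomial R)) := e ≫ inv e'
  have hε : ε ≫ Spec.map (CommRingCat.ofHom (Polynomial.C : R →+* Polynomial R)) =
      pullback.snd π u := by
    rw [← hew, ← hew', Category.assoc, IsIso.inv_hom_id_assoc]
    rfl
  have hPn : IsLocallyNoetherian (Spec (CommRingCat.of (Polynomial R))) := inferInstance
  have h1 := dim_Spec (R := R) (ε z)
  have h2 := Groth.Agent.Etbase.EtaleStalk.ringKrullDim_stalk ε z
  have h3 := Groth.Agent.Etbase.EtaleStalk.ringKrullDim_stalk (pullback.fst π u) z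
  have h4 := Groth.Agent.Etbase.EtaleStalk.ringKrullDim_stalk u t
  have h5 : Spec.map (CommRingCat.ofHom (Polynomial.C : R →+* Polynomial R)) (ε z) = t := by
    rw [← Scheme.Hom.comp_apply, hε]
    exact hz2
  rw [h5, ← h2, h3, hz1] at h1
  rw [← ht, ← h4]
  exact h1

end Dim

end Groth.Agent.Dix.SpChart582B
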