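import Groth.Agent.Etcore.RpushLoc
import Groth.Agent.EtpbcB.EdgeLemma

/-!
# Sections of `R² f_* F` and cohomology classes

`exists_obstruction`: if `R¹ f_* F = 0`, a section `s` of `R² f_* F` over `W` has an obstruction
`o ∈ H³(W, f_* F)`; whenever `o` dies on `W' ⟶ W` there is a class `β ∈ H²(X ×_Y W', F)` such that `s`
vanishes on every `W'' ⟶ W'` on which `β` vanishes.
-/

set_option autoImplicit false
universe u
open CategoryTheory CategoryTheory.Limits AlgebraicGeometry Opposite Abelian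
open scoped Groth.Agent.Etcore.EtInst
open Groth.Agent.Etcore.EtInst

namespace Groth.Agent.Dix.SpEdge972

open Groth.Agent.Etcore Groth.Agent.Etcore.HQ Groth.Agent.Etcore.RpushLoc
open Groth.Agent.EtpbcB Groth.Agent.EtpbcB.EdgeLemma

variable {X Y : Scheme.{u}} (f : X ⟶ Y)

/-- a class whose connecting class restricts to zero restricts to zero, if the middle sheaf is injective -/
theorem res_eq_zero_of_δ {S : ShortComplex (EtCoh.Ab Y)} (hS : S.ShortExact) [Injective S.X₂]
    {W W' : Y.Etale} (a : W' ⟶ W) (n : ℕ) (x : HQ S.X₃ W.hom (n + 1))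
    (h : res S.X₁ a.left (Big.et_w a) (n + 2) (δ hS W.hom (n + 1) x) = 0) :
    res S.X₃ a.left (Big.et_w a) (n + 1) x = 0 := by
  have : Etale W'.hom := W'.prop
  rw [res_δ] at h
  obtain ⟨y, hy⟩ := exists_map_eq hS W'.hom (n + 1) _ h
  rw [← hy, eq_zero_of_injective S.X₂ W'.hom n y, map_zero]

theorem res_eq_zero_of_δ' {S : ShortComplex (EtCoh.Ab X)} (hS : S.ShortExact) [Injective S.X₂]
    {W W' : Y.Etale} (a : W' ⟶ W) (n : ℕ) (x : HQ S.X₃ (pr f W) (n + 1))
    (h : res S.X₁ (mm f a) (mm_pr f a) (n + 2) (δ hS (pr f W) (n + 1) x) = 0) :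
    res S.X₃ (mm f a) (mm_pr f a) (n + 1) x = 0 := by
  rw [res_δ] at h
  obtain ⟨y, hy⟩ := exists_map_eq hS (pr f W') (n + 1) _ h
  rw [← hy, eq_zero_of_injective S.X₂ (pr f W') n y, map_zero]

theorem injective_push (I : EtCoh.Ab X) [Injective I] : Injective ((EtCoh.push f).obj I) :=
  have := pfl f
  Injective.injective_of_adjoint (EtCoh.pullPushAdj f) I

theorem shortExact_push {S : ShortComplex (EtCoh.Ab X)} (hS : S.ShortExact)
    (h1 : IsZero ((EtCoh.Rpush f 1).obj S.X₁)) : (S.map (EtCoh.push f)).ShortExact :=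
  { exact := hS.exact.map_of_mono_of_preservesKernel (EtCoh.push f) hS.mono_f inferInstance
    mono_f := have := hS.mono_f; inferInstanceAs (Mono ((EtCoh.push f).map S.f))
    epi_g := DerLES.epi_map_g (EtCoh.push f) hS h1 }

theorem sec_eq_zero_iff (F : EtCoh.Ab Y) (W : Y.Etale) (s : EtCoh.sect F W) :
    sec F W.hom (𝟙 W.left) (Category.id_comp _) s = 0 ↔ s = 0 := by
  constructor
  · intro h
    apply (sec_bijective F W).1
    rw [h, sec_zero]
  · rintro rfl
    exact sec_zero _ _ _ _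

variable (F : EtCoh.Ab X)

/-- the cokernel computing `R² f_* F` -/
noncomputable abbrev CC : EtCoh.Ab Y := cokernel (kap (EtCoh.push f) (injSeq (injSeq F).X₃))

theorem nonempty_iso : Nonempty ((EtCoh.Rpush f 2).obj F ≅ CC f F) := by
  obtain ⟨e1⟩ := DerLES.nonempty_iso_of_injective (EtCoh.push f) (injSeq_shortExact F) 0
  obtain ⟨e2⟩ := nonempty_iso_coker (R := EtCoh.push f) (injSeq_shortExact (injSeq F).X₃)
  exact ⟨e1 ≪≫ e2⟩

theorem exists_obstruction_coker (h1 : IsZero ((EtCoh.Rpush f 1).obj F)) (W : Y.Etale)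
    (s : EtCoh.sect (CC f F) W) :
    ∃ o : HQ ((EtCoh.push f).obj F) W.hom 3, ∀ (W' : Y.Etale) (a : W' ⟶ W),
      res _ a.left (Big.et_w a) 3 o = 0 → ∃ β : HQ F (pr f W') 2, ∀ (W'' : Y.Etale) (b : W'' ⟶ W'),
        res F (mm f b) (mm_pr f b) 2 β = 0 → (CC f F).obj.map (b ≫ a).op s = 0 := by
  have hS := injSeq_shortExact F
  have hT := injSeq_shortExact (injSeq F).X₃
  have hA := shortExact_push f hS h1
  have hB := shortExact_T (R := EtCoh.push f) hT
  have hK := shortExact_K (R := EtCoh.push f) hT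
  have i1 : Injective ((injSeq F).map (EtCoh.push f)).X₂ := injective_push f (injSeq F).X₂
  have i2 : Injective (T (EtCoh.push f) (injSeq (injSeq F).X₃)).X₂ :=
    injective_push f (injSeq (injSeq F).X₃).X₂
  let x : HQ (CC f F) W.hom 0 := sec (CC f F) W.hom (𝟙 W.left) (Category.id_comp _) s
  refine ⟨δ hA W.hom 2 (δ hB W.hom 1 (δ hK W.hom 0 x)), fun W' a ho => ?_⟩
  have h2 := res_eq_zero_of_δ hA a 1 _ ho
  have h3 := res_eq_zero_of_δ hB a 0 _ h2
  have h4 : δ hK W'.hom 0 (res _ a.left (Big.et_w a) 0 x) = 0 :=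
    (res_δ hK a.left (Big.et_w a) 0 x).symm.trans h3
  obtain ⟨y, hy⟩ := exists_map_eq hK W'.hom 0 _ h4
  obtain ⟨t, rfl⟩ := (sec_bijective _ W').2 y
  have hst : (CC f F).obj.map a.op s =
      (cokernel.π (kap (EtCoh.push f) (injSeq (injSeq F).X₃))).hom.app (op W') t := by
    apply (sec_bijective (CC f F) W').1
    have e1 := res_sec (CC f F) a.left (Big.et_w a) (𝟙 W.left) (Category.id_comp _) a.left
      (Big.et_w a) (Category.comp_id _) s
    have e2 := sec_res (CC f F) W'.hom (𝟙 W'.left) (Category.id_comp _) a a.left (Big.et_w a)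
      (Category.id_comp _) s
    have e3 := map_sec (cokernel.π (kap (EtCoh.push f) (injSeq (injSeq F).X₃))) W'.hom
      (𝟙 W'.left) (Category.id_comp _) t
    exact e2.trans (e1.symm.trans (hy.symm.trans e3))
  let t' : EtCoh.sect (injSeq (injSeq F).X₃).X₃ ((EtCoh.bc f).obj W') := t
  refine ⟨δ hS (pr f W') 1 (δ hT (pr f W') 0 (secP f (injSeq (injSeq F).X₃).X₃ W' t')),
    fun W'' b hβ => ?_⟩
  have h5 := res_eq_zero_of_δ' f hS b 0 _ hβ
  have h6 : δ hT (pr f W'') 0 (res _ (mm f b) (mm_pr f b) 0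
      (secP f (injSeq (injSeq F).X₃).X₃ W' t')) = 0 :=
    (res_δ hT (mm f b) (mm_pr f b) 0 _).symm.trans h5
  obtain ⟨z, hz⟩ := exists_map_eq hT (pr f W'') 0 _ h6
  obtain ⟨z, rfl⟩ := (secP_bijective f _ W'').2 z
  have h7 : (injSeq (injSeq F).X₃).X₃.obj.map ((EtCoh.bc f).map b).op t' =
      (injSeq (injSeq F).X₃).g.hom.app (op ((EtCoh.bc f).obj W'')) z := by
    apply (secP_bijective f _ W'').1
    rw [← res_secP, ← hz, map_secP]
  have h8 : ((EtCoh.push f).obj (injSeq (injSeq F).X₃).X₃).obj.map b.op t =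
      ((EtCoh.push f).map (injSeq (injSeq F).X₃).g).hom.app (op W'') z := h7
  have h9 : (EtCoh.push f).map (injSeq (injSeq F).X₃).g ≫
      cokernel.π (kap (EtCoh.push f) (injSeq (injSeq F).X₃)) = 0 := by
    rw [← π_kap (R := EtCoh.push f) (S := injSeq (injSeq F).X₃), Category.assoc,
      cokernel.condition, comp_zero]
  have h10 : (CC f F).obj.map (b ≫ a).op s = (CC f F).obj.map b.op ((CC f F).obj.map a.op s) :=
    (Big.et_map_map (CC f F) b a s).symm
  have h11 := ConcreteCategory.congr_hom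
    ((cokernel.π (kap (EtCoh.push f) (injSeq (injSeq F).X₃))).hom.naturality b.op) t
  have h12 : (CC f F).obj.map b.op
      ((cokernel.π (kap (EtCoh.push f) (injSeq (injSeq F).X₃))).hom.app (op W') t) =
      (cokernel.π (kap (EtCoh.push f) (injSeq (injSeq F).X₃))).hom.app (op W'')
        (((EtCoh.push f).obj (injSeq (injSeq F).X₃).X₃).obj.map b.op t) := h11.symm
  rw [h10, hst, h12, h8]
  have h13 := congrArg (fun k => k.hom.app (op W'') z) h9
  exact h13

/-- **Sections of `R² f_* F` versus classes in `H²`.** -/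
theorem exists_obstruction (h1 : IsZero ((EtCoh.Rpush f 1).obj F)) (W : Y.Etale)
    (s : EtCoh.sect ((EtCoh.Rpush f 2).obj F) W) :
    ∃ o : HQ ((EtCoh.push f).obj F) W.hom 3, ∀ (W' : Y.Etale) (a : W' ⟶ W),
      res _ a.left (Big.et_w a) 3 o = 0 → ∃ β : HQ F (pr f W') 2, ∀ (W'' : Y.Etale) (b : W'' ⟶ W'),
        res F (mm f b) (mm_pr f b) 2 β = 0 →
          ((EtCoh.Rpush f 2).obj F).obj.map (b ≫ a).op s = 0 := by
  obtain ⟨e⟩ := nonempty_iso f F
  obtain ⟨o, ho⟩ := exists_obstruction_coker f F h1 W (e.hom.hom.app (op W) s)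
  refine ⟨o, fun W' a h => ?_⟩
  obtain ⟨β, hβ⟩ := ho W' a h
  refine ⟨β, fun W'' b hb => ?_⟩
  have h2 := hβ W'' b hb
  have h3 : (CC f F).obj.map (b ≫ a).op (e.hom.hom.app (op W) s) =
      e.hom.hom.app (op W'') (((EtCoh.Rpush f 2).obj F).obj.map (b ≫ a).op s) :=
    (ConcreteCategory.congr_hom (e.hom.hom.naturality (b ≫ a).op) s).symm
  have h4 : e.hom.hom.app (op W'') (((EtCoh.Rpush f 2).obj F).obj.map (b ≫ a).op s) = 0 :=
    h3.symm.trans h2
  have h5 : e.inv.hom.app (op W'') (e.hom.hom.app (op W'')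
      (((EtCoh.Rpush f 2).obj F).obj.map (b ≫ a).op s)) =
        ((EtCoh.Rpush f 2).obj F).obj.map (b ≫ a).op s :=
    congrArg (fun k => k.hom.app (op W'') (((EtCoh.Rpush f 2).obj F).obj.map (b ≫ a).op s))
      e.hom_inv_id
  rw [← h5, h4, map_zero]

end Groth.Agent.Dix.SpEdge972
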