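/-
Two facts on étale cohomology of a sheaf, elementwise:
* `exists_nbhd`: classes of positive degree die étale locally;
* `exists_extension`: for an open immersion `j : U ⟶ X`, a sheaf `F` with `F = j_* j^* F` and `R^1 j_* j^* F = 0`,
  a class in `H^2(U, F)` which dies étale locally on `X` extends to `X`.
-/
import Groth.Agent.Etcore.RpushLoc
import Groth.Agent.Etbase.EtSite
import Groth.Agent.Sga5.BrAbs
import Groth.Agent.Sga4B.ExtCmpSquare
import Groth.Agent.Sga4h.EtaleRes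
import Groth.Agent.Etcore.ShriekBasic

set_option autoImplicit false
universe u
open CategoryTheory CategoryTheory.Limits AlgebraicGeometry Opposite Abelian
open scoped Groth.Agent.Etcore.EtInst
open Groth.Agent.Etcore.EtInst

namespace Groth.Agent.Dix.SpExt736

open Groth.Agent.Etcore Groth.Agent.Etcore.HpullCalc Groth.Agent.Etcore.HQ Groth.Agent.Etcore.RpushLoc
open Groth.Agent.Etbase Groth.Agent.Sga5

attribute [local instance] HQ.pfl

variable {X : Scheme.{u}}

section Nbhd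

variable {S : ShortComplex (EtCoh.Ab X)} (hS : S.ShortExact)

/-- Classes on the schemes étale over `X` die locally. -/
def LocZ (F : EtCoh.Ab X) (n : ℕ) : Prop :=
  ∀ (V : X.Etale) (ξ : HQ F V.hom n) (v : V.left),
    ∃ (V' : X.Etale) (k : V' ⟶ V) (v' : V'.left), k.left v' = v ∧
      res F k.left (EtpbcB.Big.et_w k) n ξ = 0

include hS in
theorem locZ_one (hI : ∀ (V : X.Etale) (x : HQ S.X₂ V.hom 1), x = 0) : LocZ S.X₁ 1 := by
  intro V ξ v
  obtain ⟨η, hη⟩ := exists_δ_eq hS V.hom 0 ξ (hI V _)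
  obtain ⟨s, rfl⟩ := (sec_bijective S.X₃ V).2 η
  obtain ⟨V', k, v', hv', t, ht⟩ :=
    (EtpbcA.StalkTools.epi_iff_locIm S.g).1 hS.epi_g V s v
  refine ⟨V', k, v', hv', ?_⟩
  have e1 : res S.X₃ k.left (EtpbcB.Big.et_w k) 0 (sec S.X₃ V.hom (𝟙 V.left) (Category.id_comp _) s) =
      sec S.X₃ V'.hom (𝟙 V'.left) (Category.id_comp _) (S.X₃.obj.map k.op s) :=
    (res_sec S.X₃ k.left (EtpbcB.Big.et_w k) (𝟙 _) (Category.id_comp _) k.left (EtpbcB.Big.et_w k)
      (Category.comp_id _) s).trans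
      (sec_res S.X₃ V'.hom (𝟙 _) (Category.id_comp _) k k.left (EtpbcB.Big.et_w k)
        (Category.id_comp _) s).symm
  have e2 : sec S.X₃ V'.hom (𝟙 V'.left) (Category.id_comp _) (S.X₃.obj.map k.op s) =
      HQ.map S.g V'.hom 0 (sec S.X₂ V'.hom (𝟙 V'.left) (Category.id_comp _) t) := by
    rw [map_sec]
    exact congrArg _ ht.symm
  rw [← hη, res_δ, e1, e2, δ_map]

include hS in
theorem locZ_succ (n : ℕ) (hI : ∀ (V : X.Etale) (x : HQ S.X₂ V.hom (n + 1)), x = 0)
    (h : LocZ S.X₃ n) : LocZ S.X₁ (n + 1) := by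
  intro V ξ v
  obtain ⟨η, hη⟩ := exists_δ_eq hS V.hom n ξ (hI V _)
  obtain ⟨V', k, v', hv', h0⟩ := h V η v
  refine ⟨V', k, v', hv', ?_⟩
  rw [← hη, res_δ, h0, map_zero]

theorem locZ (F : EtCoh.Ab X) (n : ℕ) : LocZ F (n + 1) := by
  induction n generalizing F with
  | zero => exact locZ_one (injSeq_shortExact F) (fun V x => eq_zero_of_injective _ _ 0 x)
  | succ n ih =>
    exact locZ_succ (injSeq_shortExact F) (n + 1) (fun V x => eq_zero_of_injective _ _ _ x) (ih _)

/-- **Classes of positive degree die étale locally.** -/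
theorem exists_nbhd (G : EtCoh.Ab X) (n : ℕ) (x : HH X G (n + 1)) (z : X) :
    ∃ (V : X.Etale) (v : V.left), V.hom v = z ∧ hp V.hom G (n + 1) x = 0 := by
  obtain ⟨V, k, v, hv, h⟩ := locZ G n (EtCoh.top X) (hp (𝟙 X) G (n + 1) x) z
  have hk : k.left = V.hom := (Category.comp_id k.left).symm.trans (EtpbcB.Big.et_w k)
  refine ⟨V, v, ?_, ?_⟩
  · rw [← hk]
    exact hv
  · rw [res_apply] at h
    exact (hp_comp_th k.left (𝟙 X) V.hom (EtpbcB.Big.et_w k) G (n + 1) x).symm.trans h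

end Nbhd

section Good

open Groth.Agent.Sga4B.ExtCmp BrAbs

universe w w' v v' u₁ u₂

variable {C : Type u₁} [Category.{v} C] [Abelian C] [HasExt.{w} C]
variable {D : Type u₂} [Category.{v'} D] [Abelian D] [HasExt.{w'} D] [EnoughInjectives D]
variable {L : C ⥤ D} [L.Additive] [PreservesFiniteLimits L] [PreservesFiniteColimits L]
variable {R : D ⥤ C} [R.Additive] [PreservesFiniteLimits R] (adj : L ⊣ R)

omit [EnoughInjectives D] in
theorem cmp_id_eq {A F : C} {n : ℕ} :
    (cmp L (𝟙 (L.obj A)) F n : Ext.{w} A F n → Ext.{w'} (L.obj A) (L.obj F) n) =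
      Ext.mapExactFunctor L := by
  funext x
  rw [cmp_apply, Ext.mk₀_id_comp]

include adj in
theorem good_of_vanish (hc : ∀ M, IsIso (adj.counit.app M)) (N : ℕ) (F : C)
    [IsIso (adj.unit.app F)] (h : LowLeray.Vanish R N (L.obj F)) : Good.{w, w'} L N F := by
  intro A
  obtain ⟨h1, h2⟩ := LowLeray.main (R := R) adj (𝟙 (L.obj A)) hc N (L.obj F) h
  let α : R.obj (L.obj F) ≅ F := (asIso (adj.unit.app F)).symm
  have hinj : ∀ n ≤ N + 1, Function.Injective (cmp L (𝟙 (L.obj A)) (R.obj (L.obj F)) n :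
      Ext.{w} A (R.obj (L.obj F)) n → Ext.{w'} (L.obj A) _ n) := by
    intro n hn
    rcases Nat.lt_or_ge N n with h | h
    · obtain rfl : n = N + 1 := by omega
      exact h2
    · exact (h1 n h).1
  refine ⟨fun n hn => ?_, ?_⟩
  · rw [← cmp_id_eq]
    exact ⟨injective_of_iso L _ α n (hinj n (by omega)), surjective_of_iso L _ α n (h1 n hn).2⟩
  · rw [← cmp_id_eq]
    exact injective_of_iso L _ α _ (hinj _ le_rfl)

omit [HasExt.{w} C] in
/-- A morphism `g : A ⟶ R.obj P` which dies in the cokernel of `R.obj J ⟶ R.obj P` lifts to `R.obj J` on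
an epimorphism. -/
theorem exists_epi_lift {A B B' : C} (g : A ⟶ B) (q : B' ⟶ B) (h : g ≫ cokernel.π q = 0) :
    ∃ (A' : C) (p : A' ⟶ A) (_ : Epi p) (l : A' ⟶ B'), p ≫ g = l ≫ q := by
  let g' : A ⟶ Abelian.image q := kernel.lift _ g h
  have h1 : g' ≫ Abelian.image.ι q = g := kernel.lift_ι _ _ _
  refine ⟨pullback g' (Abelian.factorThruImage q), pullback.fst _ _, inferInstance, pullback.snd _ _, ?_⟩
  have h2 : pullback.fst g' (Abelian.factorThruImage q) ≫ g' ≫ Abelian.image.ι q =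
      pullback.snd g' (Abelian.factorThruImage q) ≫ q := by
    rw [← Category.assoc, pullback.condition, Category.assoc, Abelian.image.fac]
  exact (congrArg (fun t => pullback.fst g' (Abelian.factorThruImage q) ≫ t) h1).symm.trans h2

omit [EnoughInjectives D] [PreservesFiniteLimits R] [R.Additive] in
/-- The extension lemma, abstractly. -/
theorem exists_of_lift {A F : C} (hF : Good.{w, w'} L 1 F) {I Q J P : D} {f : L.obj F ⟶ I} {g : I ⟶ Q}
    {w₁ : f ≫ g = 0} (hI : (ShortComplex.mk f g w₁).ShortExact) {f' : Q ⟶ J} {g' : J ⟶ P}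
    {w₂ : f' ≫ g' = 0} (hJ : (ShortComplex.mk f' g' w₂).ShortExact) (p : L.obj A ⟶ P)
    (z : Ext.{w'} (L.obj A) Q 1) (hz : (Ext.mk₀ p).comp hJ.extClass (zero_add 1) = z)
    (y : Ext.{w'} (L.obj A) (L.obj F) 2) (hy : z.comp hI.extClass (rfl : 1 + 1 = 2) = y)
    (h : adj.homEquiv _ _ p ≫ cokernel.π (R.map g') = 0) :
    ∃ x : Ext.{w} A F 2, x.mapExactFunctor L = y := by
  obtain ⟨A', π, hπ, l, hl⟩ := exists_epi_lift _ _ h
  have h1 : L.map π ≫ p = (adj.homEquiv _ _).symm l ≫ g' := by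
    apply (adj.homEquiv _ _).injective
    rw [adj.homEquiv_naturality_left, hl, adj.homEquiv_naturality_right, Equiv.apply_symm_apply]
  have h2 : (Ext.mk₀ (L.map π)).comp z (zero_add 1) = 0 := by
    rw [← hz, ← Ext.comp_assoc (Ext.mk₀ (L.map π)) (Ext.mk₀ p) hJ.extClass (zero_add 0) (zero_add 1)
      (by omega), Ext.mk₀_comp_mk₀, h1, ← Ext.mk₀_comp_mk₀,
      Ext.comp_assoc (Ext.mk₀ ((adj.homEquiv _ _).symm l)) (Ext.mk₀ g') hJ.extClass (zero_add 0)
        (zero_add 1) (by omega)]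
    have h3 : (Ext.mk₀ g').comp hJ.extClass (zero_add 1) = 0 := hJ.comp_extClass
    rw [h3, Ext.comp_zero]
  refine exists_of_locally_zero hF π y ?_
  rw [← hy, ← Ext.comp_assoc (Ext.mk₀ (L.map π)) z hI.extClass (zero_add 1) (rfl : 1 + 1 = 2)
    (by omega), h2, Ext.zero_comp]

end Good

section Ext

/-- The class of a pulled back section. -/
theorem hp_sec {Y Z : Scheme.{u}} (f : Z ⟶ Y) (G : EtCoh.Ab Y) (x : HH Y G 0) :
    hp f G 0 x = sec G f (W := EtCoh.top Y) f (Category.comp_id _) (H0 Y G x) := by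
  apply (H0 Z ((EtCoh.pull f).obj G)).injective
  rw [hp_zero, H0_sec, unitSec_apply]

theorem hp_δ {Y Z : Scheme.{u}} (f : Z ⟶ Y) {S : ShortComplex (EtCoh.Ab Y)} (hS : S.ShortExact) (n : ℕ)
    (x : HH Y S.X₃ n) :
    hp f S.X₁ (n + 1) (Ext.comp x hS.extClass rfl) = δ hS f n (hp f S.X₃ n x) :=
  hp_extClass f hS rfl x

/-- Global sections of `j_* P` and of `P`. -/
theorem H0_homEquiv {U : Scheme.{u}} (j : U ⟶ X) (P : EtCoh.Ab U) (p : EtCoh.const U ℤ ⟶ P) :
    H0 U P (Ext.mk₀ p) = P.obj.map (EtCore.bcTopIso j).inv.op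
      (H0 X ((EtCoh.push j).obj P) (Ext.mk₀
        ((EtCoh.pullPushAdj j).homEquiv _ _ ((EtCore.pullConst j ℤ).hom ≫ p)))) := by
  set g := (EtCoh.pullPushAdj j).homEquiv _ _ ((EtCore.pullConst j ℤ).hom ≫ p) with hg
  have h0 : (EtCoh.pull j).map g ≫ (EtCoh.pullPushAdj j).counit.app P =
      (EtCore.pullConst j ℤ).hom ≫ p := by
    have h := (EtCoh.pullPushAdj j).homEquiv_counit (X := EtCoh.const X ℤ) (Y := P) (g := g)
    exact h.symm.trans (((EtCoh.pullPushAdj j).homEquiv _ _).symm_apply_apply _)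
  have h1 := constAdj_homEquiv_pullConstIso_inv j (AddCommGrpCat.of (ULift.{u+1} ℤ))
    (G := (EtCoh.push j).obj P) g
  have h2 : (EtCore.constAdj U).homEquiv _ _ p =
      (EtCore.constAdj X).homEquiv _ _ g ≫ (EtCore.pushGsecIso j).hom.app P := by
    have h3 : p = ((EtCore.pullConst j ℤ).inv ≫ (EtCoh.pull j).map g) ≫
        (EtCoh.pullPushAdj j).counit.app P := by
      rw [Category.assoc, h0, Iso.inv_hom_id_assoc]
    have h4 : (EtCore.constAdj U).homEquiv _ _ (((EtCore.pullConst j ℤ).inv ≫ (EtCoh.pull j).map g) ≫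
        (EtCoh.pullPushAdj j).counit.app P) =
        (EtCore.constAdj U).homEquiv _ _ ((EtCore.pullConst j ℤ).inv ≫ (EtCoh.pull j).map g) ≫
          (EtCore.gsec U).map ((EtCoh.pullPushAdj j).counit.app P) :=
      Adjunction.homEquiv_naturality_right _ _ _
    have h5 : unitSec j ((EtCoh.push j).obj P) ≫ (EtCore.gsec U).map ((EtCoh.pullPushAdj j).counit.app P) =
        (EtCore.pushGsecIso j).hom.app P := by
      have h6 := (EtCore.pushGsecIso j).hom.naturality ((EtCoh.pullPushAdj j).counit.app P)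
      have h7 := (EtCoh.pullPushAdj j).right_triangle_components P
      rw [unitSec, Category.assoc]
      refine (congrArg (fun t => (EtCore.gsec X).map _ ≫ t) h6.symm).trans ?_
      rw [← Category.assoc]
      refine (congrArg (fun t => t ≫ _) (((EtCore.gsec X).map_comp _ _).symm.trans
        (congrArg (EtCore.gsec X).map h7))).trans ?_
      rw [CategoryTheory.Functor.map_id]
      exact Category.id_comp _
    calc (EtCore.constAdj U).homEquiv _ _ p = _ := congrArg _ h3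
      _ = _ := h4
      _ = _ := congrArg (fun t => t ≫ _) h1
      _ = _ := Category.assoc _ _ _
      _ = _ := congrArg (fun t => _ ≫ t) h5
  rw [H0_mk₀, H0_mk₀, h2]
  rfl

variable {U : Scheme.{u}} (j : U ⟶ X)

theorem exists_lift_loc {M Q J : EtCoh.Ab U} {f : M ⟶ J} {g : J ⟶ Q} {w : f ≫ g = 0}
    (hJ : (ShortComplex.mk f g w).ShortExact) (V : X.Etale) (p : EtCoh.const U ℤ ⟶ Q)
    (h : hp (pr j V) M 1 ((Ext.mk₀ p).comp hJ.extClass (zero_add 1)) = 0) :
    ∃ t : EtCoh.sect J ((EtCoh.bc j).obj V), g.hom.app (op ((EtCoh.bc j).obj V)) t =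
      Q.obj.map ((EtCore.topIsTerminal U).from ((EtCoh.bc j).obj V)).op (H0 U Q (Ext.mk₀ p)) := by
  have h1 : δ hJ (pr j V) 0 (hp (pr j V) Q 0 (Ext.mk₀ p)) = 0 :=
    (hp_δ (pr j V) hJ 0 (Ext.mk₀ p)).symm.trans h
  obtain ⟨w', hw'⟩ := exists_map_eq hJ (pr j V) 0 _ h1
  obtain ⟨t, rfl⟩ := (secP_bijective j J V).2 w'
  refine ⟨t, ?_⟩
  apply (secP_bijective j Q V).1
  have h2 := map_secP j g V t
  have hc : ((EtCore.topIsTerminal U).from ((EtCoh.bc j).obj V)).left = pr j V :=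
    (Category.comp_id _).symm.trans (EtpbcB.Big.et_w ((EtCore.topIsTerminal U).from ((EtCoh.bc j).obj V)))
  have h3 : secP j Q V (Q.obj.map ((EtCore.topIsTerminal U).from ((EtCoh.bc j).obj V)).op
      (H0 U Q (Ext.mk₀ p))) = hp (pr j V) Q 0 (Ext.mk₀ p) := by
    rw [hp_sec]
    exact sec_res Q (pr j V) (𝟙 _) (Category.id_comp _)
      ((EtCore.topIsTerminal U).from ((EtCoh.bc j).obj V)) (pr j V) (Category.comp_id _)
      ((Category.id_comp _).trans hc) _
  rw [h3, ← h2]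
  exact hw'

theorem comp_π_eq_zero {J P : EtCoh.Ab U} (g : J ⟶ P) (p : EtCoh.const U ℤ ⟶ P)
    (h : ∀ x : X, ∃ (V : X.Etale) (v : V.left), V.hom v = x ∧
      ∃ t : EtCoh.sect J ((EtCoh.bc j).obj V), g.hom.app (op ((EtCoh.bc j).obj V)) t =
        P.obj.map ((EtCore.topIsTerminal U).from ((EtCoh.bc j).obj V)).op (H0 U P (Ext.mk₀ p))) :
    (EtCoh.pullPushAdj j).homEquiv _ _ ((EtCore.pullConst j ℤ).hom ≫ p) ≫
      cokernel.π ((EtCoh.push j).map g) = 0 := by
  set γ := (EtCoh.pullPushAdj j).homEquiv _ _ ((EtCore.pullConst j ℤ).hom ≫ p) with hγ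
  set π := cokernel.π ((EtCoh.push j).map g) with hπ
  apply (Ext.mk₀_bijective _ _).1
  apply (H0 X _).injective
  rw [Ext.mk₀_zero, map_zero, ← Ext.mk₀_comp_mk₀]
  have e1 := H0_map π (Ext.mk₀ γ)
  rw [HHmap_apply] at e1
  rw [e1]
  apply EtSite.sect_eq_zero
  intro x
  obtain ⟨V, v, hv, t, ht⟩ := h x
  have hk : ((EtCore.topIsTerminal X).from V).left = V.hom :=
    (Category.comp_id _).symm.trans (EtpbcB.Big.et_w ((EtCore.topIsTerminal X).from V))
  refine ⟨V, (EtCore.topIsTerminal X).from V, v, ?_, ?_⟩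
  · rw [hk]
    exact hv
  · have e2 := ConcreteCategory.congr_hom (π.hom.naturality ((EtCore.topIsTerminal X).from V).op)
      (H0 X ((EtCoh.push j).obj P) (Ext.mk₀ γ))
    refine e2.symm.trans ?_
    have e3 : ((EtCoh.push j).obj P).obj.map ((EtCore.topIsTerminal X).from V).op
        (H0 X ((EtCoh.push j).obj P) (Ext.mk₀ γ)) =
        ((EtCoh.push j).map g).hom.app (op V) t := by
      have e4 : ((EtCoh.push j).map g).hom.app (op V) t = P.obj.map
          ((EtCore.topIsTerminal U).from ((EtCoh.bc j).obj V)).op (H0 U P (Ext.mk₀ p)) := ht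
      have e5 : ((EtCore.topIsTerminal U).from ((EtCoh.bc j).obj V)) ≫ (EtCore.bcTopIso j).inv =
          (EtCoh.bc j).map ((EtCore.topIsTerminal X).from V) :=
        (EtCore.bcTopIsTerminal j).hom_ext _ _
      rw [e4, H0_homEquiv j P p, ← hγ]
      change P.obj.map ((EtCoh.bc j).map ((EtCore.topIsTerminal X).from V)).op _ =
        (P.obj.map (EtCore.bcTopIso j).inv.op ≫
          P.obj.map ((EtCore.topIsTerminal U).from ((EtCoh.bc j).obj V)).op) _
      rw [← Functor.map_comp, ← op_comp, e5]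
    have e6 : π.hom.app (op V) (((EtCoh.push j).map g).hom.app (op V) t) = 0 := by
      have e7 : (EtCoh.push j).map g ≫ π = 0 := cokernel.condition _
      exact congrArg (fun ψ => ψ.hom.app (op V) t) e7
    exact (congrArg (fun s => π.hom.app (op V) s) e3).trans e6

/-- **Extension of locally trivial classes of degree two.** -/
theorem exists_extension [IsOpenImmersion j] (F : EtCoh.Ab X)
    [IsIso ((EtCoh.pullPushAdj j).unit.app F)]
    (h1 : IsZero ((EtCoh.Rpush j 1).obj ((EtCoh.pull j).obj F)))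
    (y : HH U ((EtCoh.pull j).obj F) 2)
    (hy : ∀ x : X, ∃ (V : X.Etale) (v : V.left), V.hom v = x ∧
      hp (pr j V) ((EtCoh.pull j).obj F) 2 y = 0) :
    ∃ x : HH X F 2, hp j F 2 x = y := by
  have hjc : EtShriek.JCont j := Groth.Agent.Sga4h.EtaleRes.jCont j
  have hgood : BrAbs.Good.{u + 1, u + 1} (EtCoh.pull j) 1 F := by
    refine good_of_vanish (EtCoh.pullPushAdj j) (fun M => inferInstance) 1 F ?_
    intro q hq1 hq2
    obtain rfl : q = 1 := by omega
    exact h1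
  have hI := injSeq_shortExact ((EtCoh.pull j).obj F)
  have hJ := injSeq_shortExact (injSeq ((EtCoh.pull j).obj F)).X₃
  obtain ⟨z, hz⟩ := Ext.covariant_sequence_exact₁ (EtCoh.const U ℤ) hI y
    (Ext.eq_zero_of_injective _) (n₀ := 1) rfl
  obtain ⟨p₀, hp₀⟩ := Ext.covariant_sequence_exact₁ (EtCoh.const U ℤ) hJ z
    (Ext.eq_zero_of_injective _) (n₀ := 0) rfl
  obtain ⟨p, rfl⟩ := (Ext.mk₀_bijective _ _).2 p₀
  obtain ⟨x, hx⟩ := exists_of_lift (EtCoh.pullPushAdj j) (A := EtCoh.const X ℤ) hgood hI hJ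
    ((EtCore.pullConst j ℤ).hom ≫ p) ((Ext.mk₀ (EtCore.pullConst j ℤ).hom).comp z (zero_add 1))
    (by rw [← hp₀, ← Ext.mk₀_comp_mk₀]
        exact Ext.comp_assoc _ _ _ (zero_add 0) (zero_add 1) (by omega))
    ((Ext.mk₀ (EtCore.pullConst j ℤ).hom).comp y (zero_add 2))
    (by rw [← hz]
        exact Ext.comp_assoc _ _ _ (zero_add 1) (rfl : 1 + 1 = 2) (by omega))
    (comp_π_eq_zero j _ p (fun x => by
      obtain ⟨V, v, hv, h0⟩ := hy x
      refine ⟨V, v, hv, exists_lift_loc j hJ V p ?_⟩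
      have e1 : δ hI (pr j V) 1 (hp (pr j V) _ 1 z) = 0 := by
        refine (hp_δ (pr j V) hI 1 z).symm.trans ?_
        exact (congrArg (fun t => hp (pr j V) _ 2 t) hz).trans h0
      obtain ⟨w', hw'⟩ := exists_map_eq hI (pr j V) 1 _ e1
      rw [eq_zero_of_injective _ _ 0 w', map_zero] at hw'
      exact (congrArg (fun t => hp (pr j V) _ 1 t) hp₀).trans hw'.symm))
  refine ⟨x, ?_⟩
  rw [hp_apply, hx, ← Ext.comp_assoc _ _ _ (zero_add 0) (zero_add 2) (by omega), Ext.mk₀_comp_mk₀,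
    Iso.inv_hom_id, Ext.mk₀_id_comp]

end Ext

end Groth.Agent.Dix.SpExt736
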