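import Groth.Agent.Sga4h.FinRedOC
import Groth.Agent.Sga4h.FinCounit

/-!
# Sheaves supported on a closed subscheme finite over the base

* `isZero_of_push` : `G` on `A` supported on a closed subscheme finite over `S` with `π_* G = 0` is zero;
* `isZero_pull_Rpush` : `j^* R^q j_* = 0` for `q ≥ 1` and `j` an open immersion.
-/

set_option autoImplicit false
universe u
open CategoryTheory CategoryTheory.Limits AlgebraicGeometry Opposite

namespace Groth.Agent.Dix.SpFin736

/-- `f_*` reflects zero objects for `f` finite. -/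
theorem isZero_of_isZero_push_finite {X Y : Scheme.{u}} (f : X ⟶ Y) [IsFinite f] (F : EtCoh.Ab X)
    (h : IsZero ((EtCoh.push f).obj F)) : IsZero F :=
  Sga4h.FinCounit.isZero_of_isZero_push f F h

theorem isZero_of_push {A S B U : Scheme.{u}} (π : A ⟶ S) (i : B ⟶ A) [IsClosedImmersion i]
    [IsFinite (i ≫ π)] (j : U ⟶ A) [IsOpenImmersion j] (hj : Set.range j = (Set.range i)ᶜ)
    (G : EtCoh.Ab A) (hG : IsZero ((EtCoh.pull j).obj G)) (h : IsZero ((EtCoh.push π).obj G)) :
    IsZero G := by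
  have hc : IsCompl (Set.range i) (Set.range j) := by
    rw [hj]
    exact isCompl_compl
  have hu := Sga4h.FinRed.isIso_unit_of_isZero j i hc G hG
  let e : G ≅ (EtCoh.push i).obj ((EtCoh.pull i).obj G) :=
    asIso ((EtCoh.pullPushAdj i).unit.app G)
  have h1 : IsZero ((EtCoh.push (i ≫ π)).obj ((EtCoh.pull i).obj G)) :=
    (h.of_iso ((EtCoh.push π).mapIso e.symm)).of_iso
      ((EtCoh.pushComp π i).symm.app ((EtCoh.pull i).obj G))
  have h2 := isZero_of_isZero_push_finite (i ≫ π) _ h1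
  exact ((EtCoh.push i).map_isZero h2).of_iso e

theorem isZero_pull_Rpush {U A : Scheme.{u}} (j : U ⟶ A) [IsOpenImmersion j] (F : EtCoh.Ab U) (q : ℕ)
    (hq : 1 ≤ q) : IsZero ((EtCoh.pull j).obj ((EtCoh.Rpush j q).obj F)) := by
  obtain ⟨q, rfl⟩ : ∃ r, q = r + 1 := ⟨q - 1, by omega⟩
  exact Sga4h.FinRed.isZero_pull_Rpush j F q

end Groth.Agent.Dix.SpFin736
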