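import Groth.Agent.CohqA.AffineVanish
import Groth.Agent.CohqA.SheafHLocal
import Groth.Agent.FormalB.OpenMV
import Groth.Agent.CohqB.QC2
import Mathlib.LinearAlgebra.Dimension.Free

/-!
# `H^1` of an `O_X`-module on a scheme covered by two opens

`delta : Γ(M, U ⊓ V) →+ H^1(X, M)` for `U ⊔ V = ⊤`, semilinear, kernel `Γ(M, U) + Γ(M, V)`, surjective if
`U`, `V` are affine and `M` is quasi-coherent.
-/

set_option autoImplicit false
universe u

namespace Groth.Agent.Dix.TwoChart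

open CategoryTheory Opposite Limits AlgebraicGeometry TopologicalSpace Abelian
open Groth.Agent.CohqA Groth.Agent.FormalB

section Top

variable {X : TopCat.{u}} {F G : CohTop.Ab X} {U V W : Opens X} (h₄ : W = U ⊔ V)

/-- connecting map `F(U ⊓ V) → H^1(W, F)`, `W = U ⊔ V`. -/
noncomputable def deltaTop (F : CohTop.Ab X) : F.obj.obj (op (U ⊓ V)) →+ OpenMV.HO F 1 W :=
  (OpenMV.δ F h₄ rfl 0).comp (SheafH.H0 F (U ⊓ V)).symm.toAddMonoidHom

theorem deltaTop_apply (s : F.obj.obj (op (U ⊓ V))) :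
    deltaTop h₄ F s = OpenMV.δ F h₄ rfl 0 ((SheafH.H0 F (U ⊓ V)).symm s) := rfl

theorem deltaTop_map (φ : F ⟶ G) (s : F.obj.obj (op (U ⊓ V))) :
    OpenMV.mp φ 1 W (deltaTop h₄ F s) = deltaTop h₄ G (φ.hom.app _ s) := by
  rw [deltaTop_apply, deltaTop_apply, OpenMV.mp_δ]
  congr 1
  apply (SheafH.H0 G (U ⊓ V)).injective
  rw [AddEquiv.apply_symm_apply]
  refine (SheafH.H0_map φ _ _).trans ?_
  rw [AddEquiv.apply_symm_apply]

theorem H0_symm_res (h : U ≤ W) (s : F.obj.obj (op W)) :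
    OpenMV.rs F 0 h ((SheafH.H0 F W).symm s) = (SheafH.H0 F U).symm (F.obj.map (homOfLE h).op s) := by
  apply (SheafH.H0 F U).injective
  rw [AddEquiv.apply_symm_apply]
  refine (SheafH.H0_res F _ _).trans ?_
  rw [AddEquiv.apply_symm_apply]

theorem deltaTop_eq_zero_iff (s : F.obj.obj (op (U ⊓ V))) :
    deltaTop h₄ F s = 0 ↔ ∃ (a : F.obj.obj (op U)) (b : F.obj.obj (op V)),
      F.obj.map (homOfLE (inf_le_left : U ⊓ V ≤ U)).op a - F.obj.map (homOfLE (inf_le_right : U ⊓ V ≤ V)).op b = s := by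
  constructor
  · intro h
    rw [deltaTop_apply] at h
    obtain ⟨a, b, hab⟩ := OpenMV.exists_of_δ_eq_zero F h₄ rfl 0 inf_le_left inf_le_right _ h
    refine ⟨SheafH.H0 F U a, SheafH.H0 F V b, ?_⟩
    have := congrArg (SheafH.H0 F (U ⊓ V)) hab
    rw [AddEquiv.apply_symm_apply, map_sub] at this
    refine Eq.trans ?_ this
    congr 1
    · exact (SheafH.H0_res F _ _).symm
    · exact (SheafH.H0_res F _ _).symm
  · rintro ⟨a, b, rfl⟩
    rw [deltaTop_apply, map_sub, ← H0_symm_res, ← H0_symm_res]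
    exact OpenMV.δ_rs_sub F h₄ rfl 0 inf_le_left inf_le_right _ _

theorem deltaTop_surjective (hU : Subsingleton (OpenMV.HO F 1 U)) (hV : Subsingleton (OpenMV.HO F 1 V))
    (x : OpenMV.HO F 1 W) : ∃ s, deltaTop h₄ F s = x := by
  obtain ⟨z, hz⟩ := OpenMV.exists_of_rs_eq_zero F h₄ rfl 0 (h₄ ▸ le_sup_left) (h₄ ▸ le_sup_right) x
    (Subsingleton.elim _ _) (Subsingleton.elim _ _)
  exact ⟨SheafH.H0 F (U ⊓ V) z, by rw [deltaTop_apply, AddEquiv.symm_apply_apply, hz]⟩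

end Top

variable {X : Scheme.{u}} {U V : X.Opens} (hcov : U ⊔ V = ⊤) (M : X.Modules)

/-- connecting map `Γ(M, U ⊓ V) → H^1(X, M)`, `X = U ⊔ V`. -/
noncomputable def delta : Γ(M, U ⊓ V) →+ Coh.HH X M 1 :=
  ((SheafH.HEquivHU (Coh.toAb M) 1 (isTerminalTop (α := Opens X))).symm.toAddMonoidHom).comp
    (deltaTop (X := X.toTopCat) (W := (⊤ : Opens X)) hcov.symm (Coh.toAb M))

theorem delta_smul (r : Coh.Γtop X) (s : Γ(M, U ⊓ V)) :
    delta hcov M (@HSMul.hSMul (X.ringCatSheaf.obj.obj (op (U ⊓ V))) (M.val.obj (op (U ⊓ V))) (M.val.obj (op (U ⊓ V))) _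
      (Coh.resTop X (op (U ⊓ V)) r) s) = r • delta hcov M s := by
  apply (SheafH.HEquivHU (Coh.toAb M) 1 (isTerminalTop (α := Opens X))).injective
  refine ((SheafH.HEquivHU (Coh.toAb M) 1 (isTerminalTop (α := Opens X))).apply_symm_apply _).trans ?_
  refine Eq.trans ?_ (SheafH.HEquivHU_map (Coh.smulAb M r) 1 _ _).symm
  refine Eq.trans ?_ (congrArg _ ((SheafH.HEquivHU (Coh.toAb M) 1
    (isTerminalTop (α := Opens X))).apply_symm_apply _).symm)
  exact (deltaTop_map (X := X.toTopCat) (W := (⊤ : Opens X)) hcov.symm (Coh.smulAb M r) s).symm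

theorem delta_eq_zero_iff (s : Γ(M, U ⊓ V)) :
    delta hcov M s = 0 ↔ ∃ (a : Γ(M, U)) (b : Γ(M, V)),
      (Coh.toAb M).obj.map (homOfLE (inf_le_left : U ⊓ V ≤ U)).op a -
        (Coh.toAb M).obj.map (homOfLE (inf_le_right : U ⊓ V ≤ V)).op b = s := by
  refine Iff.trans ?_ (deltaTop_eq_zero_iff (X := X.toTopCat) (W := (⊤ : Opens X)) hcov.symm (F := Coh.toAb M) s)
  exact (SheafH.HEquivHU (Coh.toAb M) 1 (isTerminalTop (α := Opens X))).symm.map_eq_zero_iff

theorem delta_surjective (hM : Coh.IsQCoh M) (hU : IsAffineOpen U) (hV : IsAffineOpen V) :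
    Function.Surjective (delta hcov M) := by
  intro x
  have h1 : Subsingleton (OpenMV.HO (X := X.toTopCat) (Coh.toAb M) 1 U) :=
    ⟨fun a b ↦ (AffineVanish.HU_eq_zero M 0 U hU a).trans (AffineVanish.HU_eq_zero M 0 U hU b).symm⟩
  have h2 : Subsingleton (OpenMV.HO (X := X.toTopCat) (Coh.toAb M) 1 V) :=
    ⟨fun a b ↦ (AffineVanish.HU_eq_zero M 0 V hV a).trans (AffineVanish.HU_eq_zero M 0 V hV b).symm⟩
  obtain ⟨s, hs⟩ := deltaTop_surjective (X := X.toTopCat) (W := (⊤ : Opens X)) hcov.symm h1 h2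
    (SheafH.HEquivHU (Coh.toAb M) 1 (isTerminalTop (α := Opens X)) x)
  refine ⟨s, ?_⟩
  refine (congrArg (SheafH.HEquivHU (Coh.toAb M) 1 (isTerminalTop (α := Opens X))).symm hs).trans ?_
  exact AddEquiv.symm_apply_apply _ _

end Groth.Agent.Dix.TwoChart
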