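import Groth.Agent.Dix.TwoChart
import Groth.Agent.CurvesC.UnitCoh
import Mathlib.LinearAlgebra.FiniteDimensional.Basic

/-!
# `H^1` of the structure sheaf of a `K`-scheme covered by two affine opens: basis form
-/

set_option autoImplicit false
universe u

namespace Groth.Agent.Dix.TwoChartBasis

open CategoryTheory Opposite Limits AlgebraicGeometry TopologicalSpace Abelian
open Groth.Agent.Dix.TwoChart

/-- the scalars `K → Γ(X, W)` of a scheme over `K`. -/
noncomputable def cst (K : Type u) [CommRing K] {X : Scheme.{u}} (f : X ⟶ Spec (CommRingCat.of K)) (W : X.Opens) :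
    K →+* Γ(X, W) :=
  (Coh.resTop X (op W)).comp (Coh.toGlobal f)

theorem cst_res (K : Type u) [CommRing K] {X : Scheme.{u}} (f : X ⟶ Spec (CommRingCat.of K)) {W W' : X.Opens}
    (h : W' ≤ W) (c : K) : X.presheaf.map (homOfLE h).op (cst K f W c) = cst K f W' c :=
  Coh.resTop_comp (X := X) (op W) (op W') (homOfLE h).op _

theorem cst_eq (K : Type u) [CommRing K] {X : Scheme.{u}} (f : X ⟶ Spec (CommRingCat.of K)) (W : X.Opens) (c : K) :
    cst K f W c = (f.appLE ⊤ W le_top).hom ((Scheme.ΓSpecIso (CommRingCat.of K)).inv.hom c) := rfl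

variable {X : Scheme.{u}} {U V : X.Opens} (hcov : U ⊔ V = ⊤)

/-- the connecting map for the structure sheaf. -/
noncomputable def deltaO : Γ(X, U ⊓ V) →+ Coh.HH X (Coh.structureModule X) 1 :=
  delta hcov (Coh.structureModule X)

theorem deltaO_eq_zero_iff (s : Γ(X, U ⊓ V)) :
    deltaO hcov s = 0 ↔ ∃ (a : Γ(X, U)) (b : Γ(X, V)),
      X.presheaf.map (homOfLE (inf_le_left : U ⊓ V ≤ U)).op a -
        X.presheaf.map (homOfLE (inf_le_right : U ⊓ V ≤ V)).op b = s :=
  delta_eq_zero_iff hcov (Coh.structureModule X) s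

theorem deltaO_surjective (hU : IsAffineOpen U) (hV : IsAffineOpen V) :
    Function.Surjective (deltaO hcov) :=
  delta_surjective hcov (Coh.structureModule X) (CurvesC.UnitCoh.isQCoh_unit X) hU hV

theorem deltaO_smul (K : Type u) [CommRing K] [X.Over (Spec (CommRingCat.of K))] (c : K) (s : Γ(X, U ⊓ V)) :
    deltaO hcov (cst K (X ↘ Spec (CommRingCat.of K)) (U ⊓ V) c * s) = c • deltaO hcov s :=
  delta_smul hcov (Coh.structureModule X) (Coh.toGlobal (X ↘ Spec (CommRingCat.of K)) c) s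

section Abstract

variable {K : Type*} [Field K] {B A₁ A₂ H : Type*} [AddCommGroup H] [Module K H]
  [CommRing B] [AddCommGroup A₁] [AddCommGroup A₂]
  (r₁ : A₁ →+ B) (r₂ : A₂ →+ B) (c : K →+* B) (δ : B →+ H)
  (hδ : ∀ x b, δ (c x * b) = x • δ b) (hs : Function.Surjective δ)
  (hz : ∀ b, δ b = 0 ↔ ∃ a₁ a₂, r₁ a₁ - r₂ a₂ = b)

include hδ hs hz in
theorem exists_family_aux {n : ℕ} [Module.Finite K H] (hn : Module.finrank K H = n) :
    ∃ w : Fin n → B, ∀ s : B, ∃! x : Fin n → K, ∃ a₁ a₂, s = ∑ i, c (x i) * w i + r₁ a₁ - r₂ a₂ := by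
  let b : Module.Basis (Fin n) K H := Module.finBasisOfFinrankEq K H hn
  choose w hw using fun i ↦ hs (b i)
  have h1 : ∀ x : Fin n → K, δ (∑ i, c (x i) * w i) = ∑ i, x i • b i := by
    intro x
    rw [map_sum]
    exact Finset.sum_congr rfl fun i _ ↦ by rw [hδ, hw]
  refine ⟨w, fun s ↦ ⟨fun i ↦ b.repr (δ s) i, ?_, ?_⟩⟩
  · obtain ⟨a₁, a₂, h⟩ := (hz (s - ∑ i, c (b.repr (δ s) i) * w i)).1 (by
      rw [map_sub, h1, b.sum_repr, sub_self])
    refine ⟨a₁, a₂, ?_⟩
    rw [add_sub_assoc, h]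
    ring
  · rintro x ⟨a₁, a₂, h⟩
    have h2 : δ s = ∑ i, x i • b i := by
      rw [h, add_sub_assoc, map_add, (hz _).2 ⟨a₁, a₂, rfl⟩, add_zero, h1]
    funext i
    rw [h2, map_sum, Finsupp.finsetSum_apply]
    simp [Finsupp.single_apply]

end Abstract

include hcov in
/-- `K`-dimension of `H^1(X, O_X)` in terms of two affine charts: if `dim_K H^1(X, O_X) = n` there are
`w_1, …, w_n ∈ Γ(X, U ⊓ V)` such that every `s ∈ Γ(X, U ⊓ V)` is of the form `∑ x_i w_i + a| - b|`, `x_i ∈ K`,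
`a ∈ Γ(X, U)`, `b ∈ Γ(X, V)`, with unique `x`. -/
theorem exists_family (K : Type u) [Field K] [X.Over (Spec (CommRingCat.of K))]
    (hU : IsAffineOpen U) (hV : IsAffineOpen V) {n : ℕ} [Module.Finite K (Coh.HH X (Coh.structureModule X) 1)]
    (hn : Module.finrank K (Coh.HH X (Coh.structureModule X) 1) = n) :
    ∃ w : Fin n → Γ(X, U ⊓ V), ∀ s : Γ(X, U ⊓ V), ∃! x : Fin n → K, ∃ (a : Γ(X, U)) (b : Γ(X, V)),
      s = ∑ i, cst K (X ↘ Spec (CommRingCat.of K)) (U ⊓ V) (x i) * w i +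
        X.presheaf.map (homOfLE (inf_le_left : U ⊓ V ≤ U)).op a -
        X.presheaf.map (homOfLE (inf_le_right : U ⊓ V ≤ V)).op b :=
  exists_family_aux (X.presheaf.map (homOfLE (inf_le_left : U ⊓ V ≤ U)).op).hom.toAddMonoidHom
    (X.presheaf.map (homOfLE (inf_le_right : U ⊓ V ≤ V)).op).hom.toAddMonoidHom
    (cst K (X ↘ Spec (CommRingCat.of K)) (U ⊓ V)) (deltaO hcov) (deltaO_smul hcov K)
    (deltaO_surjective hcov hU hV) (deltaO_eq_zero_iff hcov) hn

include hcov in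
/-- the case of dimension one -/
theorem exists_generator (K : Type u) [Field K] [X.Over (Spec (CommRingCat.of K))]
    (hU : IsAffineOpen U) (hV : IsAffineOpen V)
    (hn : Module.finrank K (Coh.HH X (Coh.structureModule X) 1) = 1) :
    ∃ w : Γ(X, U ⊓ V), ∀ s : Γ(X, U ⊓ V), ∃! x : K, ∃ (a : Γ(X, U)) (b : Γ(X, V)),
      s = cst K (X ↘ Spec (CommRingCat.of K)) (U ⊓ V) x * w +
        X.presheaf.map (homOfLE (inf_le_left : U ⊓ V ≤ U)).op a -
        X.presheaf.map (homOfLE (inf_le_right : U ⊓ V ≤ V)).op b := by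
  have hfin : Module.Finite K (Coh.HH X (Coh.structureModule X) 1) :=
    Module.finite_of_finrank_eq_succ hn
  obtain ⟨w, hw⟩ := exists_family hcov K hU hV hn
  refine ⟨w 0, fun s ↦ ?_⟩
  obtain ⟨x, ⟨a, b, h⟩, hu⟩ := hw s
  refine ⟨x 0, ⟨a, b, ?_⟩, ?_⟩
  · simpa using h
  · rintro y ⟨a', b', h'⟩
    exact (congrFun (hu (fun _ ↦ y) ⟨a', b', by simpa using h'⟩) 0).symm ▸ rfl

include hcov in
/-- Only the injectivity part: no affineness. In particular infinitely many independent classes in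
`Γ(X, U ⊓ V)` modulo `Γ(X, V)` give a nonconstant section over `U`. -/
theorem exists_relation (K : Type u) [Field K] [X.Over (Spec (CommRingCat.of K))]
    [Module.Finite K (Coh.HH X (Coh.structureModule X) 1)] {n : ℕ}
    (hn : Module.finrank K (Coh.HH X (Coh.structureModule X) 1) < n) (w : Fin n → Γ(X, U ⊓ V)) :
    ∃ x : Fin n → K, x ≠ 0 ∧ ∃ (a : Γ(X, U)) (b : Γ(X, V)),
      ∑ i, cst K (X ↘ Spec (CommRingCat.of K)) (U ⊓ V) (x i) * w i =
        X.presheaf.map (homOfLE (inf_le_left : U ⊓ V ≤ U)).op a -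
        X.presheaf.map (homOfLE (inf_le_right : U ⊓ V ≤ V)).op b := by
  have h1 : ¬ LinearIndependent K (fun i ↦ deltaO hcov (w i)) := by
    intro h
    have := h.fintype_card_le_finrank
    rw [Fintype.card_fin] at this
    omega
  obtain ⟨x, hx, i, hi⟩ := Fintype.not_linearIndependent_iff.1 h1
  refine ⟨x, fun h ↦ hi (congrFun h i), ?_⟩
  obtain ⟨a, b, hab⟩ := (deltaO_eq_zero_iff hcov
    (∑ i, cst K (X ↘ Spec (CommRingCat.of K)) (U ⊓ V) (x i) * w i)).1 (by
      rw [map_sum, ← hx]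
      exact Finset.sum_congr rfl fun i _ ↦ deltaO_smul hcov K _ _)
  exact ⟨a, b, hab.symm⟩

end Groth.Agent.Dix.TwoChartBasis
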