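import Groth.Agent.EtpbcA.EqLocus

/-!
# Lifting sections by Zorn's lemma (flasque kernels), without quasi-compactness

`exists_lift`: `g : I ⟶ Q` a morphism of abelian étale sheaves, `q ∈ Q(U)`.  If `U` is covered by a
set `B` of opens `W` over which `q` lifts to `I(W)`, and such that sections of `ker g` over opens of
`W` extend to `W`, then `q` lifts to `I(U)`.
-/

set_option autoImplicit false
universe u
open CategoryTheory CategoryTheory.Limits AlgebraicGeometry Opposite

namespace Groth.Agent.Dix.ZornH1

open Groth.Agent.EtpbcA.EqLocus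

variable {X : Scheme.{u}}

theorem openι_cancel {U V : X.Etale} {O : U.left.Opens} {a b : V ⟶ openSub U O}
    (h : a ≫ openι U O = b ≫ openι U O) : a = b := by
  apply hom_ext
  have h1 : a.left ≫ O.ι = b.left ≫ O.ι := congrArg (fun k : V ⟶ U => k.left) h
  exact (cancel_mono O.ι).1 h1

/-- The inclusion between open subschemes. -/
noncomputable def incl (U : X.Etale) {V W : U.left.Opens} (h : V ≤ W) :
    openSub U V ⟶ openSub U W :=
  liftOpen W (openι U V) (by rw [range_openι]; exact h)

@[reassoc]
theorem incl_ι (U : X.Etale) {V W : U.left.Opens} (h : V ≤ W) :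
    incl U h ≫ openι U W = openι U V := liftOpen_ι _ _ _

variable {I Q : EtCoh.Ab X}

/-- Value of a morphism of sheaves on sections. -/
noncomputable abbrev app (g : I ⟶ Q) (U : X.Etale) (s : EtCoh.sect I U) : EtCoh.sect Q U :=
  g.hom.app (op U) s

theorem app_map (g : I ⟶ Q) {U V : X.Etale} (k : V ⟶ U) (s : EtCoh.sect I U) :
    app g V (I.obj.map k.op s) = Q.obj.map k.op (app g U s) :=
  ConcreteCategory.congr_hom (g.hom.naturality k.op) s

theorem mem_open_of_comp {U T : X.Etale} {V : U.left.Opens} (a : T ⟶ openSub U V) :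
    Set.range (a ≫ openι U V).left ⊆ V := by
  rintro _ ⟨t, rfl⟩
  have : (openι U V).left (a.left t) ∈ Set.range (openι U V).left := ⟨_, rfl⟩
  rw [range_openι] at this
  exact this

/-- Gluing over `V ⊔ W`. -/
theorem glue_two (U : X.Etale) (V W : U.left.Opens) (s : EtCoh.sect I (openSub U V))
    (t : EtCoh.sect I (openSub U W))
    (h : I.obj.map (incl U (inf_le_left : V ⊓ W ≤ V)).op s =
      I.obj.map (incl U (inf_le_right : V ⊓ W ≤ W)).op t) :
    ∃ r : EtCoh.sect I (openSub U (V ⊔ W)), I.obj.map (incl U (le_sup_left : V ≤ V ⊔ W)).op r = s ∧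
      I.obj.map (incl U (le_sup_right : W ≤ V ⊔ W)).op r = t := by
  let P : Bool → U.left.Opens := fun b => if b then V else W
  have key : ∀ (T : X.Etale) (a : T ⟶ openSub U V) (b : T ⟶ openSub U W),
      a ≫ openι U V = b ≫ openι U W → I.obj.map a.op s = I.obj.map b.op t := by
    intro T a b hab
    have hr : Set.range (a ≫ openι U V).left ⊆ (V ⊓ W : U.left.Opens) := by
      intro x hx
      refine ⟨mem_open_of_comp a hx, ?_⟩
      rw [hab] at hx
      exact mem_open_of_comp b hx
    let c := liftOpen (V ⊓ W) (a ≫ openι U V) hr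
    have hc : c ≫ openι U (V ⊓ W) = a ≫ openι U V := liftOpen_ι _ _ _
    have ha : a = c ≫ incl U inf_le_left := openι_cancel (by rw [Category.assoc, incl_ι, hc])
    have hb : b = c ≫ incl U inf_le_right := openι_cancel (by
      rw [Category.assoc, incl_ι, hc, hab])
    rw [ha, hb, map_comp, map_comp, h]
  obtain ⟨r, hr⟩ := exists_glue I (U := openSub U (V ⊔ W)) (ι := Bool)
    (fun b => match b with
      | true => openSub U V
      | false => openSub U W)
    (fun b => match b with
      | true => incl U le_sup_left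
      | false => incl U le_sup_right)
    (by
      intro x
      have hx : (openι U (V ⊔ W)).left x ∈ (V ⊔ W : U.left.Opens) := by
        have : (openι U (V ⊔ W)).left x ∈ Set.range (openι U (V ⊔ W)).left := ⟨_, rfl⟩
        rw [range_openι] at this
        exact this
      have hinj : Function.Injective (openι U (V ⊔ W)).left :=
        (openι U (V ⊔ W)).left.isOpenEmbedding.injective
      rcases hx with hx | hx
      · obtain ⟨v, hv⟩ : (openι U (V ⊔ W)).left x ∈ Set.range (openι U V).left := by
          rw [range_openι]; exact hx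
        refine ⟨true, v, hinj ?_⟩
        rw [← hv, ← incl_ι U (le_sup_left : V ≤ V ⊔ W)]
        rfl
      · obtain ⟨v, hv⟩ : (openι U (V ⊔ W)).left x ∈ Set.range (openι U W).left := by
          rw [range_openι]; exact hx
        refine ⟨false, v, hinj ?_⟩
        rw [← hv, ← incl_ι U (le_sup_right : W ≤ V ⊔ W)]
        rfl)
    (fun b => match b with
      | true => s
      | false => t)
    (by
      intro i j T a b hab
      match i, j, a, b, hab with
      | true, true, a, b, hab =>
        have : a = b := by
          apply openι_cancel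
          have h1 := congrArg (fun z => z ≫ openι U (V ⊔ W)) hab
          simpa only [Category.assoc, incl_ι] using h1
        rw [this]
      | false, false, a, b, hab =>
        have : a = b := by
          apply openι_cancel
          have h1 := congrArg (fun z => z ≫ openι U (V ⊔ W)) hab
          simpa only [Category.assoc, incl_ι] using h1
        rw [this]
      | true, false, a, b, hab =>
        refine key T a b ?_
        have h1 := congrArg (fun z => z ≫ openι U (V ⊔ W)) hab
        simpa only [Category.assoc, incl_ι] using h1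
      | false, true, a, b, hab =>
        refine (key T b a ?_).symm
        have h1 := congrArg (fun z => z ≫ openι U (V ⊔ W)) hab.symm
        simpa only [Category.assoc, incl_ι] using h1)
  exact ⟨r, hr true, hr false⟩

section Zorn

variable (g : I ⟶ Q) (U : X.Etale) (q : EtCoh.sect Q U)

/-- Partial lifts of `q`. -/
structure PL where
  /-- domain -/
  V : U.left.Opens
  /-- lift -/
  s : EtCoh.sect I (openSub U V)
  /-- it is a lift -/
  h : app g _ s = Q.obj.map (openι U V).op q

variable {g U q}

/-- Extension of partial lifts. -/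
def Le (p p' : PL g U q) : Prop := ∃ h : p.V ≤ p'.V, I.obj.map (incl U h).op p'.s = p.s

theorem Le.trans {p p' p'' : PL g U q} (h : Le p p') (h' : Le p' p'') : Le p p'' := by
  obtain ⟨a, ha⟩ := h
  obtain ⟨b, hb⟩ := h'
  refine ⟨a.trans b, ?_⟩
  have h1 : incl U (a.trans b) = incl U a ≫ incl U b := by
    apply openι_cancel
    rw [Category.assoc, incl_ι, incl_ι, incl_ι]
  rw [h1, map_comp, hb, ha]

theorem exists_ub (c : Set (PL g U q)) (hc : IsChain Le c) :
    ∃ ub : PL g U q, ∀ p ∈ c, Le p ub := by
  let V : U.left.Opens := ⨆ p : c, p.1.V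
  have hle : ∀ p : c, p.1.V ≤ V := fun p => le_iSup (fun p : c => p.1.V) p
  obtain ⟨r, hr⟩ := exists_glue I (U := openSub U V) (ι := c) (fun p => openSub U p.1.V)
    (fun p => incl U (hle p))
    (by
      intro x
      have hx : (openι U V).left x ∈ V := by
        have : (openι U V).left x ∈ Set.range (openι U V).left := ⟨_, rfl⟩
        rw [range_openι] at this
        exact this
      rw [TopologicalSpace.Opens.mem_iSup] at hx
      obtain ⟨p, hx⟩ := hx
      obtain ⟨v, hv⟩ : (openι U V).left x ∈ Set.range (openι U p.1.V).left := by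
        rw [range_openι]; exact hx
      refine ⟨p, v, (openι U V).left.isOpenEmbedding.injective ?_⟩
      rw [← hv, ← incl_ι U (hle p)]
      rfl)
    (fun p => p.1.s)
    (by
      have key : ∀ (p p' : c) (T : X.Etale) (a : T ⟶ openSub U p.1.V) (b : T ⟶ openSub U p'.1.V),
          Le p.1 p'.1 → a ≫ openι U p.1.V = b ≫ openι U p'.1.V →
            I.obj.map a.op p.1.s = I.obj.map b.op p'.1.s := by
        intro p p' T a b ⟨h, hs⟩ hab
        have : b = a ≫ incl U h := openι_cancel (by rw [Category.assoc, incl_ι, hab])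
        rw [this, map_comp, hs]
      intro p p' T a b hab
      have hab' : a ≫ openι U p.1.V = b ≫ openι U p'.1.V := by
        have h1 := congrArg (fun z => z ≫ openι U V) hab
        simpa only [Category.assoc, incl_ι] using h1
      by_cases hpp : p = p'
      · subst hpp
        rw [openι_cancel hab']
      · rcases hc p.2 p'.2 (fun h => hpp (Subtype.ext h)) with h | h
        · exact key p p' T a b h hab'
        · exact (key p' p T b a h hab'.symm).symm)
  refine ⟨⟨V, r, ?_⟩, fun p hp => ⟨hle ⟨p, hp⟩, hr ⟨p, hp⟩⟩⟩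
  apply Etbase.EtSite.sect_ext
  intro x
  have hx : (openι U V).left x ∈ V := by
    have : (openι U V).left x ∈ Set.range (openι U V).left := ⟨_, rfl⟩
    rw [range_openι] at this
    exact this
  rw [TopologicalSpace.Opens.mem_iSup] at hx
  obtain ⟨p, hx⟩ := hx
  obtain ⟨v, hv⟩ : (openι U V).left x ∈ Set.range (openι U p.1.V).left := by
    rw [range_openι]; exact hx
  refine ⟨openSub U p.1.V, incl U (hle p), v, (openι U V).left.isOpenEmbedding.injective ?_, ?_⟩
  · rw [← hv, ← incl_ι U (hle p)]
    rfl
  · rw [← app_map, hr, p.1.h, ← map_comp, incl_ι]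

variable (g U q)

/-- **Lifting by Zorn's lemma.** -/
theorem exists_lift (B : Set U.left.Opens) (hB : ∀ x : U.left, ∃ W ∈ B, x ∈ W)
    (h1 : ∀ W ∈ B, ∃ s : EtCoh.sect I (openSub U W), app g _ s = Q.obj.map (openι U W).op q)
    (h2 : ∀ W ∈ B, ∀ (V : U.left.Opens) (h : V ≤ W) (d : EtCoh.sect I (openSub U V)),
      app g _ d = 0 → ∃ d' : EtCoh.sect I (openSub U W), app g _ d' = 0 ∧
        I.obj.map (incl U h).op d' = d) :
    ∃ s : EtCoh.sect I U, app g _ s = q := by
  by_cases hne : Nonempty U.left
  swap
  · refine ⟨0, ?_⟩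
    apply Etbase.EtSite.sect_ext
    exact fun x => (hne ⟨x⟩).elim
  obtain ⟨x₀⟩ := hne
  obtain ⟨W₀, hW₀, -⟩ := hB x₀
  obtain ⟨s₀, hs₀⟩ := h1 W₀ hW₀
  obtain ⟨p, hp⟩ := exists_maximal_of_chains_bounded (r := Le (g := g) (U := U) (q := q))
    (by
      intro c hc
      rcases c.eq_empty_or_nonempty with rfl | hne
      · exact ⟨⟨W₀, s₀, hs₀⟩, fun a ha => (ha : False).elim⟩
      · exact exists_ub c hc)
    (fun h h' => Le.trans h h')
  have hV : p.V = ⊤ := by
    rw [eq_top_iff]
    intro x _
    by_contra hx
    obtain ⟨W, hW, hxW⟩ := hB x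
    obtain ⟨t, ht⟩ := h1 W hW
    let d : EtCoh.sect I (openSub U (p.V ⊓ W)) :=
      I.obj.map (incl U (inf_le_left : p.V ⊓ W ≤ p.V)).op p.s -
        I.obj.map (incl U (inf_le_right : p.V ⊓ W ≤ W)).op t
    have hd : app g _ d = 0 := by
      change g.hom.app _ (_ - _) = 0
      rw [map_sub]
      change app g _ _ - app g _ _ = 0
      rw [app_map, app_map, p.h, ht, ← map_comp, ← map_comp, incl_ι, incl_ι, sub_self]
    obtain ⟨d', hd', hdd⟩ := h2 W hW _ inf_le_right d hd
    obtain ⟨r, hr1, hr2⟩ := glue_two U p.V W p.s (t + d') (by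
      rw [map_add, hdd]
      exact (add_sub_cancel _ _).symm)
    have hr : app g _ r = Q.obj.map (openι U (p.V ⊔ W)).op q := by
      apply Etbase.EtSite.sect_ext
      intro y
      have hy : (openι U (p.V ⊔ W)).left y ∈ (p.V ⊔ W : U.left.Opens) := by
        have : (openι U (p.V ⊔ W)).left y ∈ Set.range (openι U (p.V ⊔ W)).left := ⟨_, rfl⟩
        rw [range_openι] at this
        exact this
      have hinj : Function.Injective (openι U (p.V ⊔ W)).left :=
        (openι U (p.V ⊔ W)).left.isOpenEmbedding.injective
      rcases hy with hy | hy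
      · obtain ⟨v, hv⟩ : (openι U (p.V ⊔ W)).left y ∈ Set.range (openι U p.V).left := by
          rw [range_openι]; exact hy
        refine ⟨_, incl U le_sup_left, v, hinj ?_, ?_⟩
        · rw [← hv, ← incl_ι U (le_sup_left : p.V ≤ p.V ⊔ W)]
          rfl
        · rw [← app_map, hr1, p.h, ← map_comp, incl_ι]
      · obtain ⟨v, hv⟩ : (openι U (p.V ⊔ W)).left y ∈ Set.range (openι U W).left := by
          rw [range_openι]; exact hy
        refine ⟨_, incl U le_sup_right, v, hinj ?_, ?_⟩
        · rw [← hv, ← incl_ι U (le_sup_right : W ≤ p.V ⊔ W)]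
          rfl
        · rw [← app_map, hr2, ← map_comp, incl_ι, ← ht]
          change g.hom.app _ (_ + _) = _
          rw [map_add]
          change app g _ t + app g _ d' = _
          rw [hd', add_zero]
    obtain ⟨h, -⟩ := hp ⟨p.V ⊔ W, r, hr⟩ ⟨le_sup_left, hr1⟩
    exact hx (h (Or.inr hxW))
  obtain ⟨V, s, hs⟩ := p
  subst hV
  let k : U ⟶ openSub U ⊤ := liftOpen ⊤ (𝟙 U) (fun _ _ => trivial)
  refine ⟨I.obj.map k.op s, ?_⟩
  rw [app_map, hs, ← map_comp, liftOpen_ι]
  simp

end Zorn

end Groth.Agent.Dix.ZornH1
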